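import Mathlib
import Cfsg.Agent.H902.Names
import Cfsg.Prelude.Def_LieTypeChar

/-!
# Groups of Lie type in characteristic `p` have names (helper364)
-/

set_option autoImplicit false

namespace Cfsg.Agent.H364.LieNam

open Cfsg Cfsg.Agent.OrdDiv Finset
open Cfsg.Agent.H902 Cfsg.Agent.H902.Names

universe u

theorem exists_pow {F : Type} [Field F] [Fintype F] {p : ℕ} (_hp : p.Prime) (hc : CharP F p) :
    ∃ f, 1 ≤ f ∧ Fintype.card F = p ^ f := by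
  have := hc
  obtain ⟨n, -, hn⟩ := FiniteField.card F p
  exact ⟨n, n.2, hn⟩

theorem root_eq {p q f k : ℕ} (hp : p.Prime) (hq : IsPrimePow q) (h : p ^ f = q ^ k) (hf : 1 ≤ f) :
    ∃ g, 1 ≤ g ∧ q = p ^ g := by
  obtain ⟨ℓ, g, hl, hg, rfl⟩ := (isPrimePow_nat_iff _).1 hq
  have h1 : p ∣ (ℓ ^ g) ^ k := by rw [← h]; exact dvd_pow_self p (by omega)
  have h2 : p = ℓ := (Nat.prime_dvd_prime_iff_eq hp hl).1 (hp.dvd_of_dvd_pow (hp.dvd_of_dvd_pow h1))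
  exact ⟨g, hg, by rw [h2]⟩

theorem root_eq' {F : Type} [Field F] [Fintype F] {p q k : ℕ} (hp : p.Prime) (hc : CharP F p) (hk : k ≠ 0)
    (h : Fintype.card F = q ^ k) : ∃ g, 1 ≤ g ∧ q = p ^ g := by
  obtain ⟨f, hf, hF⟩ := exists_pow hp hc
  have hqp : IsPrimePow q := by
    have h2 : IsPrimePow (q ^ k) := h ▸ Fintype.isPrimePow_card_of_field
    exact (isPrimePow_pow_iff hk).1 h2
  exact root_eq hp hqp (hF.symm.trans h) hf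

/-- a simple group of Lie type in characteristic `p` has a name in characteristic `p` -/
theorem lie_nam (T : OrderTable.{u}) {S : Type u} [Group S] {p : ℕ} (hp : p.Prime) (h : IsLieTypeChar p S) :
    ∃ g X f, IsLie g X p f ∧ OrdDiv.Real g S ∧ Art.Real X p f (Nat.card S) := by
  rcases h with h | h | h | h | h | h | h | h | h | h | h
  · obtain ⟨F, _, _, hc, n, hn, hn2, ⟨e⟩⟩ := h
    obtain ⟨f, hf, hF⟩ := exists_pow hp hc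
    rw [hF] at hn2
    exact ⟨_, _, f, .psl n p f, ⟨F, inferInstance, inferInstance, hF, ⟨e⟩⟩,
      by rw [Nat.card_congr e.toEquiv]; exact psl_real hp hf hF hn hn2⟩
  · obtain ⟨F, _, _, hc, n, hn, hn2, ⟨e⟩⟩ := h
    obtain ⟨f, hf, hF⟩ := exists_pow hp hc
    rw [hF] at hn2
    exact ⟨_, _, f, .psp n p f, ⟨F, inferInstance, inferInstance, hF, ⟨e⟩⟩,
      by rw [Nat.card_congr e.toEquiv]; exact psp_real hp hf hF hn hn2⟩
  · obtain ⟨F, _, _, hc, n, q, hF, hn, hn2, ⟨e⟩⟩ := h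
    obtain ⟨f, hf, rfl⟩ := root_eq' hp hc (by norm_num) hF
    exact ⟨_, _, f, .psu n p f, ⟨F, inferInstance, inferInstance, hF, ⟨e⟩⟩,
      by rw [Nat.card_congr e.toEquiv]; exact psu_real hp hf hF hn hn2⟩
  · obtain ⟨F, _, _, hc, n, hn, ho, ⟨e⟩⟩ := h
    obtain ⟨f, hf, hF⟩ := exists_pow hp hc
    rw [hF] at ho
    exact ⟨_, _, f, .oodd n p f hn ho, ⟨F, inferInstance, inferInstance, hF, ⟨e⟩⟩,
      by rw [Nat.card_congr e.toEquiv]; exact oodd_real hp hf hF hn ho⟩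
  · obtain ⟨F, _, _, hc, n, hn, ⟨e⟩⟩ := h
    obtain ⟨f, hf, hF⟩ := exists_pow hp hc
    exact ⟨_, _, f, .oplus n p f, ⟨F, inferInstance, inferInstance, hF, ⟨e⟩⟩,
      by rw [Nat.card_congr e.toEquiv]; exact oplus_real hp hf hF hn⟩
  · obtain ⟨F, _, _, hc, n, a, b, hn, hab, ⟨e⟩⟩ := h
    obtain ⟨f, hf, hF⟩ := exists_pow hp hc
    exact ⟨_, _, f, .ominus n p f, ⟨F, inferInstance, inferInstance, a, b, hF, hab, ⟨e⟩⟩,
      by rw [Nat.card_congr e.toEquiv]; exact ominus_real hp hf hF hn hab⟩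
  · obtain ⟨F, _, _, hc, h⟩ := h
    obtain ⟨f, hf, hF⟩ := exists_pow hp hc
    rcases h with ⟨hq, ⟨e⟩⟩ | ⟨⟨e⟩⟩ | ⟨⟨e⟩⟩ | ⟨⟨e⟩⟩ | ⟨⟨e⟩⟩
    · rw [hF] at hq
      refine ⟨_, _, f, .g2 p f, ⟨F, inferInstance, inferInstance, hF, ⟨e⟩⟩, ⟨hp, hf, hq, ?_⟩⟩
      rw [Nat.card_congr e.toEquiv, T.g2 F, hF]
      change 1 * _ = (p ^ f) ^ 6 * (_ * _)
      ring
    · refine ⟨_, _, f, .f4 p f, ⟨F, inferInstance, inferInstance, hF, ⟨e⟩⟩, ⟨hp, hf, trivial, ?_⟩⟩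
      rw [Nat.card_congr e.toEquiv, T.f4 F _ hF]
      change 1 * _ = (p ^ f) ^ 24 * (_ * _ * _ * _)
      ring
    · refine ⟨_, _, f, .e6 p f, ⟨F, inferInstance, inferInstance, hF, ⟨e⟩⟩, ⟨hp, hf, trivial, ?_⟩⟩
      rw [Nat.card_congr e.toEquiv]
      change Nat.gcd 3 (p ^ f - 1) * _ = (p ^ f) ^ 36 * (_ * _ * _ * _ * _ * _)
      rw [T.e6 F _ hF]
      ring
    · refine ⟨_, _, f, .e7 p f, ⟨F, inferInstance, inferInstance, hF, ⟨e⟩⟩, ⟨hp, hf, trivial, ?_⟩⟩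
      rw [Nat.card_congr e.toEquiv]
      change Nat.gcd 2 (p ^ f - 1) * _ = (p ^ f) ^ 63 * (_ * _ * _ * _ * _ * _ * _)
      rw [T.e7 F _ hF]
      ring
    · refine ⟨_, _, f, .e8 p f, ⟨F, inferInstance, inferInstance, hF, ⟨e⟩⟩, ⟨hp, hf, trivial, ?_⟩⟩
      rw [Nat.card_congr e.toEquiv, T.e8 F _ hF]
      change 1 * _ = (p ^ f) ^ 120 * (_ * _ * _ * _ * _ * _ * _ * _)
      ring
  · obtain ⟨F, _, _, hc, q, hq, h⟩ := h
    rcases h with ⟨hF, ⟨e⟩⟩ | ⟨hF, ⟨e⟩⟩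
    · obtain ⟨f, hf, rfl⟩ := root_eq' hp hc (by norm_num) hF
      refine ⟨_, _, f, .te6 p f, ⟨F, inferInstance, inferInstance, hF, ⟨e⟩⟩, ⟨hp, hf, trivial, ?_⟩⟩
      rw [Nat.card_congr e.toEquiv]
      change Nat.gcd 3 (p ^ f + 1) * _ = (p ^ f) ^ 36 * (_ * _ * _ * _ * _ * _)
      rw [T.te6 F _ hq hF]
      ring
    · obtain ⟨f, hf, rfl⟩ := root_eq' hp hc (by norm_num) hF
      refine ⟨_, _, f, .td4 p f, ⟨F, inferInstance, inferInstance, hF, ⟨e⟩⟩, ⟨hp, hf, trivial, ?_⟩⟩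
      rw [Nat.card_congr e.toEquiv, T.td4 F _ hq hF]
      change 1 * _ = (p ^ f) ^ 12 * (_ * _ * _)
      ring
  · obtain ⟨rfl, F, _, _, m, hm, hF, ⟨e⟩⟩ := h
    refine ⟨_, _, 2 * m + 1, .sz 2 (2 * m + 1), ⟨F, inferInstance, inferInstance, m, hm, hF, rfl, ⟨e⟩⟩,
      ⟨Nat.prime_two, by omega, ⟨rfl, odd_two_mul_add_one m, by omega⟩, ?_⟩⟩
    rw [Nat.card_congr e.toEquiv, T.sz F m hm hF]
    change 1 * _ = (2 ^ (2 * m + 1)) ^ 2 * (_ * _)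
    ring
  · obtain ⟨rfl, F, _, _, m, hm, hF, ⟨e⟩⟩ := h
    refine ⟨_, _, 2 * m + 1, .tf4 2 (2 * m + 1), ⟨F, inferInstance, inferInstance, m, hm, hF, rfl, ⟨e⟩⟩,
      ⟨Nat.prime_two, by omega, ⟨rfl, odd_two_mul_add_one m, by omega⟩, ?_⟩⟩
    rw [Nat.card_congr e.toEquiv, T.tf4 F m hm hF]
    change 1 * _ = (2 ^ (2 * m + 1)) ^ 12 * (_ * _ * _ * _)
    ring
  · obtain ⟨rfl, F, _, _, m, hm, hF, ⟨e⟩⟩ := h
    refine ⟨_, _, 2 * m + 1, .ree 3 (2 * m + 1), ⟨F, inferInstance, inferInstance, m, hm, hF, rfl, ⟨e⟩⟩,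
      ⟨Nat.prime_three, by omega, ⟨rfl, odd_two_mul_add_one m, by omega⟩, ?_⟩⟩
    rw [Nat.card_congr e.toEquiv, T.ree F m hm hF]
    change 1 * _ = (3 ^ (2 * m + 1)) ^ 3 * (_ * _)
    ring

end Cfsg.Agent.H364.LieNam
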