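import Mathlib
import Cfsg.Agent.Lib.MinNormal
import Cfsg.Agent.Lib.ActCount

/-!
# Groups without elements of order `r * s`: general lemmas (helper364)
-/

set_option autoImplicit false

namespace Cfsg.Agent.H364

open Subgroup

/-- `G` has no element of order `r * s`. -/
def NoEdge (G : Type*) [Group G] (r s : ℕ) : Prop := ∀ x : G, orderOf x ≠ r * s

theorem NoEdge.symm {G : Type*} [Group G] {r s : ℕ} (h : NoEdge G r s) : NoEdge G s r := fun x hx =>
  h x (by rw [hx, mul_comm])

theorem noEdge_of_injective {G H : Type*} [Group G] [Group H] (f : G →* H) (hf : Function.Injective f) {r s : ℕ}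
    (h : NoEdge H r s) : NoEdge G r s := fun x hx => h (f x) (by rw [orderOf_injective f hf, hx])

theorem noEdge_subgroup {G : Type*} [Group G] (K : Subgroup G) {r s : ℕ} (h : NoEdge G r s) : NoEdge K r s :=
  noEdge_of_injective K.subtype K.subtype_injective h

/-- Orders of elements lift along surjections of finite groups. -/
theorem exists_orderOf_lift {G H : Type*} [Group G] [Group H] [Finite G] (f : G →* H)
    (hf : Function.Surjective f) (x : H) : ∃ y : G, orderOf y = orderOf x := by
  obtain ⟨y, rfl⟩ := hf x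
  obtain ⟨k, hk⟩ := orderOf_map_dvd f y
  have hy : 0 < orderOf y := orderOf_pos y
  have hk0 : k ≠ 0 := by
    rintro rfl
    rw [mul_zero] at hk
    omega
  refine ⟨y ^ k, ?_⟩
  rw [orderOf_pow_of_dvd hk0 (Dvd.intro_left _ hk.symm)]
  rw [hk]
  exact Nat.mul_div_cancel _ (Nat.pos_of_ne_zero hk0)

theorem noEdge_of_surjective {G H : Type*} [Group G] [Group H] [Finite G] (f : G →* H)
    (hf : Function.Surjective f) {r s : ℕ} (h : NoEdge G r s) : NoEdge H r s := fun x hx => by
  obtain ⟨y, hy⟩ := exists_orderOf_lift f hf x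
  exact h y (hy.trans hx)

theorem noEdge_quotient {G : Type*} [Group G] [Finite G] (K : Subgroup G) [K.Normal] {r s : ℕ}
    (h : NoEdge G r s) : NoEdge (G ⧸ K) r s :=
  noEdge_of_surjective (QuotientGroup.mk' K) (QuotientGroup.mk'_surjective K) h

/-- Commuting non-trivial elements of an `r`-group and of an `s`-group give an element of order `r * s`. -/
theorem NoEdge.false_of_commute {G : Type*} [Group G] {r s : ℕ} (hr : r.Prime) (hs : s.Prime) (hrs : r ≠ s)
    (h : NoEdge G r s) {x y : G} (hxy : Commute x y) (hx : orderOf x = r) (hy : orderOf y = s) : False := by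
  refine h (x * y) ?_
  rw [hxy.orderOf_mul_eq_mul_orderOf_of_coprime, hx, hy]
  rw [hx, hy]
  exact (Nat.coprime_primes hr hs).2 hrs

/-- A power of a nontrivial element whose order is divisible by `r` has order `r`. -/
theorem exists_pow_orderOf {G : Type*} [Group G] [Finite G] {r : ℕ} (x : G) (h : r ∣ orderOf x) : ∃ k : ℕ, orderOf (x ^ k) = r := by
  obtain ⟨k, hk⟩ := h
  have hx : 0 < orderOf x := orderOf_pos x
  have hk0 : k ≠ 0 := by
    rintro rfl
    rw [mul_zero] at hk
    omega
  refine ⟨k, ?_⟩
  rw [orderOf_pow_of_dvd hk0 (Dvd.intro_left _ hk.symm), hk]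
  exact Nat.mul_div_cancel _ (Nat.pos_of_ne_zero hk0)

/-- Version for arbitrary commuting elements of order divisible by `r`, `s`. -/
theorem NoEdge.false_of_dvd {G : Type*} [Group G] [Finite G] {r s : ℕ} (hr : r.Prime) (hs : s.Prime) (hrs : r ≠ s)
    (h : NoEdge G r s) {x y : G} (hxy : Commute x y) (hx : r ∣ orderOf x) (hy : s ∣ orderOf y) : False := by
  obtain ⟨k, hk⟩ := exists_pow_orderOf x hx
  obtain ⟨l, hl⟩ := exists_pow_orderOf y hy
  exact h.false_of_commute hr hs hrs (hxy.pow_pow k l) hk hl

/-- If `r ∣ |A|`, `s ∣ |B|` and `A`, `B` commute elementwise, contradiction. -/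
theorem NoEdge.false_of_subgroups {G : Type*} [Group G] [Finite G] {r s : ℕ} (hr : r.Prime) (hs : s.Prime)
    (hrs : r ≠ s) (h : NoEdge G r s) {A B : Subgroup G} (hc : ∀ a ∈ A, ∀ b ∈ B, Commute a b)
    (hA : r ∣ Nat.card A) (hB : s ∣ Nat.card B) : False := by
  have := Fact.mk hr
  have := Fact.mk hs
  obtain ⟨a, ha⟩ := exists_prime_orderOf_dvd_card' r hA
  obtain ⟨b, hb⟩ := exists_prime_orderOf_dvd_card' s hB
  refine h.false_of_commute hr hs hrs (hc a a.2 b b.2) ?_ ?_
  · rw [← ha]; exact Subgroup.orderOf_coe a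
  · rw [← hb]; exact Subgroup.orderOf_coe b

/-- A group acting with no nontrivial fixed points on a group: the order is `≡ 1`. -/
theorem card_dvd_sub_one {R Q : Type*} [Group R] [Group Q] [MulDistribMulAction R Q] [Finite R] [Finite Q]
    (h : ∀ x : R, x ≠ 1 → ∀ q : Q, x • q = q → q = 1) : Nat.card R ∣ Nat.card Q - 1 := by
  classical
  -- the action on the nontrivial elements
  have hne : ∀ (x : R) (q : {q : Q // q ≠ 1}), x • (q : Q) ≠ 1 := fun x q hq => q.2 (by
    have : x⁻¹ • (x • (q : Q)) = x⁻¹ • (1 : Q) := by rw [hq]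
    rwa [inv_smul_smul, smul_one] at this)
  let act : MulAction R {q : Q // q ≠ 1} :=
    { smul := fun x q => ⟨x • (q : Q), hne x q⟩
      one_smul := fun q => Subtype.ext (one_smul R (q : Q))
      mul_smul := fun x y q => Subtype.ext (mul_smul x y (q : Q)) }
  have hstab : ∀ q : {q : Q // q ≠ 1}, Nat.card (MulAction.stabilizer R q) = 1 := by
    intro q
    have : MulAction.stabilizer R q = ⊥ := by
      rw [eq_bot_iff]
      intro x hx
      rw [Subgroup.mem_bot]
      by_contra hx1
      have h1 : x • q = q := hx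
      have h2 : x • (q : Q) = (q : Q) := congrArg Subtype.val h1
      exact q.2 (h x hx1 _ h2)
    rw [this]
    exact Subgroup.card_bot
  obtain ⟨m, hm⟩ := Cfsg.Agent.Lib.ActCount.exists_card_mul (H := R) (Y := {q : Q // q ≠ 1}) 1 hstab
  have hcard : Nat.card {q : Q // q ≠ 1} = Nat.card Q - 1 := by
    have := Fintype.ofFinite Q
    rw [Nat.card_eq_fintype_card, Fintype.card_subtype_compl, Fintype.card_subtype_eq, Nat.card_eq_fintype_card]
  rw [one_mul, hcard] at hm
  exact Dvd.intro_left _ hm.symm

/-- A prime divides the `r`-part only if ... : valuations of the order of the normaliser of a Sylow subgroup of a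
normal subgroup of order prime to `r`. -/
theorem factorization_normalizer {G : Type*} [Group G] [Finite G] {K : Subgroup G} [K.Normal] {r t : ℕ}
    (hr : r.Prime) [Fact t.Prime] (hrK : ¬ r ∣ Nat.card K) (Q : Sylow t K) :
    (Nat.card (normalizer ((Q : Subgroup K).map K.subtype : Set G))).factorization r =
      (Nat.card G).factorization r := by
  set N : Subgroup G := normalizer ((Q : Subgroup K).map K.subtype : Set G) with hN
  have h1 : N ⊔ K = ⊤ := Sylow.normalizer_sup_eq_top Q
  have h2 : K.index = K.relIndex N := by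
    rw [← Subgroup.relIndex_top_right, ← h1, Subgroup.relIndex_sup_right]
  have h3 : Nat.card K * K.index = Nat.card G := Subgroup.card_mul_index K
  have h4 : Nat.card (K ⊓ N : Subgroup G) * K.relIndex N = Nat.card N := by
    rw [← Subgroup.inf_relIndex_right K N, ← Subgroup.relIndex_bot_left (K ⊓ N), ← Subgroup.relIndex_bot_left N]
    exact Subgroup.relIndex_mul_relIndex _ _ _ bot_le inf_le_right
  have h5 : ¬ r ∣ Nat.card (K ⊓ N : Subgroup G) := fun h =>
    hrK (h.trans (Subgroup.card_dvd_of_le inf_le_left))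
  have h6 : K.index ≠ 0 := Subgroup.index_ne_zero_of_finite
  rw [← h3, ← h4, ← h2, Nat.factorization_mul Nat.card_pos.ne' h6, Nat.factorization_mul Nat.card_pos.ne' h6,
    Finsupp.add_apply, Finsupp.add_apply, Nat.factorization_eq_zero_of_not_dvd h5,
    Nat.factorization_eq_zero_of_not_dvd hrK]

/-- **Fixed point free congruence**: `K` normal of order prime to `r`, no elements of order `r t`; then
`|K|_t ≡ 1 mod |G|_r`. -/
theorem congr_one {G : Type*} [Group G] [Finite G] (K : Subgroup G) [K.Normal] {r t : ℕ}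
    (hr : r.Prime) (ht : t.Prime) (hrt : r ≠ t) (hrK : ¬ r ∣ Nat.card K) (h : NoEdge G r t) :
    r ^ (Nat.card G).factorization r ∣ t ^ (Nat.card K).factorization t - 1 := by
  have := Fact.mk hr
  have := Fact.mk ht
  obtain ⟨Q⟩ : Nonempty (Sylow t K) := inferInstance
  set N : Subgroup G := normalizer ((Q : Subgroup K).map K.subtype : Set G) with hN
  obtain ⟨R⟩ : Nonempty (Sylow r N) := inferInstance
  have hR : Nat.card R = r ^ (Nat.card G).factorization r := by
    rw [R.card_eq_multiplicity, factorization_normalizer hr hrK Q]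
  have hQ : Nat.card Q = t ^ (Nat.card K).factorization t := Q.card_eq_multiplicity
  set Q' : Subgroup G := (Q : Subgroup K).map K.subtype with hQ'
  have hQ'c : Nat.card Q' = Nat.card Q := by
    rw [hQ', Subgroup.card_map_of_injective K.subtype_injective]
  have hact : ∀ x : N, ∀ q ∈ Q', (x : G) * q * (x : G)⁻¹ ∈ Q' := fun x q hq =>
    (Subgroup.mem_normalizer_iff.1 x.2 q).1 hq
  let act : MulDistribMulAction (R : Subgroup N) Q' :=
    { smul := fun x q => ⟨((x : N) : G) * q * ((x : N) : G)⁻¹, hact x q q.2⟩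
      one_smul := fun q => Subtype.ext (by
        change ((1 : N) : G) * q * ((1 : N) : G)⁻¹ = q
        simp)
      mul_smul := fun x y q => Subtype.ext (by
        change (((x * y : (R : Subgroup N)) : N) : G) * q * (((x * y : (R : Subgroup N)) : N) : G)⁻¹ =
          ((x : N) : G) * (((y : N) : G) * q * ((y : N) : G)⁻¹) * ((x : N) : G)⁻¹
        simp [mul_assoc])
      smul_one := fun x => Subtype.ext (by
        change ((x : N) : G) * ((1 : Q') : G) * ((x : N) : G)⁻¹ = 1
        simp)
      smul_mul := fun x a b => Subtype.ext (by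
        change ((x : N) : G) * ((a * b : Q') : G) * ((x : N) : G)⁻¹ =
          (((x : N) : G) * a * ((x : N) : G)⁻¹) * (((x : N) : G) * b * ((x : N) : G)⁻¹)
        simp [mul_assoc]) }
  have key : Nat.card R ∣ Nat.card Q' - 1 := by
    refine card_dvd_sub_one (R := (R : Subgroup N)) (Q := Q') ?_
    intro x hx q hq
    by_contra hq1
    have h1 : ((x : N) : G) * q * ((x : N) : G)⁻¹ = q := congrArg Subtype.val hq
    have hc : Commute ((x : N) : G) (q : G) := mul_inv_eq_iff_eq_mul.1 h1
    have hxr : r ∣ orderOf ((x : N) : G) := by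
      have h2 : orderOf x ≠ 1 := fun h => hx (orderOf_eq_one_iff.1 h)
      have h3 : orderOf ((x : N) : G) = orderOf x := by
        rw [Subgroup.orderOf_coe, Subgroup.orderOf_coe]
      rw [h3]
      obtain ⟨k, hk⟩ := (IsPGroup.iff_orderOf.1 R.isPGroup') x
      rw [hk] at h2 ⊢
      exact dvd_pow_self r (by rintro rfl; exact h2 (pow_zero r))
    have hqt : t ∣ orderOf (q : G) := by
      have hpg : IsPGroup t Q' := Q.isPGroup'.map K.subtype
      have h2 : orderOf q ≠ 1 := fun h => hq1 (orderOf_eq_one_iff.1 h)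
      rw [Subgroup.orderOf_coe]
      obtain ⟨k, hk⟩ := (IsPGroup.iff_orderOf.1 hpg) q
      rw [hk] at h2 ⊢
      exact dvd_pow_self t (by rintro rfl; exact h2 (pow_zero t))
    exact h.false_of_dvd hr ht hrt hc hxr hqt
  rwa [hR, hQ'c, hQ] at key

end Cfsg.Agent.H364
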