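import Mathlib
import Cfsg.Agent.H364.Iso2

/-!
# Isolated cyclic Hall subgroups: the general structure theorem (helper364)
-/

set_option autoImplicit false

namespace Cfsg.Agent.H364

open Subgroup

theorem modEq_one_of_parts {m c : ℕ} (hc : c ≠ 0) (h : ∀ t, t.Prime → m ∣ t ^ c.factorization t - 1) :
    c ≡ 1 [MOD m] := by
  have h1 : c = c.factorization.prod fun p k => p ^ k := (Nat.prod_factorization_pow_eq_self hc).symm
  rw [h1, Finsupp.prod]
  have : ∀ s : Finset ℕ, (∀ p ∈ s, p.Prime) → ∏ p ∈ s, p ^ c.factorization p ≡ 1 [MOD m] := by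
    intro s
    induction s using Finset.induction_on with
    | empty => intro _; simp; rfl
    | insert a s ha ih =>
      intro hs
      rw [Finset.prod_insert ha]
      have h2 := ih fun p hp => hs p (Finset.mem_insert_of_mem hp)
      have hpa : a.Prime := hs a (Finset.mem_insert_self _ _)
      have h3 : a ^ c.factorization a ≡ 1 [MOD m] := by
        have h4 : 1 ≤ a ^ c.factorization a := Nat.one_le_pow _ _ hpa.pos
        exact ((Nat.modEq_iff_dvd' h4).2 (h a hpa)).symm
      simpa using h3.mul h2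
  exact this _ fun p hp => by
    rw [Nat.support_factorization] at hp
    exact Nat.prime_of_mem_primeFactors hp

theorem dvd_of_prime_parts {m x : ℕ} (hm : m ≠ 0) (h : ∀ r, r.Prime → r ∣ m → r ^ m.factorization r ∣ x) : m ∣ x := by
  rcases Nat.eq_zero_or_pos x with rfl | hx
  · exact dvd_zero m
  · rw [← Nat.factorization_le_iff_dvd hm hx.ne']
    intro r
    by_cases hr : r.Prime
    · by_cases hrm : r ∣ m
      · exact (hr.pow_dvd_iff_le_factorization hx.ne').1 (h r hr hrm)
      · rw [Nat.factorization_eq_zero_of_not_dvd hrm]; exact Nat.zero_le _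
    · rw [Nat.factorization_eq_zero_of_not_prime _ hr]; exact Nat.zero_le _

variable {G : Type*} [Group G] [Finite G] {T : Subgroup G} {m : ℕ}

theorem Isol.quotient (h : Isol G T m) {K : Subgroup G} [K.Normal] (hK : (Nat.card K).Coprime m) :
    Isol (G ⧸ K) (T.map (QuotientGroup.mk' K)) m := by
  have hdisj : T ⊓ K = ⊥ := by
    rw [← Subgroup.card_eq_one]
    have h1 : Nat.card (T ⊓ K : Subgroup G) ∣ m := h.card ▸ Subgroup.card_dvd_of_le inf_le_left
    have h2 : Nat.card (T ⊓ K : Subgroup G) ∣ Nat.card K := Subgroup.card_dvd_of_le inf_le_right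
    exact Nat.eq_one_of_dvd_coprimes hK h2 h1
  have hcard : Nat.card (T.map (QuotientGroup.mk' K)) = m := by
    rw [← h.card]
    refine (Nat.card_congr (Equiv.ofBijective (fun t : T => (⟨QuotientGroup.mk' K t, Subgroup.mem_map_of_mem _ t.2⟩ :
      T.map (QuotientGroup.mk' K))) ⟨?_, ?_⟩)).symm
    · intro s t hst
      have h1 : QuotientGroup.mk' K (s : G) = QuotientGroup.mk' K (t : G) := congrArg Subtype.val hst
      have h2 : (s : G)⁻¹ * t ∈ K := QuotientGroup.eq.1 h1
      have h3 : (s : G)⁻¹ * t ∈ T ⊓ K := ⟨T.mul_mem (T.inv_mem s.2) t.2, h2⟩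
      rw [hdisj, Subgroup.mem_bot] at h3
      exact Subtype.ext (inv_mul_eq_one.1 h3)
    · rintro ⟨x, hx⟩
      obtain ⟨t, ht, rfl⟩ := Subgroup.mem_map.1 hx
      exact ⟨⟨t, ht⟩, rfl⟩
  have hGK : Nat.card G = Nat.card K * Nat.card (G ⧸ K) := by
    rw [← Subgroup.card_mul_index K, Subgroup.index_eq_card]
  have hm : m ∣ Nat.card (G ⧸ K) := hcard ▸ Subgroup.card_subgroup_dvd_card _
  refine ⟨?_, hcard, ?_, fun r s hr hs hrm hsm => noEdge_quotient K (h.edge r s hr hs hrm hsm)⟩
  · have := h.cyc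
    let f : T →* T.map (QuotientGroup.mk' K) := (QuotientGroup.mk' K).subgroupMap T
    exact isCyclic_of_surjective f ((QuotientGroup.mk' K).subgroupMap_surjective T)
  · have h1 := h.cop
    rw [hGK, Nat.mul_div_assoc _ hm] at h1
    exact Nat.Coprime.coprime_dvd_right (Dvd.intro_left _ rfl) h1

/-- **General structure theorem** for a finite group with an isolated cyclic Hall subgroup of odd order `m > 1`. -/
theorem Isol.struct (h : Isol G T m) (hm : 1 < m) (h2 : ¬ 2 ∣ m) :
    ∃ (K : Subgroup G) (_ : K.Normal) (n : ℕ), (Nat.card K).Coprime m ∧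
      (∀ t, t.Prime → m ∣ t ^ (Nat.card K).factorization t - 1) ∧
      (∀ r, r.Prime → r ∣ m → n ∣ r - 1 ∧ Nat.card G / m ≡ n [MOD r]) ∧
      (Nat.card G = Nat.card K * (m * n) ∨
        ∃ N : Subgroup (G ⧸ K), N.Normal ∧ IsSimpleGroup N ∧ (¬ ∀ a b : N, a * b = b * a) ∧
          centralizer (N : Set (G ⧸ K)) = ⊥ ∧ m ∣ Nat.card N ∧ ∃ n', 1 < n' ∧ n' * N.index = n) := by
  obtain ⟨K, hKn, hKm, hmax⟩ := exists_core G m
  have hGK : Nat.card G = Nat.card K * Nat.card (G ⧸ K) := by
    rw [← Subgroup.card_mul_index K, Subgroup.index_eq_card]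
  have hq := h.quotient hKm
  obtain ⟨n, hn, hnr⟩ := hq.exists_n
  have hparts : ∀ t, t.Prime → m ∣ t ^ (Nat.card K).factorization t - 1 := by
    intro t ht
    by_cases htm : t ∣ m
    · have h3 : ¬ t ∣ Nat.card K := fun h4 => by
        have := Nat.dvd_gcd h4 htm
        rw [hKm] at this
        exact ht.one_lt.ne' (Nat.dvd_one.1 this)
      rw [Nat.factorization_eq_zero_of_not_dvd h3, pow_zero, Nat.sub_self]
      exact dvd_zero m
    · apply dvd_of_prime_parts h.pos.ne'
      intro r hr hrm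
      rw [h.factorization_eq hr hrm]
      refine congr_one K hr ht ?_ ?_ (h.edge r t hr ht hrm htm)
      · rintro rfl; exact htm hrm
      · intro h4
        have := Nat.dvd_gcd h4 hrm
        rw [hKm] at this
        exact hr.one_lt.ne' (Nat.dvd_one.1 this)
  have hK1 : Nat.card K ≡ 1 [MOD m] := modEq_one_of_parts Nat.card_pos.ne' hparts
  refine ⟨K, hKn, n, hKm, hparts, fun r hr hrm => ⟨hnr r hr hrm, ?_⟩, ?_⟩
  · have h3 := hq.modEq hn hr hrm
    have h4 : Nat.card G / m = Nat.card K * (Nat.card (G ⧸ K) / m) := by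
      rw [hGK, Nat.mul_div_assoc _ hq.dvd]
    rw [h4]
    have h5 : Nat.card K ≡ 1 [MOD r] := Nat.ModEq.of_dvd hrm hK1
    simpa using h5.mul h3
  · rcases hq.struct_core hm h2 hn (core_quotient hKm hmax) with h3 | ⟨N, h3, h4, h5, h6, h7, h8⟩
    · left
      rw [hGK, h3]
    · right
      refine ⟨N, h3, h4, h5, h6, ?_, h8⟩
      rw [← hq.card]
      exact Subgroup.card_dvd_of_le h7

end Cfsg.Agent.H364
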