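import Mathlib
import Cfsg.Agent.H150.FarOrthEven
import Cfsg.Agent.H420.Lift

/-!
# Elements of order `r p` and `p ^ j` in `PΩ(2n, q)` (helper364)
-/

set_option autoImplicit false
set_option linter.style.haveILetI false

namespace Cfsg.Agent.H364.OrthUnip

open Module Cfsg
open Cfsg.Agent.LieClassical.OrthCount Cfsg.Agent.H150 Cfsg.Agent.H377

variable {F : Type*} [Field F]

theorem pow_finrank_eq_zero {V : Type*} [AddCommGroup V] [Module F V] [FiniteDimensional F V] {N : V →ₗ[F] V}
    (hN : IsNilpotent N) : N ^ finrank F V = 0 := by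
  have h1 := (LinearMap.charpoly_eq_X_pow_iff N).2 (fun m => by
    obtain ⟨k, hk⟩ := hN
    exact ⟨k, by rw [hk]; rfl⟩)
  have h2 := LinearMap.aeval_self_charpoly N
  rw [h1] at h2
  simpa using h2

/-- a unipotent isometry of a nondegenerate plane is trivial -/
theorem two_dim (h2 : (2 : F) ≠ 0) {V : Type*} [AddCommGroup V] [Module F V] [FiniteDimensional F V]
    (B : LinearMap.BilinForm F V) (hsym : ∀ v w, B v w = B w v) (hnd : ∀ u, (∀ v, B u v = 0) → u = 0)
    (hdim : finrank F V ≤ 2) (u : V →ₗ[F] V) (hu : ∀ v w, B (u v) (u w) = B v w) (hN : IsNilpotent (u - 1)) :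
    u = 1 := by
  by_contra hne
  set N := u - 1 with hNdef
  have hN2 : N ^ 2 = 0 := by
    have h1 := pow_finrank_eq_zero hN
    obtain ⟨c, hc⟩ := Nat.exists_eq_add_of_le hdim
    rw [hc, pow_add, h1, zero_mul]
  have hNN : ∀ v, N (N v) = 0 := fun v => by
    have := LinearMap.congr_fun hN2 v
    rwa [sq] at this
  have hN0 : N ≠ 0 := fun h => hne (sub_eq_zero.1 h)
  obtain ⟨v, hv⟩ : ∃ v, N v ≠ 0 := by
    by_contra hcon
    push Not at hcon
    exact hN0 (LinearMap.ext hcon)
  set w := N v with hw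
  have huv : u v = v + w := by rw [hw, hNdef]; simp
  have huw : u w = w := by
    have h1 := hNN v
    rw [← hw, hNdef, LinearMap.sub_apply, Module.End.one_apply, sub_eq_zero] at h1
    exact h1
  have h3 : B w w = 0 := by
    have h1 := hu v w
    rw [huv, huw, map_add, LinearMap.add_apply] at h1
    linear_combination h1
  have h4 : B v w = 0 := by
    have h1 := hu v v
    rw [huv, map_add, map_add, LinearMap.add_apply, LinearMap.add_apply, hsym w v, h3] at h1
    have h5 : 2 * B v w = 0 := by linear_combination h1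
    exact (mul_eq_zero.1 h5).resolve_left h2
  have hli : LinearIndependent F ![v, w] := by
    rw [LinearIndependent.pair_iff]
    intro s t hst
    have h1 : s • w = 0 := by
      have h5 := congrArg N hst
      rw [map_add, map_smul, map_smul, map_zero, ← hw, hNN v, smul_zero, add_zero] at h5
      exact h5
    have hs : s = 0 := (smul_eq_zero.1 h1).resolve_right hv
    rw [hs, zero_smul, zero_add] at hst
    exact ⟨hs, (smul_eq_zero.1 hst).resolve_right hv⟩
  have hspan : Submodule.span F (Set.range ![v, w]) = ⊤ := by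
    apply hli.span_eq_top_of_card_eq_finrank'
    have h5 := hli.fintype_card_le_finrank
    rw [Fintype.card_fin] at h5 ⊢
    omega
  apply hv
  apply hnd
  intro x
  have hx : x ∈ Submodule.span F (Set.range ![v, w]) := by rw [hspan]; trivial
  rw [Matrix.range_cons, Matrix.range_cons, Matrix.range_empty, Set.union_empty, Set.singleton_union,
    Submodule.mem_span_pair] at hx
  obtain ⟨a, b, rfl⟩ := hx
  rw [map_add, map_smul, map_smul, hsym w v, h4, h3, smul_zero, smul_zero, add_zero]

/-- **the bound for orthogonal groups of odd characteristic** -/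
theorem orth_bound [Finite F] (h2 : (2 : F) ≠ 0) {V : Type*} [AddCommGroup V] [Module F V] [FiniteDimensional F V]
    {n : ℕ} (hn : 4 ≤ n) (Q : QuadraticForm F V) (hnd : ND Q) (hdim : finrank F V = 2 * n)
    {r : ℕ} (hr : r.Prime) (hr2 : r ≠ 2) (hrF : (r : F) ≠ 0)
    (s u : V →ₗ[F] V) (hsu : ∀ v, s (u v) = u (s v)) (hs : s ^ r = 1) (hs1 : s ≠ 1)
    (hsQ : ∀ v, Q (s v) = Q v) (huQ : ∀ v, Q (u v) = Q v)
    (hu : IsNilpotent (u - 1)) {k ηk : ℕ} (hk : k = orderOf ((Nat.card F : ℕ) : ZMod r))
    (hη : (Odd k ∧ ηk = k) ∨ (Even k ∧ 2 * ηk = k)) (hηn : n ≤ ηk + 1) : u = 1 := by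
  have hrodd : Odd r := hr.odd_of_ne_two hr2
  have hB : ∀ v w, QuadraticMap.polarBilin Q (s v) (s w) = QuadraticMap.polarBilin Q v w :=
    fun v w => polar_isom Q s hsQ v w
  have hBu : ∀ v w, QuadraticMap.polarBilin Q (u v) (u w) = QuadraticMap.polarBilin Q v w :=
    fun v w => polar_isom Q u huQ v w
  have hcompl := isCompl_fix hrF s hs
  have hsum := Submodule.finrank_add_eq_of_isCompl hcompl
  have hsM := (range_inv (x := s) (y := s) (fun v => rfl)).1
  have huM := (range_inv hsu).1
  have huC := (range_inv hsu).2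
  have hkd := dvd_finrank_of_fpf_submodule hr s hs _ hsM (fpf_range hrF s hs)
  rw [← hk] at hkd
  have hMnd := nondeg_range hrF (QuadraticMap.polarBilin Q) (fun u hu => hnd u hu) s hs hB
  have hM0 : LinearMap.range (s - 1) ≠ ⊥ := by
    intro h
    rw [LinearMap.range_eq_bot, sub_eq_zero] at h
    exact hs1 h
  have hMpos : 0 < finrank F (LinearMap.range (s - 1)) := Nat.pos_of_ne_zero fun h =>
    hM0 (Submodule.finrank_eq_zero.1 h)
  have hMev : Even (finrank F (LinearMap.range (s - 1))) := even_range h2 Q hnd hrodd hrF s hs hsQ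
  have hMle := Submodule.finrank_le (LinearMap.range (s - 1))
  have hMdim : finrank F (LinearMap.range (s - 1)) = 2 * ηk := by
    have h2k : 2 * ηk ∣ finrank F (LinearMap.range (s - 1)) := by
      rcases hη with ⟨hodd, hkn⟩ | ⟨-, hkn⟩
      · rw [hkn]
        exact Nat.Coprime.mul_dvd_of_dvd_of_dvd (Nat.coprime_two_left.2 hodd) hMev.two_dvd hkd
      · rw [hkn]
        exact hkd
    obtain ⟨c, hc⟩ := h2k
    have hc1 : c = 1 := by
      have h3 : 0 < c := by
        rcases Nat.eq_zero_or_pos c with h | h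
        · rw [h, mul_zero] at hc; omega
        · exact h
      by_contra hne
      have h4 : 2 ≤ c := by omega
      have h5 : 2 * ηk * 2 ≤ 2 * ηk * c := Nat.mul_le_mul_left _ h4
      omega
    rw [hc, hc1, mul_one]
  have hNil : ∀ (W : Submodule F V) (hW : ∀ v ∈ W, u v ∈ W), IsNilpotent (u.restrict hW - 1) := by
    intro W hW
    obtain ⟨m, hm⟩ := hu
    refine ⟨m, ?_⟩
    ext v
    have h3 : ∀ (j : ℕ) (v : W), (((u.restrict hW - 1) ^ j) v : V) = ((u - 1) ^ j) (v : V) := by
      intro j
      induction j with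
      | zero => intro v; simp
      | succ j ih =>
        intro v
        rw [pow_succ, Module.End.mul_apply, ih, pow_succ, Module.End.mul_apply]
        simp [LinearMap.restrict_apply]
    rw [h3, hm]
    rfl
  -- `u = 1` on the range
  have huM1 : ∀ v ∈ LinearMap.range (s - 1), u v = v := by
    by_contra hcon
    have hu1 : u.restrict huM ≠ 1 := fun h => hcon fun v hv => congrArg Subtype.val (LinearMap.congr_fun h ⟨v, hv⟩)
    set M := LinearMap.range (s - 1) with hM
    have hsM1 : (s.restrict hsM) ^ r = 1 := restrict_pow_eq_one hsM hs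
    have hfp : ∀ v : M, s.restrict hsM v = v → v = 0 := fun v hv =>
      Subtype.ext (fpf_range hrF s hs v v.2 (congrArg Subtype.val hv))
    have hMnd' : ∀ u : M, (∀ v : M, QuadraticMap.polar (Q.restrict M) u v = 0) → u = 0 :=
      fun u hu => hMnd u fun v => hu v
    have hQs : ∀ v : M, (Q.restrict M) (s.restrict hsM v) = (Q.restrict M) v := fun v => hsQ v
    have hQu : ∀ v : M, (Q.restrict M) (u.restrict huM v) = (Q.restrict M) v := fun v => huQ v
    have hcm : ∀ v : M, s.restrict hsM (u.restrict huM v) = u.restrict huM (s.restrict hsM v) :=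
      fun v => Subtype.ext (hsu v)
    have h1 := symp_bound (n := ηk) (by omega) (quadSym (Q.restrict M) (s.restrict hsM) r)
      (quadSym_alt _ hr.pos _ hQs hsM1) (quadSym_nd _ hMnd' hrodd _ hsM1 hfp) hMdim hr hr2 hrF (s.restrict hsM)
      (u.restrict huM) (LinearMap.ext hcm) hsM1 ?_ (quadSym_map _ _ _ r hQs fun v => rfl)
      (quadSym_map _ _ _ r hQu hcm) (hNil M huM) hu1 hk hη
    · omega
    · intro h
      obtain ⟨m, hm, hm0⟩ := (Submodule.ne_bot_iff _).1 hM0
      exact hm0 (fpf_range hrF s hs m hm (congrArg Subtype.val (LinearMap.congr_fun h ⟨m, hm⟩)))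
  -- `u = 1` on the kernel
  have huC1 : ∀ v ∈ LinearMap.ker (s - 1), u v = v := by
    have hCnd := nondeg_ker hrF (QuadraticMap.polarBilin Q) (fun u hu => hnd u hu) s hs hB
    have h1 := two_dim h2 (LinearMap.BilinForm.restrict (QuadraticMap.polarBilin Q) (LinearMap.ker (s - 1)))
      (fun v w => QuadraticMap.polar_comm _ _ _) (fun u hu => hCnd u fun v => hu v) (by omega) (u.restrict huC)
      (fun v w => hBu v w) (hNil _ huC)
    intro v hv
    exact congrArg Subtype.val (LinearMap.congr_fun h1 ⟨v, hv⟩)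
  apply LinearMap.ext
  intro v
  obtain ⟨a, ha, b, hb, rfl⟩ := Submodule.mem_sup.1
    (show v ∈ LinearMap.ker (s - 1) ⊔ LinearMap.range (s - 1) by rw [hcompl.sup_eq_top]; trivial)
  rw [map_add, huC1 a ha, huM1 b hb]
  rfl

end Cfsg.Agent.H364.OrthUnip
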