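import Mathlib
import Cfsg.Agent.H364.OrthUnip
import Cfsg.Agent.H364.Core

/-!
# `PΩ(2n, q)`: orders `r p` and `p ^ j` (helper364)
-/

set_option autoImplicit false
set_option linter.style.haveILetI false

namespace Cfsg.Agent.H364.OrthUnip

open Module Cfsg
open Cfsg.Agent.LieClassical.OrthCount Cfsg.Agent.H150 Cfsg.Agent.H377
open Cfsg.Agent.LieClassical.OmegaCenter (omegaMat omega_ext mem_center_omega_iff)
open Cfsg.Agent.H420.Lift

variable {F : Type*} [Field F]

/-- the square of the power of a representative -/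
theorem sq_eq_one_of_center {ι : Type} [Fintype ι] [DecidableEq ι] (Q : QuadraticForm F (ι → F))
    (hQ : (QuadraticMap.polarBilin Q).Nondegenerate) (hn : 3 ≤ Fintype.card ι) (hs : ∃ u : ι → F, u ≠ 0 ∧ Q u = 0)
    {b : Omega F ⇑Q} (h1 : b ∈ Subgroup.center (Omega F ⇑Q)) : b ^ 2 = 1 := by
  apply omega_ext
  have e : omegaMat (b ^ 2) = omegaMat b ^ 2 := rfl
  rw [e]
  have e1 : omegaMat (1 : Omega F ⇑Q) = 1 := rfl
  rcases (mem_center_omega_iff Q hQ hn hs _).1 h1 with h | h <;> rw [h, e1] <;> simp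

/-- The exponent of the `p`-elements of `PΩ(Q)`. -/
theorem pomega_pow_eq_one {ι : Type} [Fintype ι] [DecidableEq ι] (p : ℕ) [hp : Fact p.Prime] [CharP F p]
    (Q : QuadraticForm F (ι → F)) (hQ : (QuadraticMap.polarBilin Q).Nondegenerate) (hn : 3 ≤ Fintype.card ι)
    (hs : ∃ u : ι → F, u ≠ 0 ∧ Q u = 0) {c : ℕ} (hc : Fintype.card ι ≤ p ^ c) {x : POmega F ⇑Q} {j : ℕ}
    (hx : orderOf x = p ^ j) : x ^ (p ^ c) = 1 := by
  obtain ⟨b, rfl⟩ := QuotientGroup.mk_surjective x
  have h1 : b ^ (p ^ j) ∈ Subgroup.center (Omega F ⇑Q) := by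
    rw [← QuotientGroup.eq_one_iff, QuotientGroup.mk_pow, ← hx, pow_orderOf_eq_one]
  have h2 := sq_eq_one_of_center Q hQ hn hs h1
  set h : Omega F ⇑Q := b ^ 2 with hh
  have h3 : h ^ (p ^ j) = 1 := by rw [hh, ← pow_mul, mul_comm, pow_mul, h2]
  have hne : Nonempty ι := Fintype.card_pos_iff.1 (by omega)
  have hch : CharP (Matrix ι ι F) p := inferInstance
  have hmat : ∀ k : ℕ, omegaMat (h ^ k) = omegaMat h ^ k := fun k => rfl
  have h4 : (omegaMat h - 1) ^ (p ^ j) = 0 := by
    rw [sub_pow_char_pow_of_commute (p := p) _ (Commute.one_right _), ← hmat, h3, one_pow]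
    exact sub_self _
  have h5 : (omegaMat h - 1) ^ (p ^ c) = 0 := by
    have h6 := Matrix.isNilpotent_charpoly_sub_pow_of_isNilpotent (⟨_, h4⟩ : IsNilpotent (omegaMat h - 1))
    have h7 : (omegaMat h - 1) ^ Fintype.card ι = 0 := by
      have h8 := isNilpotent_iff_eq_zero.1 h6
      rw [sub_eq_zero] at h8
      have h9 := Matrix.aeval_self_charpoly (omegaMat h - 1)
      rw [h8] at h9
      simpa using h9
    obtain ⟨k, hk⟩ := Nat.exists_eq_add_of_le hc
    rw [hk, pow_add, h7, zero_mul]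
  have h6 : h ^ (p ^ c) = 1 := by
    apply omega_ext
    rw [hmat]
    rw [sub_pow_char_pow_of_commute (p := p) _ (Commute.one_right _), one_pow, sub_eq_zero] at h5
    rw [h5]
    rfl
  have h7 : (QuotientGroup.mk b : POmega F ⇑Q) ^ (2 * p ^ c) = 1 := by
    rw [pow_mul, ← QuotientGroup.mk_pow, ← QuotientGroup.mk_pow, ← hh, h6]; rfl
  rcases hp.out.eq_two_or_odd' with h8 | h8
  · -- characteristic two
    subst h8
    have h10 : b ^ (2 ^ j) = 1 := by
      apply omega_ext
      rcases (mem_center_omega_iff Q hQ hn hs _).1 h1 with h | h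
      · rw [h]; rfl
      · rw [h]
        have e2 : (-1 : Matrix ι ι F) = 1 := by
          have h11 : (2 : Matrix ι ι F) = 0 := by exact_mod_cast CharP.cast_eq_zero (Matrix ι ι F) 2
          have h12 : (1 : Matrix ι ι F) + 1 = 0 := by rw [one_add_one_eq_two, h11]
          exact (eq_neg_of_add_eq_zero_left h12).symm
        rw [e2]; rfl
    have hmatb : ∀ k : ℕ, omegaMat (b ^ k) = omegaMat b ^ k := fun k => rfl
    have h11 : (omegaMat b - 1) ^ (2 ^ j) = 0 := by
      rw [sub_pow_char_pow_of_commute (p := 2) _ (Commute.one_right _), ← hmatb, h10, one_pow]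
      exact sub_self _
    have h12 : (omegaMat b - 1) ^ (2 ^ c) = 0 := by
      have h6 := Matrix.isNilpotent_charpoly_sub_pow_of_isNilpotent (⟨_, h11⟩ : IsNilpotent (omegaMat b - 1))
      have h7 : (omegaMat b - 1) ^ Fintype.card ι = 0 := by
        have h8 := isNilpotent_iff_eq_zero.1 h6
        rw [sub_eq_zero] at h8
        have h9 := Matrix.aeval_self_charpoly (omegaMat b - 1)
        rw [h8] at h9
        simpa using h9
      obtain ⟨k, hk⟩ := Nat.exists_eq_add_of_le hc
      rw [hk, pow_add, h7, zero_mul]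
    have h13 : b ^ (2 ^ c) = 1 := by
      apply omega_ext
      rw [hmatb]
      rw [sub_pow_char_pow_of_commute (p := 2) _ (Commute.one_right _), one_pow, sub_eq_zero] at h12
      rw [h12]
      rfl
    rw [← QuotientGroup.mk_pow, h13]
    rfl
  · have h9 := orderOf_dvd_of_pow_eq_one h7
    rw [hx] at h9
    have h10 : (p ^ j).Coprime 2 := by
      exact Nat.Coprime.pow_left _ (Nat.coprime_two_right.2 h8)
    exact orderOf_dvd_iff_pow_eq_one.1 (hx ▸ h10.dvd_of_dvd_mul_left h9)

/-- **No element of order `r p`.** -/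
theorem pomega_noEdge [Finite F] {ι : Type} [Fintype ι] [DecidableEq ι] (p : ℕ) [hp : Fact p.Prime] [CharP F p]
    (Q : QuadraticForm F (ι → F)) (hQ : (QuadraticMap.polarBilin Q).Nondegenerate) {n : ℕ} (hn : 4 ≤ n)
    (hdim : finrank F (ι → F) = 2 * n) (hs : ∃ u : ι → F, u ≠ 0 ∧ Q u = 0) {r : ℕ} (hr : r.Prime) (hrp : r ≠ p)
    (hr2 : r ≠ 2) {k ηk : ℕ} (hk : orderOf ((Nat.card F : ℕ) : ZMod r) = k)
    (hη : (Odd k ∧ ηk = k) ∨ (Even k ∧ 2 * ηk = k)) (hηn : ηk = n ∨ ηk = n - 1) : NoEdge (POmega F ⇑Q) r p := by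
  have hι : Fintype.card ι = 2 * n := by rw [← hdim]; simp
  have hrF : (r : F) ≠ 0 := by
    intro h
    exact hrp ((Nat.prime_dvd_prime_iff_eq hp.out hr).1 ((CharP.cast_eq_zero_iff F p r).1 h)).symm
  intro x hx
  rcases hp.out.eq_two_or_odd' with h8 | h8
  · subst h8
    have h2 : (2 : F) = 0 := by exact_mod_cast CharP.cast_eq_zero F 2
    rw [mul_comm] at hx
    rcases hηn with rfl | rfl
    · exact gen_full_even h2 Q hQ hdim hs hr hr2 hrF (by omega) hk (by
        rcases hη with h | h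
        · exact Or.inl h
        · exact Or.inr h) x hx
    · exact gen_partial_even h2 Q hQ hdim hs hr hr2 hrF hn hk hη x hx
  · have h2 : (2 : F) ≠ 0 := by
      intro h
      have h3 : p ∣ 2 := (CharP.cast_eq_zero_iff F p 2).1 (by exact_mod_cast h)
      have := (Nat.prime_dvd_prime_iff_eq hp.out Nat.prime_two).1 h3
      subst this
      exact absurd h8 (by decide)
    obtain ⟨g, -, hg⟩ := exists_lift Q hQ (by omega) hs ((hr.odd_of_ne_two hr2).mul h8) hx
    set T := opHom (⇑Q) (g : isometryGroup F ⇑Q) with hT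
    have hTo : ∀ m : ℕ, T ^ m = 1 ↔ r * p ∣ m := by
      intro m
      rw [hT, ← map_pow, opHom_eq_one_iff, ← hg]
      rw [← orderOf_dvd_iff_pow_eq_one, Subgroup.orderOf_coe]
    have hiso : ∀ (m : ℕ) (v : ι → F), Q ((T ^ m) v) = Q v := by
      intro m v
      rw [hT, ← map_pow]
      exact opHom_iso _ _ v
    have h3 := orth_bound h2 hn Q (fun u hu => hQ.1 u hu) hdim hr hr2 hrF (T ^ p) (T ^ r)
      (fun v => by rw [← Module.End.mul_apply, ← Module.End.mul_apply, ← pow_add, ← pow_add, add_comm]) ?_ ?_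
      (hiso p) (hiso r) ?_ hk.symm hη (by omega)
    · rw [hTo] at h3
      have h4 : p ∣ r := (Dvd.intro_left _ rfl).trans h3
      exact hrp ((Nat.prime_dvd_prime_iff_eq hp.out hr).1 h4).symm
    · rw [← pow_mul, hTo, mul_comm]
    · rw [Ne, hTo]
      intro h4
      have h5 : r ∣ p := (Dvd.intro _ rfl).trans h4
      exact hrp ((Nat.prime_dvd_prime_iff_eq hr hp.out).1 h5)
    · refine ⟨p, ?_⟩
      have hne : Nonempty ι := Fintype.card_pos_iff.1 (by omega)
      have hch : CharP (Module.End F (ι → F)) p := by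
        have : Nontrivial (ι → F) := inferInstance
        exact charP_of_injective_algebraMap (algebraMap F (Module.End F (ι → F))).injective p
      rw [sub_pow_char_of_commute p (Commute.one_right _), one_pow, ← pow_mul, (hTo _).2 dvd_rfl, sub_self]

end Cfsg.Agent.H364.OrthUnip
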