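import Mathlib
import Cfsg.Agent.H72.AdjSp
import Cfsg.Agent.H364.SpSix

/-!
# Elements of order `|G|_r` in the symplectic and odd-dimensional orthogonal groups (helper364)
-/

set_option autoImplicit false
set_option linter.unusedSectionVars false

namespace Cfsg.Agent.H364.SpCyc

open Cfsg Cfsg.Agent.H377 Cfsg.Agent.H72.AdjOrth Cfsg.Agent.H150

variable {F : Type*} [Field F] [Finite F] {n : ℕ}

/-- elements of odd order extend to larger symplectic groups -/
theorem psp_extend {e b N : ℕ} (he : 1 ≤ e) (hN : Odd N) (g : PSp e F) (hg : orderOf g = N) :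
    ∃ h : PSp (e + b) F, orderOf h = N := by
  rcases Nat.eq_zero_or_pos b with rfl | hb
  · exact ⟨g, hg⟩
  obtain ⟨A, rfl⟩ := QuotientGroup.mk_surjective g
  have hTj : ∀ j, ((spLin A) ^ j = 1 ∨ (spLin A) ^ j = -1) ↔ N ∣ j := fun j => by
    rw [← spLin_pow_iff he, ← hg, orderOf_dvd_iff_pow_eq_one]
  have hS : ∀ j, (spLin (A ^ 2)) ^ j = (spLin A) ^ (2 * j) := fun j => by
    have h1 : spLin (A ^ 2) = (spLin A) ^ 2 := by
      unfold spLin
      rw [← map_pow]
      rfl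
    rw [h1, ← pow_mul]
  have h1 : spLin (1 : Matrix.symplecticGroup (Fin b) F) = 1 := by
    unfold spLin
    show Matrix.toLinAlgEquiv' (1 : Matrix _ _ F) = 1
    rw [map_one]
  have h2N : ∀ j, N ∣ 2 * j ↔ N ∣ j := fun j =>
    ⟨fun h => (Nat.Coprime.dvd_of_dvd_mul_left (Nat.coprime_two_right.2 hN) h), fun h => h.mul_left 2⟩
  refine exists_psp_of_prod he (A ^ 2) (1 : Matrix.symplecticGroup (Fin b) F) fun j => ?_
  rw [hS, h1, one_pow]
  constructor
  · rintro (⟨h, -⟩ | ⟨h, -⟩)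
    · exact (h2N j).1 ((hTj _).1 (Or.inl h))
    · exact (h2N j).1 ((hTj _).1 (Or.inr h))
  · intro h
    left
    refine ⟨?_, rfl⟩
    have h3 := (hTj j).2 h
    rw [mul_comm, pow_mul]
    rcases h3 with h3 | h3
    · rw [h3, one_pow]
    · rw [h3]; exact even_neg_one_pow_end even_two

theorem psp_tn {k N : ℕ} (hk : 1 ≤ k) (hN : Odd N) (h : N ∣ tn (Nat.card F) k) (hn : eta k ≤ n) :
    ∃ g : PSp n F, orderOf g = N := by
  have he := eta_pos hk
  have key : ∃ g : PSp (eta k) F, orderOf g = N := by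
    rw [tn] at h
    by_cases hev : Even k
    · rw [if_pos hev] at h
      rw [eta, if_pos hev]
      exact exists_psp_tor_minus (by obtain ⟨j, rfl⟩ := hev; omega) hN.pos (Or.inl ⟨hN, h⟩)
    · rw [if_neg hev] at h
      rw [eta, if_neg hev]
      exact exists_psp_tor_plus hk hN.pos (Or.inl ⟨hN, h⟩)
  obtain ⟨g, hg⟩ := key
  have key2 : ∀ m, m = n → (∃ h : PSp m F, orderOf h = N) → ∃ h : PSp n F, orderOf h = N := by
    rintro m rfl h
    exact h
  exact key2 _ (by omega) (psp_extend (b := n - eta k) he hN g hg)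

theorem omega_tn (h2 : (2 : F) ≠ 0) (hn3 : 3 ≤ n) {k N : ℕ} (hk : 1 ≤ k) (hN : Odd N) (h : N ∣ tn (Nat.card F) k)
    (hn : eta k ≤ n) : ∃ g : POmega F (quadFormOdd n F), orderOf g = N := by
  have ho : Nat.Coprime N 2 := Nat.coprime_two_right.2 hN
  obtain ⟨δ, h3⟩ : ∃ δ : ℤ, Elt F n δ N := by
    rcases Nat.eq_or_lt_of_le hn with h4 | h4
    · rw [← h4]
      exact ⟨_, elt_tn hk h⟩
    · exact ⟨1, elt_extend (elt_tn hk h) (sg_pm k) (Or.inl rfl) h4⟩
  exact exists_odd_of_elt h2 hn3 h3 fun j =>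
    ⟨fun h5 => ho.dvd_of_dvd_mul_left h5, fun h5 => Dvd.dvd.mul_left h5 2⟩

theorem eta_ee (q r : ℕ) : eta (ee q r) = orderOf ((q ^ 2 : ℕ) : ZMod r) := by
  rw [Nat.cast_pow, orderOf_pow' _ (by norm_num), eta, ee]
  split_ifs with h
  · rw [Nat.gcd_eq_right h.two_dvd]
  · have h1 : Nat.gcd (orderOf (q : ZMod r)) 2 = 1 :=
      Nat.coprime_two_right.2 (Nat.not_even_iff_odd.1 h)
    rw [h1, Nat.div_one]

open Cfsg.Agent.H902.Art Cfsg.Agent.H902.Lte in
/-- the `r`-part of `|C_n(q)|` divides the order of a torus -/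
theorem P_dvd_tn {q r n : ℕ} (hr : r.Prime) (hr2 : r ≠ 2) (hq : 2 ≤ q) (hrq : ¬ r ∣ q)
    (h1 : n / 2 < eta (ee q r)) (h2 : eta (ee q r) ≤ n) : P r (SpVal.AA n q) ∣ tn q (ee q r) := by
  have h1' := h1
  have h2' := h2
  rw [eta_ee] at h1' h2'
  rw [SpSix.P_eq_of_order hr hr2 hq hrq h1' h2', ← eta_ee]
  have hpos := ee_pos hr hrq
  have hd := dvd_tn (r := r) (q := q) (by omega) hr hrq
  set e := ee q r with he
  have hi : 1 ≤ eta e := eta_pos hpos
  have hqe : 1 < q ^ eta e := Nat.one_lt_pow (by omega) (by omega)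
  have hfac : q ^ (2 * eta e) - 1 = (q ^ eta e - 1) * (q ^ eta e + 1) := by
    obtain ⟨a, ha⟩ := Nat.exists_eq_add_of_le' hqe.le
    rw [two_mul, pow_add, ha]
    have : (a + 1) * (a + 1) = a * (a + 1 + 1) + 1 := by ring
    rw [this]
    simp
  have hodd : ¬ r ∣ 2 := fun h => hr2 ((Nat.prime_dvd_prime_iff_eq hr Nat.prime_two).1 h)
  have hne1 : q ^ eta e - 1 ≠ 0 := by omega
  have hne2 : q ^ eta e + 1 ≠ 0 := by omega
  have hnot : ∀ {a b : ℕ}, a + 2 = b → r ∣ a → ¬ r ∣ b := fun {a b} hab ha hb => by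
    subst hab
    exact hodd ((Nat.dvd_add_right ha).1 hb)
  rw [hfac, P_mul hne1 hne2]
  have hab : (q ^ eta e - 1) + 2 = q ^ eta e + 1 := by omega
  by_cases hev : Even e
  · have h3 : tn q e = q ^ eta e + 1 := by rw [tn, eta, if_pos hev, if_pos hev]
    rw [h3] at hd ⊢
    rw [P_eq_one (fun h => hnot hab h hd), one_mul]
    exact Nat.ordProj_dvd _ _
  · have h3 : tn q e = q ^ eta e - 1 := by rw [tn, eta, if_neg hev, if_neg hev]
    rw [h3] at hd ⊢
    rw [P_eq_one (a := q ^ eta e + 1) (hnot hab hd), mul_one]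
    exact Nat.ordProj_dvd _ _

end Cfsg.Agent.H364.SpCyc
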