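import Mathlib
import Cfsg.Agent.H902.Artin
import Cfsg.Agent.S0283

/-!
# A simple group with the order of `PSU_n(q)` is `PSU_n(q)` (helper364)
-/

set_option autoImplicit false

namespace Cfsg.Agent.H364.PSUUnique

open Cfsg Cfsg.Agent.OrdDiv
open Cfsg.Agent.H902 Cfsg.Agent.H902.Names

universe u v

/-- a copy of `PSU` over a field in `Type` -/
theorem exists_type {F : Type v} [Field F] [Fintype F] {n q : ℕ} (hF : Fintype.card F = q ^ 2) :
    ∃ (K : Type) (_ : Field K) (_ : Fintype K), Fintype.card K = q ^ 2 ∧ Nonempty (PSU n F q ≃* PSU n K q) := by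
  obtain ⟨p, k, hp, hchar, hq, hk⟩ := Cfsg.Agent.LieClassical.HermBasic.exists_prime_pow hF
  have := Fact.mk hp
  have h1 : Nat.card (GaloisField p (k * 2)) = q ^ 2 := by rw [GaloisField.card p _ (by omega), hq, pow_mul]
  have := Fintype.ofFinite (GaloisField p (k * 2))
  rw [Nat.card_eq_fintype_card] at h1
  refine ⟨GaloisField p (k * 2), inferInstance, inferInstance, h1, ⟨?_⟩⟩
  exact LieClassical.FieldTransfer.psuCongr n q (FiniteField.ringEquivOfCardEq (hF.trans h1.symm))

theorem psu_real' {F : Type v} [Field F] [Fintype F] {n q : ℕ} (hF : Fintype.card F = q ^ 2) (hn : 3 ≤ n)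
    (h32 : ¬ (n = 3 ∧ q = 2)) : ∃ p f, q = p ^ f ∧ Art.Real (.U n) p f (Nat.card (PSU n F q)) := by
  obtain ⟨K, _, _, hK, ⟨e⟩⟩ := exists_type (n := n) hF
  obtain ⟨p, f, hp, hchar, hq, hf⟩ := Cfsg.Agent.LieClassical.HermBasic.exists_prime_pow hF
  refine ⟨p, f, hq, ?_⟩
  rw [Nat.card_congr e.toEquiv]
  subst hq
  exact psu_real hp hf hK hn h32

/-- `20160` is not the order of a unitary group -/
theorem not_20160 {n p f : ℕ} (h : Art.Real (.U n) p f 20160) : False := by
  have h1 := h.P_self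
  obtain ⟨hp, hf, ⟨hn, hn3⟩, heq⟩ := h
  have hNN : Art.NN (.U n) = n * (n - 1) / 2 := rfl
  have h3 : 3 ≤ n * (n - 1) / 2 := by
    rw [Nat.le_div_iff_mul_le (by norm_num)]
    calc 3 * 2 ≤ n * 2 := Nat.mul_le_mul_right 2 hn
      _ ≤ n * (n - 1) := Nat.mul_le_mul_left n (by omega)
  have hd : (p ^ f) ^ Art.NN (.U n) ∣ 20160 := by
    rw [← h1]; exact Nat.ordProj_dvd _ p
  rw [hNN, ← pow_mul] at hd
  have hp3 : p ^ 3 ∣ 20160 := (pow_dvd_pow p (by nlinarith)).trans hd
  have hp2 : p = 2 := by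
    have h4 : p ∣ 2 ^ 6 * (3 ^ 2 * (5 * 7)) := (dvd_pow_self p (by norm_num)).trans hp3
    rcases (Nat.Prime.dvd_mul hp).1 h4 with h5 | h5
    · exact (Nat.prime_dvd_prime_iff_eq hp Nat.prime_two).1 (hp.dvd_of_dvd_pow h5)
    · exfalso
      rcases (Nat.Prime.dvd_mul hp).1 h5 with h6 | h6
      · have := (Nat.prime_dvd_prime_iff_eq hp Nat.prime_three).1 (hp.dvd_of_dvd_pow h6)
        subst this; norm_num at hp3
      · rcases (Nat.Prime.dvd_mul hp).1 h6 with h7 | h7
        · have := (Nat.prime_dvd_prime_iff_eq hp Nat.prime_five).1 h7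
          subst this; norm_num at hp3
        · have := (Nat.prime_dvd_prime_iff_eq hp (by norm_num)).1 h7
          subst this; norm_num at hp3
  subst hp2
  have hP : Art.P 2 20160 = 2 ^ 6 := by
    rw [Art.P]
    congr 1
    have h4 := (Nat.prime_two.pow_dvd_iff_le_factorization (n := 20160) (k := 6) (by norm_num)).1 (by norm_num)
    have h5 : ¬ (6 + 1 ≤ Nat.factorization 20160 2) := fun h =>
      absurd ((Nat.prime_two.pow_dvd_iff_le_factorization (by norm_num)).2 h) (by norm_num)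
    omega
  rw [hP, hNN, ← pow_mul] at h1
  have h6 : 6 = f * (n * (n - 1) / 2) := Nat.pow_right_injective (le_refl 2) h1
  -- `n ≤ 4`
  have hn4 : n ≤ 4 := by
    by_contra hcon
    have h7 : 10 ≤ n * (n - 1) / 2 := by
      rw [Nat.le_div_iff_mul_le (by norm_num)]
      calc 10 * 2 = 5 * 4 := by norm_num
        _ ≤ n * (n - 1) := Nat.mul_le_mul (by omega) (by omega)
    nlinarith
  interval_cases n
  · have hf2 : f = 2 := by omega
    subst hf2
    revert heq
    decide
  · have hf1 : f = 1 := by omega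
    subst hf1
    revert heq
    decide

theorem not_25920 {m p f : ℕ} (hm : 3 ≤ m) (h : Art.Real (.C m) p f 25920) : False := by
  have h1 := h.P_self
  obtain ⟨hp, hf, -, heq⟩ := h
  have hNN : Art.NN (.C m) = m ^ 2 := rfl
  have hd : (p ^ f) ^ Art.NN (.C m) ∣ 25920 := by
    rw [← h1]; exact Nat.ordProj_dvd _ p
  rw [hNN, ← pow_mul] at hd
  have hp9 : p ^ 9 ∣ 25920 := (pow_dvd_pow p (by nlinarith)).trans hd
  have h4 : p ^ 9 ≤ 25920 := Nat.le_of_dvd (by norm_num) hp9
  have hp3 : p < 4 := by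
    by_contra hcon
    have : 4 ^ 9 ≤ p ^ 9 := Nat.pow_le_pow_left (by omega) 9
    omega
  have := hp.two_le
  interval_cases p <;> norm_num at hp9

/-- **A simple group with the order of `PSU_n(q)` is `PSU_n(q)`.** -/
theorem psu_unique {G : Type u} [Group G] [Finite G] [IsSimpleGroup G] {F : Type v} [Field F] [Fintype F] {n q : ℕ}
    (hF : Fintype.card F = q ^ 2) (hn : 3 ≤ n) (h32 : ¬ (n = 3 ∧ q = 2))
    (hcard : Nat.card G = Nat.card (PSU n F q)) : Nonempty (G ≃* PSU n F q) := by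
  have hsimple : IsSimpleGroup (PSU n F q) := Cfsg.Agent.S0283.result hF n hn h32
  obtain ⟨p, f, hq, hreal⟩ := psu_real' hF hn h32
  have hfin : Finite (PSU n F q) := Nat.finite_of_card_ne_zero hreal.M_ne
  have key : ∀ {m : ℕ} {p' f' : ℕ}, 3 ≤ m → Art.Real (.C m) p' f' (Nat.card (PSU n F q)) → False := by
    intro m p' f' hm h'
    rcases eq_or_ne p p' with rfl | hpp
    · rcases Art.same_char hreal h' with ⟨h, -⟩ | h
      · exact absurd h (by simp)
      · rw [h] at hreal; exact not_20160 hreal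
    · rcases Art.cross_char hreal h' hpp with h | h | h
      · rw [h] at h'
        have := h'.P_self
        have h9 : (p' ^ f') ^ Art.NN (.C m) ∣ 60 := by rw [← this]; exact Nat.ordProj_dvd _ p'
        have hNN : Art.NN (.C m) = m ^ 2 := rfl
        rw [hNN] at h9
        have h10 : 2 ^ 9 ≤ (p' ^ f') ^ (m ^ 2) :=
          (Nat.pow_le_pow_left h'.q_ge 9).trans (Nat.pow_le_pow_right (by have := h'.q_ge; omega) (by nlinarith))
        have := Nat.le_of_dvd (by norm_num) h9
        omega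
      · rw [h] at h'
        have := h'.P_self
        have h9 : (p' ^ f') ^ Art.NN (.C m) ∣ 168 := by rw [← this]; exact Nat.ordProj_dvd _ p'
        have hNN : Art.NN (.C m) = m ^ 2 := rfl
        rw [hNN] at h9
        have h10 : 2 ^ 9 ≤ (p' ^ f') ^ (m ^ 2) :=
          (Nat.pow_le_pow_left h'.q_ge 9).trans (Nat.pow_le_pow_right (by have := h'.q_ge; omega) (by nlinarith))
        have := Nat.le_of_dvd (by norm_num) h9
        omega
      · rw [h] at h'; exact not_25920 hm h'
  have k20160 : Nat.card (PSU n F q) ≠ 20160 := fun h => by rw [h] at hreal; exact not_20160 hreal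
  rcases Artin.artin hcard with h | ⟨h1, h2⟩ | ⟨h1, h2⟩ | ⟨m, q', hm, hq', h1, h2⟩ | ⟨m, q', hm, hq', h1, h2⟩
  · exact h
  · exfalso
    obtain ⟨e⟩ := h1
    have h3 := alt_card (by norm_num) e
    apply k20160
    rw [← hcard]
    norm_num [Nat.factorial] at h3
    omega
  · exfalso
    obtain ⟨e⟩ := h2
    have h3 := alt_card (by norm_num) e
    apply k20160
    norm_num [Nat.factorial] at h3
    omega
  · exfalso
    obtain ⟨K, _, _, hK, ⟨e⟩⟩ := h2
    obtain ⟨p', f', hp', hf', hK'⟩ := exists_pp K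
    have ho : Odd (p' ^ f') := by rw [← hK', hK]; exact hq'
    apply key hm (p' := p') (f' := f')
    rw [Nat.card_congr e.toEquiv]
    exact oodd_real hp' hf' hK' hm ho
  · exfalso
    obtain ⟨K, _, _, hK, ⟨e⟩⟩ := h2
    obtain ⟨p', f', hp', hf', hK'⟩ := exists_pp K
    apply key hm (p' := p') (f' := f')
    rw [Nat.card_congr e.toEquiv]
    exact psp_real hp' hf' hK' (by omega) (by omega)

end Cfsg.Agent.H364.PSUUnique
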