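import Mathlib

/-!
# Matrices with pairwise distinct eigenvalues and their centralizers (helper364)
-/

set_option autoImplicit false

namespace Cfsg.Agent.H364.Regular

open Matrix

variable {ι : Type*} [Fintype ι] [DecidableEq ι] {K : Type*} [Field K]

/-- `X` has the eigenvectors `v i` with pairwise distinct eigenvalues `lam i`. -/
structure Eig (X : Matrix ι ι K) (lam : ι → K) (v : ι → ι → K) : Prop where
  inj : Function.Injective lam
  ne : ∀ i, v i ≠ 0
  eq : ∀ i, X *ᵥ v i = lam i • v i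

namespace Eig

variable {X : Matrix ι ι K} {lam : ι → K} {v : ι → ι → K}

theorem linearIndependent (h : Eig X lam v) : LinearIndependent K v := by
  refine Module.End.eigenvectors_linearIndependent' (Matrix.toLin' X) lam h.inj v fun i => ?_
  rw [Module.End.hasEigenvector_iff, Module.End.mem_eigenspace_iff]
  exact ⟨by rw [Matrix.toLin'_apply]; exact h.eq i, h.ne i⟩

/-- the eigenbasis -/
noncomputable def basis (h : Eig X lam v) : Module.Basis ι K (ι → K) :=
  basisOfLinearIndependentOfCardEqFinrank' v h.linearIndependent (by simp)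

theorem basis_apply (h : Eig X lam v) (i : ι) : h.basis i = v i := by
  simp [basis]

/-- A vector on which `X` acts by `lam i` is a multiple of `v i`. -/
theorem exists_smul (h : Eig X lam v) {w : ι → K} {i : ι} (hw : X *ᵥ w = lam i • w) : ∃ c : K, w = c • v i := by
  refine ⟨h.basis.repr w i, ?_⟩
  have h1 : ∀ j, j ≠ i → h.basis.repr w j = 0 := by
    intro j hj
    have h2 : h.basis.repr (X *ᵥ w) j = lam j * h.basis.repr w j := by
      have h3 : w = ∑ k, h.basis.repr w k • v k := by
        conv_lhs => rw [← h.basis.sum_repr w]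
        simp only [basis_apply]
      have h4 : X *ᵥ w = ∑ k, (h.basis.repr w k * lam k) • h.basis k := by
        conv_lhs => rw [h3]
        rw [Matrix.mulVec_sum]
        refine Finset.sum_congr rfl fun k _ => ?_
        rw [Matrix.mulVec_smul, h.eq, smul_smul, basis_apply]
      rw [h4, map_sum, Finsupp.finsetSum_apply]
      simp only [map_smul, Module.Basis.repr_self, Finsupp.smul_apply, smul_eq_mul]
      rw [Finset.sum_eq_single j]
      · rw [Finsupp.single_eq_same]; ring
      · intro k _ hk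
        rw [Finsupp.single_eq_of_ne (by simpa using hk.symm)]; ring
      · simp
    rw [hw, map_smul, Finsupp.smul_apply, smul_eq_mul] at h2
    have h5 : (lam i - lam j) * h.basis.repr w j = 0 := by rw [sub_mul, h2, sub_self]
    rcases mul_eq_zero.1 h5 with h6 | h6
    · exact absurd (h.inj (sub_eq_zero.1 h6)).symm hj
    · exact h6
  conv_lhs => rw [← h.basis.sum_repr w]
  rw [Finset.sum_eq_single i]
  · rw [basis_apply]
  · intro j _ hj; rw [h1 j hj, zero_smul]
  · simp

/-- A commuting matrix is diagonal in the eigenbasis. -/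
theorem exists_mu (h : Eig X lam v) {Y : Matrix ι ι K} (hXY : X * Y = Y * X) :
    ∃ mu : ι → K, ∀ i, Y *ᵥ v i = mu i • v i := by
  have h1 : ∀ i, ∃ c : K, Y *ᵥ v i = c • v i := fun i => by
    apply h.exists_smul
    rw [Matrix.mulVec_mulVec, hXY, ← Matrix.mulVec_mulVec, h.eq, Matrix.mulVec_smul]
  exact ⟨fun i => (h1 i).choose, fun i => (h1 i).choose_spec⟩

theorem ext (h : Eig X lam v) {Y Z : Matrix ι ι K} (hYZ : ∀ i, Y *ᵥ v i = Z *ᵥ v i) : Y = Z := by
  apply Matrix.toLin'.injective
  apply h.basis.ext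
  intro i
  rw [basis_apply, Matrix.toLin'_apply, Matrix.toLin'_apply]
  exact hYZ i

theorem pow_mulVec {Y : Matrix ι ι K} {w : ι → K} {c : K} (h : Y *ᵥ w = c • w) (k : ℕ) : (Y ^ k) *ᵥ w = c ^ k • w := by
  induction k with
  | zero => simp
  | succ k ih => rw [pow_succ, ← Matrix.mulVec_mulVec, h, Matrix.mulVec_smul, ih, smul_smul, pow_succ']

theorem pow_eq_one (h : Eig X lam v) {Y : Matrix ι ι K} {mu : ι → K} (hY : ∀ i, Y *ᵥ v i = mu i • v i) {k : ℕ}
    (hk : ∀ i, mu i ^ k = 1) : Y ^ k = 1 := by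
  apply h.ext
  intro i
  rw [pow_mulVec (hY i), hk, one_smul, Matrix.one_mulVec]

theorem mu_pow_eq_one (h : Eig X lam v) {Y : Matrix ι ι K} {mu : ι → K} (hY : ∀ i, Y *ᵥ v i = mu i • v i) {k : ℕ}
    (hk : Y ^ k = 1) (i : ι) : mu i ^ k = 1 := by
  have h1 := pow_mulVec (hY i) k
  rw [hk, Matrix.one_mulVec] at h1
  have h2 : (mu i ^ k - 1) • v i = 0 := by rw [sub_smul, one_smul, ← h1, sub_self]
  rcases smul_eq_zero.1 h2 with h3 | h3
  · exact sub_eq_zero.1 h3
  · exact absurd h3 (h.ne i)

/-- The determinant of a commuting matrix. -/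
theorem det_eq (h : Eig X lam v) {Y : Matrix ι ι K} {mu : ι → K} (hY : ∀ i, Y *ᵥ v i = mu i • v i) :
    Y.det = ∏ i, mu i := by
  have h1 : LinearMap.toMatrix h.basis h.basis (Matrix.toLin' Y) = Matrix.diagonal mu := by
    ext i j
    rw [LinearMap.toMatrix_apply, basis_apply, Matrix.toLin'_apply, hY, map_smul, Finsupp.smul_apply,
      ← h.basis_apply j, Module.Basis.repr_self, smul_eq_mul, Matrix.diagonal_apply, Finsupp.single_apply]
    by_cases hij : i = j
    · subst hij; simp
    · rw [if_neg (Ne.symm hij), if_neg hij, mul_zero]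
  rw [← LinearMap.det_toLin', ← LinearMap.det_toMatrix h.basis, h1, Matrix.det_diagonal]

/-- In characteristic `p`, a commuting matrix of `p`-power order is trivial. -/
theorem eq_one_of_pow_prime (h : Eig X lam v) (p : ℕ) [Fact p.Prime] [CharP K p] {Y : Matrix ι ι K}
    (hXY : X * Y = Y * X) {k : ℕ} (hk : Y ^ (p ^ k) = 1) : Y = 1 := by
  obtain ⟨mu, hmu⟩ := h.exists_mu hXY
  have h1 : ∀ i, mu i ^ 1 = 1 := fun i => by
    have h2 := h.mu_pow_eq_one hmu hk i
    rw [pow_one]
    have h3 : (mu i - 1) ^ (p ^ k) = 0 := by rw [sub_pow_char_pow, h2, one_pow, sub_self]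
    exact sub_eq_zero.1 (pow_eq_zero_iff (pow_ne_zero _ (Fact.out : p.Prime).ne_zero) |>.1 h3)
  have := h.pow_eq_one hmu h1
  rwa [pow_one] at this

end Eig

/-- A nontrivial matrix `X` with `X ^ r = 1`, `r` prime and invertible in `K` (algebraically closed), has an
eigenvalue which is a primitive `r`-th root of unity. -/
theorem exists_primitive_eigenvalue [IsAlgClosed K] {r : ℕ} (hr : r.Prime) (hrK : (r : K) ≠ 0) {X : Matrix ι ι K}
    (hX : X ^ r = 1) (hX1 : X ≠ 1) : ∃ (z : K) (v : ι → K), IsPrimitiveRoot z r ∧ v ≠ 0 ∧ X *ᵥ v = z • v := by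
  have hne : NeZero (r : K) := ⟨hrK⟩
  obtain ⟨ζ, hζ⟩ := HasEnoughRootsOfUnity.exists_primitiveRoot K r
  have hfact := Fact.mk hr
  have h1 : (Polynomial.cyclotomic r K) * (Polynomial.X - 1) = Polynomial.X ^ r - 1 :=
    Polynomial.cyclotomic_prime_mul_X_sub_one K r
  have h2 : Polynomial.aeval X (Polynomial.cyclotomic r K) * (X - 1) = 0 := by
    have h3 := congrArg (Polynomial.aeval X) h1
    simpa [hX] using h3
  have h3 : (Polynomial.aeval X (Polynomial.cyclotomic r K)).det = 0 := by
    by_contra h4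
    have h5 : IsUnit (Polynomial.aeval X (Polynomial.cyclotomic r K)) :=
      (Matrix.isUnit_iff_isUnit_det _).2 (isUnit_iff_ne_zero.2 h4)
    exact hX1 (sub_eq_zero.1 (h5.mul_right_eq_zero.1 h2))
  let φ : Polynomial K →* K := (Matrix.detMonoidHom (n := ι) (R := K)).comp
    ((Polynomial.aeval X : Polynomial K →ₐ[K] Matrix ι ι K) : Polynomial K →* Matrix ι ι K)
  have h4 : φ (Polynomial.cyclotomic r K) = 0 := h3
  rw [Polynomial.cyclotomic_eq_prod_X_sub_primitiveRoots hζ, map_prod, Finset.prod_eq_zero_iff] at h4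
  obtain ⟨z, hz, hz0⟩ := h4
  have h5 : (X - Matrix.scalar ι z).det = 0 := by
    have h6 : φ (Polynomial.X - Polynomial.C z) = (X - Matrix.scalar ι z).det := by
      change (Polynomial.aeval X (Polynomial.X - Polynomial.C z)).det = _
      rw [map_sub, Polynomial.aeval_X, Polynomial.aeval_C]
      rfl
    rw [← h6]; exact hz0
  obtain ⟨v, hv, hv0⟩ := Matrix.exists_mulVec_eq_zero_iff.2 h5
  refine ⟨z, v, (mem_primitiveRoots hr.pos).1 hz, hv, ?_⟩
  rw [Matrix.sub_mulVec, sub_eq_zero] at hv0
  rw [hv0]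
  simp

end Cfsg.Agent.H364.Regular
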