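import Mathlib
import Cfsg.Agent.H364.Unitary
import Cfsg.Agent.ClassicalGeometry.PSUAutBasic

/-!
# Elements of prime order `r` in `SU_n(q)`, `PSU_n(q)` with `ord_r (-q) = n` (helper364)
-/

set_option autoImplicit false

namespace Cfsg.Agent.H364.Unitary

open Matrix Cfsg Cfsg.Agent.H364.Regular

variable {F : Type*} [Field F] [Fintype F] {n q : ℕ}

/-- `∑_{i < n} (-q)^i` -/
def sg (q n : ℕ) : ℤ := ∑ i ∈ Finset.range n, (-(q : ℤ)) ^ i

theorem sg_mul (q n : ℕ) : sg q n * (-(q : ℤ) - 1) = (-(q : ℤ)) ^ n - 1 := by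
  rw [sg, geom_sum_mul]

section

variable (K : Type*) [Field K] [Algebra F K]

/-- iterated eigenvalues -/
theorem exists_iter (hF : Fintype.card F = q ^ 2) (g : SU n F q) {v : Fin n → K} {a : K}
    (hv : v ≠ 0) (h : mK K g *ᵥ v = a • v) (j : ℕ) :
    ∃ w : Fin n → K, w ≠ 0 ∧ mK K g *ᵥ w = (a ^ ((-(q : ℤ)) ^ j)) • w := by
  induction j with
  | zero => exact ⟨v, hv, by simpa using h⟩
  | succ j ih =>
    obtain ⟨w, hw, hw2⟩ := ih
    obtain ⟨w', hw', hw'2⟩ := exists_next K hF g hw hw2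
    refine ⟨w', hw', ?_⟩
    rw [hw'2]
    congr 1
    rw [← zpow_natCast, ← _root_.zpow_mul, ← _root_.zpow_neg, pow_succ]
    congr 1
    ring

theorem zpow_eq_iff {z : K} {r : ℕ} (hz : IsPrimitiveRoot z r) (hr : r.Prime) (a b : ℤ) :
    z ^ a = z ^ b ↔ (a : ZMod r) = (b : ZMod r) := by
  have hz0 : z ≠ 0 := hz.ne_zero hr.ne_zero
  rw [← sub_eq_zero (a := (a : ZMod r)), ← Int.cast_sub, ZMod.intCast_zmod_eq_zero_iff_dvd, ← hz.zpow_eq_one_iff_dvd,
    zpow_sub₀ hz0, div_eq_one_iff_eq (zpow_ne_zero _ hz0)]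

/-- An element of prime order `r` with `ord_r (-q) = n` has `n` distinct eigenvalues `z ^ ((-q) ^ i)`. -/
theorem exists_eig_full [IsAlgClosed K] (hF : Fintype.card F = q ^ 2) {r : ℕ} (hr : r.Prime) (hrF : (r : F) ≠ 0)
    (g : SU n F q) (hg : orderOf g = r) (hn : n ≤ orderOf (-(q : ZMod r))) :
    ∃ (z : K) (v : Fin n → Fin n → K), IsPrimitiveRoot z r ∧
      Eig (mK K g) (fun i => z ^ ((-(q : ℤ)) ^ (i : ℕ))) v := by
  have hrK : (r : K) ≠ 0 := by
    intro h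
    apply hrF
    apply (algebraMap F K).injective
    rw [map_natCast, h, map_zero]
  have hX : mK K g ^ r = 1 := by rw [← mK_pow, ← hg, pow_orderOf_eq_one, mK_one]
  have hX1 : mK K g ≠ 1 := by
    intro h
    rw [← mK_one (F := F) (n := n) (q := q) K] at h
    have := mK_injective K h
    rw [this, orderOf_one] at hg
    exact hr.one_lt.ne hg
  obtain ⟨z, v, hz, hv, hzv⟩ := exists_primitive_eigenvalue hr hrK hX hX1
  choose w hw hw2 using exists_iter K hF g hv hzv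
  refine ⟨z, fun i => w i, hz, ⟨?_, fun i => hw i, fun i => hw2 i⟩⟩
  intro i j hij
  have h1 := (zpow_eq_iff K hz hr _ _).1 hij
  push_cast at h1
  apply Fin.ext
  exact pow_injOn_Iio_orderOf (Set.mem_Iio.2 (lt_of_lt_of_le i.2 hn)) (Set.mem_Iio.2 (lt_of_lt_of_le j.2 hn)) h1

theorem zpow_natAbs_eq_one {G₀ : Type*} [GroupWithZero G₀] {a : G₀} {m : ℤ} (h : a ^ m = 1) : a ^ m.natAbs = 1 := by
  rcases Int.natAbs_eq m with h1 | h1
  · rw [h1] at h; exact_mod_cast h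
  · rw [h1, _root_.zpow_neg, inv_eq_one] at h; exact_mod_cast h

/-- The eigenvalues of a commuting element. -/
theorem mu_eq (hF : Fintype.card F = q ^ 2) {r : ℕ} (hr : r.Prime) {X Y : SU n F q} (hn0 : 0 < n)
    (hn : (-(q : ZMod r)) ^ n = 1) {z : K} {v : Fin n → Fin n → K} (hz : IsPrimitiveRoot z r)
    (hX : Eig (mK K X) (fun i => z ^ ((-(q : ℤ)) ^ (i : ℕ))) v) {mu : Fin n → K}
    (hY : ∀ i, mK K Y *ᵥ v i = mu i • v i) :
    (∀ i, mu i = mu ⟨0, hn0⟩ ^ ((-(q : ℤ)) ^ (i : ℕ))) ∧ mu ⟨0, hn0⟩ ^ (sg q n) = 1 ∧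
      (∀ i, mu i ^ (sg q n) = 1) ∧ mu ⟨0, hn0⟩ ≠ 0 := by
  have h1 : ∀ i : ℕ, ∀ hi : i < n, mu ⟨i, hi⟩ = mu ⟨0, hn0⟩ ^ ((-(q : ℤ)) ^ i) := by
    intro i
    induction i with
    | zero => intro hi; simp
    | succ i ih =>
      intro hi
      have h2 := ih (by omega)
      have h3 := mu_next K hF X Y hX hY (i := ⟨i, by omega⟩) (j := ⟨i + 1, hi⟩) (by
        change z ^ ((-(q : ℤ)) ^ (i + 1)) = ((z ^ ((-(q : ℤ)) ^ i)) ^ q)⁻¹
        rw [← zpow_natCast, ← _root_.zpow_mul, ← _root_.zpow_neg, pow_succ]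
        congr 1
        ring)
      rw [h3, h2, ← zpow_natCast, ← _root_.zpow_mul, ← _root_.zpow_neg, pow_succ]
      congr 1
      ring
  have h0 : mu ⟨0, hn0⟩ ≠ 0 := (transpose_eigen K hF Y (hX.ne _) (hY _)).1
  have h2 : ∏ i, mu i = mu ⟨0, hn0⟩ ^ (sg q n) := by
    have h5 : ∏ i, mu i = ∏ i : Fin n, (fun i : ℕ => mu ⟨0, hn0⟩ ^ ((-(q : ℤ)) ^ i)) (i : ℕ) :=
      Finset.prod_congr rfl fun i _ => h1 i i.2
    rw [sg, h5, Fin.prod_univ_eq_prod_range (fun i => mu ⟨0, hn0⟩ ^ ((-(q : ℤ)) ^ i)) n]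
    have : ∀ s : Finset ℕ, ∏ i ∈ s, mu ⟨0, hn0⟩ ^ ((-(q : ℤ)) ^ i) = mu ⟨0, hn0⟩ ^ (∑ i ∈ s, (-(q : ℤ)) ^ i) := by
      intro s
      induction s using Finset.induction_on with
      | empty => simp
      | insert a s ha ih => rw [Finset.prod_insert ha, Finset.sum_insert ha, zpow_add₀ h0, ih]
    exact this _
  have h3 : mu ⟨0, hn0⟩ ^ (sg q n) = 1 := by
    rw [← h2, ← hX.det_eq hY, mK_det]
  refine ⟨fun i => h1 i i.2, h3, fun i => ?_, h0⟩
  rw [h1 i i.2, ← _root_.zpow_mul, mul_comm, _root_.zpow_mul, h3, _root_.one_zpow]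

end

/-- **Centralisers of regular elements.** An element commuting with an element of prime order `r`, `ord_r (-q) = n`,
has order dividing `|(q^n - (-1)^n) / (q + 1)|`. -/
theorem pow_sg_eq_one (hF : Fintype.card F = q ^ 2) {r : ℕ} (hr : r.Prime) (hrF : (r : F) ≠ 0) (hn0 : 0 < n)
    (hn : orderOf (-(q : ZMod r)) = n) {X Y : SU n F q} (hX : orderOf X = r) (hXY : Commute X Y) :
    Y ^ (sg q n).natAbs = 1 := by
  let K := AlgebraicClosure F
  obtain ⟨z, v, hz, hE⟩ := exists_eig_full K hF hr hrF X hX hn.ge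
  obtain ⟨mu, hmu⟩ := hE.exists_mu (mK_comm K hXY)
  obtain ⟨-, -, h1, -⟩ := mu_eq K hF hr hn0 (by rw [← hn]; exact pow_orderOf_eq_one _) hz hE hmu
  apply mK_injective K
  rw [mK_pow, mK_one]
  exact hE.pow_eq_one hmu fun i => zpow_natAbs_eq_one (h1 i)

theorem dvd_sg (q n : ℕ) : (Nat.gcd n (q + 1) : ℤ) ∣ sg q n := by
  have h1 : ((q + 1 : ℕ) : ℤ) ∣ sg q n - n := by
    rw [sg]
    have h2 : ∀ i : ℕ, ((q + 1 : ℕ) : ℤ) ∣ (-(q : ℤ)) ^ i - 1 := fun i => by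
      have h3 := sub_dvd_pow_sub_pow (-(q : ℤ)) 1 i
      rw [one_pow] at h3
      refine dvd_trans ?_ h3
      exact ⟨-1, by push_cast; ring⟩
    have h4 : ∑ i ∈ Finset.range n, (-(q : ℤ)) ^ i - n = ∑ i ∈ Finset.range n, ((-(q : ℤ)) ^ i - 1) := by
      rw [Finset.sum_sub_distrib]; simp
    rw [h4]
    exact Finset.dvd_sum fun i _ => h2 i
  have h2 : (Nat.gcd n (q + 1) : ℤ) ∣ ((q + 1 : ℕ) : ℤ) := by exact_mod_cast Nat.gcd_dvd_right n (q + 1)
  have h3 : (Nat.gcd n (q + 1) : ℤ) ∣ (n : ℤ) := by exact_mod_cast Nat.gcd_dvd_left n (q + 1)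
  have := dvd_add (h2.trans h1) h3
  simpa using this

/-- The refined statement for the central quotient. -/
theorem pow_mem_center (hF : Fintype.card F = q ^ 2) {r : ℕ} (hr : r.Prime) (hrF : (r : F) ≠ 0) (hn0 : 0 < n)
    (hn : orderOf (-(q : ZMod r)) = n) {X Y : SU n F q} (hX : orderOf X = r) (hXY : Commute X Y) :
    Y ^ ((sg q n).natAbs / Nat.gcd n (q + 1)) ∈ Subgroup.center (SU n F q) := by
  let K := AlgebraicClosure F
  obtain ⟨z, v, hz, hE⟩ := exists_eig_full K hF hr hrF X hX hn.ge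
  obtain ⟨mu, hmu⟩ := hE.exists_mu (mK_comm K hXY)
  obtain ⟨h1, h2, h3, h0⟩ := mu_eq K hF hr hn0 (by rw [← hn]; exact pow_orderOf_eq_one _) hz hE hmu
  set d := Nat.gcd n (q + 1) with hd
  set e := (sg q n).natAbs / d with he
  have hde : d * e = (sg q n).natAbs := Nat.mul_div_cancel' (by
    have := dvd_sg q n
    exact Int.natCast_dvd.1 this)
  set c := mu ⟨0, hn0⟩ ^ e with hc
  have hcd : c ^ d = 1 := by
    rw [hc, ← pow_mul, mul_comm, hde]
    exact zpow_natAbs_eq_one h2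
  have hcq : c ^ (q + 1) = 1 := by
    obtain ⟨k, hk⟩ := Nat.gcd_dvd_right n (q + 1)
    rw [hk, pow_mul, ← hd, hcd, one_pow]
  have hc0 : c ≠ 0 := pow_ne_zero _ h0
  have hci : ∀ i : ℕ, c ^ ((-(q : ℤ)) ^ i) = c := by
    intro i
    have h4 : ((q + 1 : ℕ) : ℤ) ∣ (-(q : ℤ)) ^ i - 1 := by
      have h5 := sub_dvd_pow_sub_pow (-(q : ℤ)) 1 i
      rw [one_pow] at h5
      refine dvd_trans ?_ h5
      exact ⟨-1, by push_cast; ring⟩
    obtain ⟨k, hk⟩ := h4
    rw [show (-(q : ℤ)) ^ i = ((q + 1 : ℕ) : ℤ) * k + 1 by rw [← hk]; ring, zpow_add₀ hc0, _root_.zpow_mul,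
      zpow_natCast, hcq, _root_.one_zpow, one_mul, _root_.zpow_one]
  have hYe : mK K (Y ^ e) = Matrix.scalar (Fin n) c := by
    apply hE.ext
    intro i
    rw [mK_pow, Eig.pow_mulVec (hmu i) e, h1 i, ← zpow_natCast, ← _root_.zpow_mul, mul_comm, _root_.zpow_mul, zpow_natCast,
      ← hc, hci]
    simp
  rw [Subgroup.mem_center_iff]
  intro g
  apply mK_injective K
  rw [mK_mul, mK_mul, hYe]
  exact (Matrix.scalar_commute c (fun x => mul_comm _ _) (mK K g)).symm.eq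

/-- **Element orders in `PSU_n(q)`.** -/
theorem psu_orderOf_dvd (hF : Fintype.card F = q ^ 2) {r : ℕ} (hr : r.Prime) (hrF : (r : F) ≠ 0) (hn1 : 1 < n)
    (hn3 : 3 ≤ n) (hn : orderOf (-(q : ZMod r)) = n) {x : PSU n F q} (hx : r ∣ orderOf x) :
    orderOf x ∣ (sg q n).natAbs / Nat.gcd n (q + 1) := by
  obtain ⟨g, rfl⟩ := QuotientGroup.mk_surjective x
  obtain ⟨k, hk⟩ := hx
  have hk0 : 0 < k := by
    rcases Nat.eq_zero_or_pos k with h | h
    · rw [h, mul_zero] at hk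
      have := orderOf_pos (QuotientGroup.mk g : PSU n F q)
      omega
    · exact h
  -- `g ^ (r * k)` is central, hence killed by `q + 1`
  have h1 : g ^ (r * k) ∈ Subgroup.center (SU n F q) := by
    rw [← QuotientGroup.eq_one_iff, QuotientGroup.mk_pow, ← hk, pow_orderOf_eq_one]
  have h2 : (g ^ (r * k)) ^ (q + 1) = 1 := by
    obtain ⟨c, hcn, hcq, hc⟩ := (Cfsg.Agent.LieClassical.SUBasic.mem_center_SU_iff hF hn3 _).1 h1
    rw [hc]
    apply mat_injective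
    rw [mat_pow, mat_one]
    change (Matrix.diagonal fun _ => c) ^ (q + 1) = 1
    rw [Matrix.diagonal_pow]
    have : (fun _ : Fin n => c) ^ (q + 1) = 1 := by funext i; exact hcq
    rw [this]
    exact Matrix.diagonal_one
  have hrq : ¬ r ∣ q + 1 := by
    intro h
    have h3 : ((q + 1 : ℕ) : ZMod r) = 0 := (ZMod.natCast_eq_zero_iff _ _).2 h
    push_cast at h3
    have h4 : (-(q : ZMod r)) = 1 := by
      rw [neg_eq_iff_add_eq_zero, ← h3]
    rw [h4, orderOf_one] at hn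
    omega
  set X : SU n F q := g ^ (k * (q + 1)) with hX
  have hXr : X ^ r = 1 := by
    rw [hX, ← pow_mul, ← h2, ← pow_mul]
    congr 1
    ring
  have hX1 : X ≠ 1 := by
    intro h
    have h3 : (QuotientGroup.mk g : PSU n F q) ^ (k * (q + 1)) = 1 := by
      rw [← QuotientGroup.mk_pow, ← hX, h]; rfl
    have h4 : r * k ∣ k * (q + 1) := hk ▸ orderOf_dvd_of_pow_eq_one h3
    rw [mul_comm r k] at h4
    exact hrq (Nat.dvd_of_mul_dvd_mul_left hk0 h4)
  have hXo : orderOf X = r := by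
    have := Fact.mk hr
    exact orderOf_eq_prime hXr hX1
  have hcomm : Commute X g := (Commute.refl g).pow_left _
  have h5 := pow_mem_center hF hr hrF (by omega) hn hXo hcomm
  apply orderOf_dvd_of_pow_eq_one
  rw [← QuotientGroup.mk_pow]
  exact (QuotientGroup.eq_one_iff _).2 h5

end Cfsg.Agent.H364.Unitary
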