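import Mathlib
import Cfsg.Agent.H364.UnitaryReg
import Cfsg.Agent.H364.Core

/-!
# `p`-elements of `PSU_n(q)`: exponents and non-adjacency (helper364)
-/

set_option autoImplicit false

namespace Cfsg.Agent.H364.Unitary

open Matrix Cfsg Cfsg.Agent.H364.Regular

theorem pow_card_eq_zero {ι K : Type*} [Fintype ι] [DecidableEq ι] [Field K] {A : Matrix ι ι K}
    (h : IsNilpotent A) : A ^ Fintype.card ι = 0 := by
  have h1 := Matrix.isNilpotent_charpoly_sub_pow_of_isNilpotent h
  have h2 : A.charpoly = Polynomial.X ^ Fintype.card ι := sub_eq_zero.1 h1.eq_zero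
  have h3 := Matrix.aeval_self_charpoly A
  rwa [h2, map_pow, Polynomial.aeval_X] at h3

variable {F : Type*} [Field F] [Fintype F] {n q : ℕ}

theorem pow_eq_one_of_mem_center (hF : Fintype.card F = q ^ 2) (hn3 : 3 ≤ n) {g : SU n F q}
    (h : g ∈ Subgroup.center (SU n F q)) : g ^ (q + 1) = 1 := by
  obtain ⟨c, hcn, hcq, hc⟩ := (Cfsg.Agent.LieClassical.SUBasic.mem_center_SU_iff hF hn3 _).1 h
  rw [hc]
  apply mat_injective
  rw [mat_pow, mat_one]
  change (Matrix.diagonal fun _ => c) ^ (q + 1) = 1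
  rw [Matrix.diagonal_pow]
  have : (fun _ : Fin n => c) ^ (q + 1) = 1 := by funext i; exact hcq
  rw [this]
  exact Matrix.diagonal_one

/-- The exponent of the `p`-elements of `PSU_n(q)`. -/
theorem psu_pow_eq_one (hF : Fintype.card F = q ^ 2) (hn3 : 3 ≤ n) (p : ℕ) [hp : Fact p.Prime] [CharP F p]
    {c : ℕ} (hc : n ≤ p ^ c) {x : PSU n F q} {j : ℕ} (hx : orderOf x = p ^ j) : x ^ (p ^ c) = 1 := by
  obtain ⟨g, rfl⟩ := QuotientGroup.mk_surjective x
  have h1 : g ^ (p ^ j) ∈ Subgroup.center (SU n F q) := by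
    rw [← QuotientGroup.eq_one_iff, QuotientGroup.mk_pow, ← hx, pow_orderOf_eq_one]
  set h : SU n F q := g ^ (q + 1) with hh
  have h2 : h ^ (p ^ j) = 1 := by
    rw [hh, ← pow_mul, mul_comm, pow_mul]
    exact pow_eq_one_of_mem_center hF hn3 h1
  have h3 : (mat h - 1) ^ (p ^ j) = 0 := by
    have : CharP (Matrix (Fin n) (Fin n) F) p := by
      have : Nonempty (Fin n) := ⟨⟨0, by omega⟩⟩
      infer_instance
    rw [sub_pow_char_pow_of_commute (p := p) _ (Commute.one_right _), ← mat_pow, h2, mat_one, one_pow, sub_self]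
  have h4 : (mat h - 1) ^ n = 0 := by
    have := pow_card_eq_zero (⟨_, h3⟩ : IsNilpotent (mat h - 1))
    rwa [Fintype.card_fin] at this
  have h5 : mat h ^ (p ^ c) = 1 := by
    have : CharP (Matrix (Fin n) (Fin n) F) p := by
      have : Nonempty (Fin n) := ⟨⟨0, by omega⟩⟩
      infer_instance
    have h6 : (mat h - 1) ^ (p ^ c) = 0 := by
      obtain ⟨k, hk⟩ := Nat.exists_eq_add_of_le hc
      rw [hk, pow_add, h4, zero_mul]
    rw [sub_pow_char_pow_of_commute (p := p) _ (Commute.one_right _), one_pow, sub_eq_zero] at h6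
    exact h6
  have h6 : h ^ (p ^ c) = 1 := mat_injective (by rw [mat_pow, h5, mat_one])
  have h7 : (QuotientGroup.mk g : PSU n F q) ^ ((q + 1) * p ^ c) = 1 := by
    rw [pow_mul, ← QuotientGroup.mk_pow, ← QuotientGroup.mk_pow, ← hh, h6]; rfl
  have h8 : p ^ j ∣ (q + 1) * p ^ c := hx ▸ orderOf_dvd_of_pow_eq_one h7
  have h9 : (p ^ j).Coprime (q + 1) := by
    apply Nat.Coprime.pow_left
    rw [hp.out.coprime_iff_not_dvd]
    intro h10
    have hq : p ∣ q := by
      have hm : ((q : ℕ) : F) = 0 := by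
        have h11 : ((q ^ 2 : ℕ) : F) = 0 := by rw [← hF]; exact Nat.cast_card_eq_zero F
        push_cast at h11
        exact pow_eq_zero_iff two_ne_zero |>.1 h11
      exact (CharP.cast_eq_zero_iff F p q).1 hm
    have := (Nat.dvd_add_right hq).1 h10
    exact hp.out.one_lt.ne' (Nat.dvd_one.1 this)
  have h10 : p ^ j ∣ p ^ c := h9.dvd_of_dvd_mul_left h8
  exact orderOf_dvd_iff_pow_eq_one.1 (hx ▸ h10)

end Cfsg.Agent.H364.Unitary
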