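import Mathlib
import Cfsg.Agent.H902.SameA

/-!
# The shapes near `U_m` (helper364)
-/

set_option autoImplicit false

namespace Cfsg.Agent.H364.ShapeU

open Cfsg.Agent.H902 Cfsg.Agent.H902.Art

theorem step {β D o i c : ℕ} (h : β * D ∣ 2 * o * i) (hi : 1 ≤ i) (hiD : i ≤ D) (hβo : Nat.Coprime β o)
    (hc : Nat.gcd D o ∣ c) (hc0 : 0 < c) : β ≤ 2 * c := by
  have h1 : β * D ∣ o * (2 * i) := by rw [show o * (2 * i) = 2 * o * i by ring]; exact h
  have h2 : β * D ∣ Nat.gcd (β * D) o * (2 * i) := by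
    have h3 : β * D ∣ Nat.gcd (β * D * (2 * i)) (o * (2 * i)) := Nat.dvd_gcd (dvd_mul_right _ _) h1
    rwa [Nat.gcd_mul_right] at h3
  rw [hβo.gcd_mul_left_cancel] at h2
  have h3 : β * D ∣ c * (2 * i) := h2.trans (Nat.mul_dvd_mul_right hc _)
  have h4 := Nat.le_of_dvd (by positivity) h3
  have h5 : β * D ≤ 2 * c * D := h4.trans (by
    calc c * (2 * i) = 2 * c * i := by ring
      _ ≤ 2 * c * D := Nat.mul_le_mul_left _ hiD)
  exact Nat.le_of_mul_le_mul_right h5 (by omega)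

theorem gcd_dvd_of {D o c x y : ℕ} (h : x * D = y * o + c ∨ y * o = x * D + c) : Nat.gcd D o ∣ c := by
  have h1 : Nat.gcd D o ∣ x * D := (Nat.gcd_dvd_left D o).mul_left x
  have h2 : Nat.gcd D o ∣ y * o := (Nat.gcd_dvd_right D o).mul_left y
  rcases h with h | h
  · rw [h] at h1; exact (Nat.dvd_add_right h2).1 h1
  · rw [h] at h2; exact (Nat.dvd_add_right h1).1 h2

theorem gcd_eq_one_of {D o c : ℕ} (h : Nat.gcd D o ∣ c) (hc : c = 1 ∨ ((c = 2 ∨ c = 4) ∧ Odd o)) : Nat.gcd D o ∣ 1 := by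
  rcases hc with rfl | ⟨hc, ho⟩
  · exact h
  · have h1 : Odd (Nat.gcd D o) := Odd.of_dvd_nat ho (Nat.gcd_dvd_right _ _)
    have h2 : Nat.gcd D o ∣ 2 ^ 2 := h.trans (by rcases hc with rfl | rfl <;> norm_num)
    have h3 : Nat.Coprime (Nat.gcd D o) (2 ^ 2) := Nat.Coprime.pow_right 2 (Nat.coprime_two_right.2 h1)
    have h4 := Nat.Coprime.eq_one_of_dvd h3 h2
    rw [h4]

/-- the numerical data of `U_m` -/
structure Dat (m k o β : ℕ) : Prop where
  k4 : 4 ≤ k
  ko : (m = k ∧ o + 1 = k) ∨ (m = k + 1 ∧ o = k + 1)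
  be : (β = k ∧ 4 ∣ k) ∨ (2 * β = k ∧ Odd β)

namespace Dat

variable {m k o β : ℕ}

theorem even (h : Dat m k o β) : Even k := by
  rcases h.be with ⟨-, h1⟩ | ⟨h1, -⟩
  · exact even_iff_two_dvd.2 ((by norm_num : (2 : ℕ) ∣ 4).trans h1)
  · rw [← h1]; exact even_two_mul β

theorem odd (h : Dat m k o β) : Odd o := by
  obtain ⟨t, ht⟩ := h.even
  have := h.k4
  rcases h.ko with ⟨-, h1⟩ | ⟨-, h1⟩
  · exact ⟨t - 1, by omega⟩
  · exact ⟨t, by omega⟩

theorem be3 (h : Dat m k o β) : 3 ≤ β := by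
  have := h.k4
  rcases h.be with ⟨h1, -⟩ | ⟨h1, t, h2⟩ <;> omega

theorem dvd (h : Dat m k o β) : β ∣ k := by
  rcases h.be with ⟨h1, -⟩ | ⟨h1, -⟩
  · rw [h1]
  · rw [← h1]; exact dvd_mul_left _ _

theorem cop (h : Dat m k o β) : Nat.Coprime β o := by
  have h1 : Nat.Coprime k o := by
    rw [Nat.coprime_iff_gcd_eq_one, ← Nat.dvd_one]
    have := h.k4
    rcases h.ko with ⟨-, h1⟩ | ⟨-, h1⟩
    · exact gcd_dvd_of (x := 1) (y := 1) (Or.inl (by omega))
    · exact gcd_dvd_of (x := 1) (y := 1) (Or.inr (by omega))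
  exact Nat.Coprime.coprime_dvd_left h.dvd h1

end Dat

variable {m k o β : ℕ}

/-- size of the other shapes -/
theorem size (h : Dat m k o β) {X : Sh} {p g M : ℕ} (hX : Real X p g M) (hk : kap X = k) (hL : ∀ n, X ≠ .L n) :
    2 * o ≤ 3 * DM X ∧ ((∃ n, X = .U n) → X ≠ .U m → 4 * o < β * DM X) := by
  have h4 := h.k4
  have hko := h.ko
  have hbe := h.be
  have hok := hX.ok
  cases X with
  | L n => exact absurd rfl (hL n)
  | C n =>
    have hk' : 2 * n = k := hk
    refine ⟨?_, fun ⟨n, hn⟩ => by simp at hn⟩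
    show 2 * o ≤ 3 * (2 * n)
    omega
  | U n =>
    have hk' : (if Even n then n else n - 1) = k := hk
    have hn3 : 3 ≤ n := hok.1
    have hD : DM (.U n) = if Even n then 2 * (n - 1) else 2 * n := rfl
    rw [hD]
    split_ifs at hk' ⊢ with he
    · refine ⟨by omega, fun _ hne => ?_⟩
      have hnm : n ≠ m := fun h => hne (by rw [h])
      have ho : o = k + 1 := by omega
      have h6 : k = 4 ∨ 6 ≤ k := by
        obtain ⟨t, ht⟩ := h.even; omega
      rcases h6 with h6 | h6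
      · have : β = 4 := by
          rcases hbe with ⟨h1, -⟩ | ⟨h1, t, h2⟩ <;> omega
        subst this
        omega
      · have := h.be3
        calc 4 * o < 3 * (2 * (n - 1)) := by omega
          _ ≤ β * (2 * (n - 1)) := Nat.mul_le_mul_right _ this
    · refine ⟨by omega, fun _ hne => ?_⟩
      have hnm : n ≠ m := fun h => hne (by rw [h])
      have ho : o + 1 = k := by omega
      have := h.be3
      calc 4 * o < 3 * (2 * n) := by omega
        _ ≤ β * (2 * n) := Nat.mul_le_mul_right _ this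
  | D n =>
    have hk' : 2 * n = k := hk
    have hn : 4 ≤ n := hok
    refine ⟨?_, fun ⟨n, hn⟩ => by simp at hn⟩
    show 2 * o ≤ 3 * (2 * (n - 1))
    omega
  | DD n =>
    have hk' : 2 * (n - 1) = k := hk
    have hn : 4 ≤ n := hok
    refine ⟨?_, fun ⟨n, hn⟩ => by simp at hn⟩
    show 2 * o ≤ 3 * (2 * n)
    omega
  | G2 => have hk' : 4 = k := hk; exact ⟨by show 2 * o ≤ 3 * 6; omega, fun ⟨n, hn⟩ => by simp at hn⟩
  | F4 => have hk' : 8 = k := hk; exact ⟨by show 2 * o ≤ 3 * 12; omega, fun ⟨n, hn⟩ => by simp at hn⟩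
  | E6 => have hk' : 12 = k := hk; exact ⟨by show 2 * o ≤ 3 * 12; omega, fun ⟨n, hn⟩ => by simp at hn⟩
  | E7 => have hk' : 14 = k := hk; exact ⟨by show 2 * o ≤ 3 * 18; omega, fun ⟨n, hn⟩ => by simp at hn⟩
  | E8 => have hk' : 16 = k := hk; exact ⟨by show 2 * o ≤ 3 * 30; omega, fun ⟨n, hn⟩ => by simp at hn⟩
  | TE6 => have hk' : 8 = k := hk; exact ⟨by show 2 * o ≤ 3 * 18; omega, fun ⟨n, hn⟩ => by simp at hn⟩
  | TD4 => have hk' : 4 = k := hk; exact ⟨by show 2 * o ≤ 3 * 12; omega, fun ⟨n, hn⟩ => by simp at hn⟩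
  | Sz => have hk' : 2 = k := hk; omega
  | Ree => have hk' : 2 = k := hk; omega
  | TF4 => have hk' : 4 = k := hk; exact ⟨by show 2 * o ≤ 3 * 12; omega, fun ⟨n, hn⟩ => by simp at hn⟩

theorem shapeL (h : Dat m k o β) {n p f g : ℕ} (hf : 1 ≤ f) (hg : 1 ≤ g) (hk : 2 * (n - 1) = k)
    (hD : g * n = f * (2 * o))
    (hB : g * (n - 1) ≤ f * (if m = 4 then 4 else 2 * (o - 2)) ∨ (p = 2 ∧ g * (n - 1) = 6) ∨ g * (n - 1) ≤ 2) :
    m = 4 ∧ n = 3 := by
  have h4 := h.k4
  have hko := h.ko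
  rcases hB with h1 | ⟨-, h1⟩ | h1
  · by_cases hm4 : m = 4
    · exact ⟨hm4, by omega⟩
    exfalso
    rw [if_neg hm4] at h1
    obtain ⟨t, rfl⟩ : ∃ t, n = t + 3 := ⟨n - 3, by omega⟩
    have e1 : t + 3 - 1 = t + 2 := by omega
    rw [e1] at h1 hk
    rcases hko with ⟨h2, h3⟩ | ⟨h2, h3⟩
    · -- `m` even
      obtain ⟨s, rfl⟩ : ∃ s, t = s + 1 := ⟨t - 1, by omega⟩
      have ho : o = 2 * s + 5 := by omega
      have ho2 : 2 * (o - 2) = 4 * s + 6 := by omega
      rw [ho2] at h1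
      rw [ho] at hD
      have h5 : f * (4 * s + 10) * (s + 3) ≤ f * (4 * s + 6) * (s + 4) := by
        calc f * (4 * s + 10) * (s + 3) = (f * (2 * (2 * s + 5))) * (s + 3) := by ring
          _ = (g * (s + 1 + 3)) * (s + 3) := by rw [hD]
          _ = (g * (s + 1 + 2)) * (s + 4) := by ring
          _ ≤ f * (4 * s + 6) * (s + 4) := Nat.mul_le_mul_right _ h1
      nlinarith
    · have ho : o = 2 * t + 5 := by omega
      have ho2 : 2 * (o - 2) = 4 * t + 6 := by omega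
      rw [ho2] at h1
      rw [ho] at hD
      have h5 : f * (4 * t + 10) * (t + 2) ≤ f * (4 * t + 6) * (t + 3) := by
        calc f * (4 * t + 10) * (t + 2) = (f * (2 * (2 * t + 5))) * (t + 2) := by ring
          _ = (g * (t + 3)) * (t + 2) := by rw [hD]
          _ = (g * (t + 2)) * (t + 3) := by ring
          _ ≤ f * (4 * t + 6) * (t + 3) := Nat.mul_le_mul_right _ h1
      nlinarith
  · exfalso
    have hn : n - 1 ∣ 6 := ⟨g, by rw [← h1, mul_comm]⟩
    have hn6 := Nat.le_of_dvd (by norm_num) hn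
    have hn7 : n ≤ 7 := by omega
    have hn3 : 3 ≤ n := by omega
    interval_cases n
    · have hg3 : g = 3 := by omega
      subst hg3
      have : o = 3 ∨ o = 5 := by omega
      rcases this with rfl | rfl <;> omega
    · have hg3 : g = 2 := by omega
      subst hg3
      have : o = 5 ∨ o = 7 := by omega
      rcases this with rfl | rfl <;> omega
    · omega
    · omega
    · have hg3 : g = 1 := by omega
      subst hg3
      have : o = 11 ∨ o = 13 := by omega
      rcases this with rfl | rfl <;> omega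
  · exfalso
    have hn3 : 2 ≤ n - 1 := by omega
    have h5 : g * 2 ≤ g * (n - 1) := Nat.mul_le_mul_left g hn3
    have hg1 : g = 1 := by omega
    subst hg1
    have : n = 3 := by omega
    subst this
    have : o = 3 ∨ o = 5 := by omega
    rcases this with rfl | rfl <;> omega

/-- **The shapes near `U_m`.** -/
theorem shape_cases (h : Dat m k o β) {X : Sh} {p f g M : ℕ} (hX : Real X p g M) (hf : 1 ≤ f)
    (hk : kap X = k) (hD : g * DM X = f * (2 * o))
    (hB : DM X < 2 * BM X →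
      g * BM X ≤ f * (if m = 4 then 4 else 2 * (o - 2)) ∨ (p = 2 ∧ g * BM X = 6) ∨ g * BM X ≤ 2)
    (hs : (∀ n, X ≠ .L n) → X ≠ .U m → ∃ i, (i = DM X ∨ (1 ≤ i ∧ i ≤ BM X)) ∧ β * DM X ∣ 2 * o * i) :
    X = .U m ∨ (m = 4 ∧ X = .L 3) ∨ (m = 9 ∧ X = .TE6) ∨ (m = 16 ∧ X = .E8) := by
  have h4 := h.k4
  have hko := h.ko
  have hbe := h.be
  have hb3 := h.be3
  have hok := hX.ok
  have hg := hX.hf
  have hcop := h.cop
  have hodd := h.odd
  cases X with
  | L n =>
    right; left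
    have hk' : 2 * (n - 1) = k := hk
    have h1 := shapeL h hf hg hk' hD (hB (by show n < 2 * (n - 1); omega))
    exact ⟨h1.1, by rw [h1.2]⟩
  | C n =>
    exfalso
    have hk' : 2 * n = k := hk
    obtain ⟨i, hi, hd⟩ := hs (fun n => by simp) (by simp)
    have hi' : 1 ≤ i ∧ i ≤ 2 * n := by
      rcases hi with h | h
      · have h' : i = 2 * n := h; omega
      · have h' : i ≤ 2 * (n - 1) := h.2; omega
    have hd' : β * (2 * n) ∣ 2 * o * i := hd
    have h1 := step hd' hi'.1 hi'.2 hcop (c := 1) (by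
      rcases hko with ⟨-, h1⟩ | ⟨-, h1⟩
      · exact gcd_dvd_of (x := 1) (y := 1) (Or.inl (by omega))
      · exact gcd_dvd_of (x := 1) (y := 1) (Or.inr (by omega))) one_pos
    omega
  | U n =>
    by_cases hnm : n = m
    · left; rw [hnm]
    exfalso
    have hk' : (if Even n then n else n - 1) = k := hk
    obtain ⟨i, hi, hd⟩ := hs (fun n => by simp) (by simpa using hnm)
    have hDn : DM (.U n) = if Even n then 2 * (n - 1) else 2 * n := rfl
    have hBn : BM (.U n) = if Even n then (if n = 4 then 4 else 2 * (n - 3)) else 2 * (n - 2) := rfl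
    have hn3 : 3 ≤ n := hok.1
    rw [hDn] at hd hi
    rw [hBn] at hi
    split_ifs at hk' hd hi with he hn4
    · subst hn4
      have hi' : 1 ≤ i ∧ i ≤ 2 * (4 - 1) := by omega
      have ho : o = 5 := by omega
      have h1 := step hd hi'.1 hi'.2 hcop (c := 1) (by rw [ho]; decide) one_pos
      omega
    · have hi' : 1 ≤ i ∧ i ≤ 2 * (n - 1) := by omega
      have ho : o = k + 1 := by omega
      have h1 := step hd hi'.1 hi'.2 hcop (c := 1)
        (gcd_eq_one_of (c := 4) (gcd_dvd_of (x := 1) (y := 2) (Or.inr (by omega))) (Or.inr ⟨Or.inr rfl, hodd⟩)) one_pos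
      omega
    · have hi' : 1 ≤ i ∧ i ≤ 2 * n := by omega
      have ho : o + 1 = k := by omega
      have h1 := step hd hi'.1 hi'.2 hcop (c := 1)
        (gcd_eq_one_of (c := 4) (gcd_dvd_of (x := 1) (y := 2) (Or.inl (by omega))) (Or.inr ⟨Or.inr rfl, hodd⟩)) one_pos
      omega
  | D n =>
    exfalso
    have hk' : 2 * n = k := hk
    have hn : 4 ≤ n := hok
    obtain ⟨i, hi, hd⟩ := hs (fun n => by simp) (by simp)
    have hi' : 1 ≤ i ∧ i ≤ 2 * (n - 1) := by
      rcases hi with h | h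
      · have h' : i = 2 * (n - 1) := h; omega
      · have h' : i ≤ 2 * (n - 2) := h.2; omega
    have hd' : β * (2 * (n - 1)) ∣ 2 * o * i := hd
    rcases hko with ⟨-, h1⟩ | ⟨-, h1⟩
    · have h2 := step hd' hi'.1 hi'.2 hcop (c := 1) (gcd_dvd_of (x := 1) (y := 1) (Or.inr (by omega))) one_pos
      omega
    · have h2 := step hd' hi'.1 hi'.2 hcop (c := 3) (gcd_dvd_of (x := 1) (y := 1) (Or.inr (by omega))) (by norm_num)
      have h3 : β = 5 ∧ k = 10 := by
        rcases hbe with ⟨h5, t, h6⟩ | ⟨h5, t, h6⟩ <;> omega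
      obtain ⟨rfl, rfl⟩ := h3
      have hn5 : n = 5 := by omega
      subst hn5
      subst h1
      obtain ⟨hi1, hi2⟩ := hi'
      norm_num at hi2 hd'
      interval_cases i <;> omega
  | DD n =>
    exfalso
    have hk' : 2 * (n - 1) = k := hk
    have hn : 4 ≤ n := hok
    obtain ⟨i, hi, hd⟩ := hs (fun n => by simp) (by simp)
    have hi' : 1 ≤ i ∧ i ≤ 2 * n := by
      rcases hi with h | h
      · have h' : i = 2 * n := h; omega
      · have h' : i ≤ 2 * (n - 1) := h.2; omega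
    have hd' : β * (2 * n) ∣ 2 * o * i := hd
    rcases hko with ⟨hmk, h1⟩ | ⟨-, h1⟩
    · have h2 := step hd' hi'.1 hi'.2 hcop (c := 3) (gcd_dvd_of (x := 1) (y := 1) (Or.inl (by omega))) (by norm_num)
      have h3 : (β = 5 ∧ k = 10) ∨ (β = 3 ∧ k = 6) := by
        rcases hbe with ⟨h5, t, h6⟩ | ⟨h5, t, h6⟩ <;> omega
      rcases h3 with ⟨rfl, rfl⟩ | ⟨rfl, rfl⟩
      · have hn5 : n = 6 := by omega
        subst hn5
        obtain rfl : o = 9 := by omega
        have hB' : DM (.DD 6) < 2 * BM (.DD 6) := by decide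
        have hD' : g * 12 = f * 18 := hD
        subst hmk
        have hB2 : g * 10 ≤ f * 14 ∨ (p = 2 ∧ g * 10 = 6) ∨ g * 10 ≤ 2 := hB hB'
        omega
      · have hn5 : n = 4 := by omega
        subst hn5
        obtain rfl : o = 5 := by omega
        obtain ⟨hi1, hi2⟩ := hi'
        norm_num at hi2 hd'
        interval_cases i <;> omega
    · have h2 := step hd' hi'.1 hi'.2 hcop (c := 1) (gcd_dvd_of (x := 1) (y := 1) (Or.inl (by omega))) one_pos
      omega
  | G2 =>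
    exfalso
    obtain rfl : 4 = k := hk
    obtain ⟨i, hi, hd⟩ := hs (fun n => by simp) (by simp)
    have hd' : β * 6 ∣ 2 * o * i := hd
    have hi' : i = 6 ∨ (1 ≤ i ∧ i ≤ 2) := hi
    have hb : β = 4 := by rcases hbe with ⟨h5, t, h6⟩ | ⟨h5, t, h6⟩ <;> omega
    subst hb
    have ho : o = 3 ∨ o = 5 := by omega
    rcases ho with rfl | rfl <;> omega
  | F4 =>
    exfalso
    obtain rfl : 8 = k := hk
    obtain ⟨i, hi, hd⟩ := hs (fun n => by simp) (by simp)
    have hd' : β * 12 ∣ 2 * o * i := hd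
    have hi' : i = 12 ∨ (1 ≤ i ∧ i ≤ 8) := hi
    have hb : β = 8 := by rcases hbe with ⟨h5, t, h6⟩ | ⟨h5, t, h6⟩ <;> omega
    subst hb
    have ho : o = 7 ∨ o = 9 := by omega
    rcases ho with rfl | rfl <;> omega
  | E6 =>
    exfalso
    obtain rfl : 12 = k := hk
    obtain ⟨i, hi, hd⟩ := hs (fun n => by simp) (by simp)
    have hd' : β * 12 ∣ 2 * o * i := hd
    have hi' : i = 12 ∨ (1 ≤ i ∧ i ≤ 9) := hi
    have hb : β = 12 := by rcases hbe with ⟨h5, t, h6⟩ | ⟨h5, t, h6⟩ <;> omega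
    subst hb
    have ho : o = 11 ∨ o = 13 := by omega
    rcases ho with rfl | rfl <;> omega
  | E7 =>
    exfalso
    obtain rfl : 14 = k := hk
    obtain ⟨i, hi, hd⟩ := hs (fun n => by simp) (by simp)
    have hd' : β * 18 ∣ 2 * o * i := hd
    have hi' : i = 18 ∨ (1 ≤ i ∧ i ≤ 14) := hi
    have hb : β = 7 := by rcases hbe with ⟨h5, t, h6⟩ | ⟨h5, t, h6⟩ <;> omega
    subst hb
    have ho : o = 13 ∨ o = 15 := by omega
    rcases ho with rfl | rfl <;> omega
  | E8 =>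
    obtain rfl : 16 = k := hk
    obtain ⟨i, hi, hd⟩ := hs (fun n => by simp) (by simp)
    have hd' : β * 30 ∣ 2 * o * i := hd
    have hi' : i = 30 ∨ (1 ≤ i ∧ i ≤ 24) := hi
    have hb : β = 16 := by rcases hbe with ⟨h5, t, h6⟩ | ⟨h5, t, h6⟩ <;> omega
    subst hb
    rcases hko with ⟨h1, h2⟩ | ⟨h1, h2⟩
    · right; right; right; exact ⟨h1, rfl⟩
    · exfalso
      subst h2
      omega
  | TE6 =>
    obtain rfl : 8 = k := hk
    obtain ⟨i, hi, hd⟩ := hs (fun n => by simp) (by simp)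
    have hd' : β * 18 ∣ 2 * o * i := hd
    have hi' : i = 18 ∨ (1 ≤ i ∧ i ≤ 12) := hi
    have hb : β = 8 := by rcases hbe with ⟨h5, t, h6⟩ | ⟨h5, t, h6⟩ <;> omega
    subst hb
    rcases hko with ⟨h1, h2⟩ | ⟨h1, h2⟩
    · exfalso
      obtain rfl : o = 7 := by omega
      omega
    · right; right; left; exact ⟨h1, rfl⟩
  | TD4 =>
    exfalso
    obtain rfl : 4 = k := hk
    obtain ⟨i, hi, hd⟩ := hs (fun n => by simp) (by simp)
    have hd' : β * 12 ∣ 2 * o * i := hd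
    have hi' : i = 12 ∨ (1 ≤ i ∧ i ≤ 6) := hi
    have hb : β = 4 := by rcases hbe with ⟨h5, t, h6⟩ | ⟨h5, t, h6⟩ <;> omega
    subst hb
    have ho : o = 3 ∨ o = 5 := by omega
    rcases ho with rfl | rfl <;> omega
  | Sz => exfalso; have : 2 = k := hk; omega
  | Ree => exfalso; have : 2 = k := hk; omega
  | TF4 =>
    exfalso
    obtain rfl : 4 = k := hk
    obtain ⟨i, hi, hd⟩ := hs (fun n => by simp) (by simp)
    have hd' : β * 12 ∣ 2 * o * i := hd
    have hi' : i = 12 ∨ (1 ≤ i ∧ i ≤ 6) := hi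
    have hb : β = 4 := by rcases hbe with ⟨h5, t, h6⟩ | ⟨h5, t, h6⟩ <;> omega
    subst hb
    have ho : o = 3 ∨ o = 5 := by omega
    rcases ho with rfl | rfl <;> omega

end Cfsg.Agent.H364.ShapeU
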