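import Mathlib
import Cfsg.Agent.H364.ShapeU
import Cfsg.Agent.H364.NuOrd
import Cfsg.Agent.H902.Zs

/-!
# Arithmetic: the groups of Lie type near `U_m(q)` (helper364)
-/

set_option autoImplicit false

namespace Cfsg.Agent.H364.ArithU

open Cfsg.Agent.H902 Cfsg.Agent.H902.Art Cfsg.Agent.H364.ShapeU Cfsg.Agent.H364.NuOrd

section near

variable {X Y : Sh} {p f g MX MY : ℕ}

theorem exists_ppd {p n : ℕ} (hp : p.Prime) (hn : 3 ≤ n) (hex : ¬ (p = 2 ∧ n = 6)) :
    ∃ t : ℕ, t.Prime ∧ t ≠ p ∧ orderOf (p : ZMod t) = n := by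
  obtain ⟨t, ht, ho⟩ := Cfsg.Agent.Lib.Zsigmondy.exists_prime_orderOf hp.two_le (by omega) (fun h => by omega) hex
  exact ⟨t, ht, ne_of_order ht (by omega) ho, ho⟩

/-- the largest exponent of a divisor is not larger -/
theorem le_DM (hX : Real X p g MX) (hY : Real Y p f MY) (hdvd : MX ∣ MY) (h6 : 6 ≤ f * DM Y) :
    g * DM X ≤ f * DM Y := by
  by_cases h3 : 3 ≤ g * DM X
  · by_cases hex : p = 2 ∧ g * DM X = 6
    · omega
    · obtain ⟨t, ht, htp, ho⟩ := exists_ppd hX.hp h3 hex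
      have h1 : t ∣ MX := hX.dvd_of_order_DM ht ho h3
      have hYl := BM_lt hY
      rcases hY.order_cases ht htp (h1.trans hdvd) with h2 | ⟨e, he1, he2, h2⟩
      · rw [ho] at h2
        exact Nat.le_of_dvd (by omega) h2
      · rw [ho] at h2
        have h4 := Nat.le_of_dvd (Nat.mul_pos (by have := hY.hf; omega) he1) h2
        exact h4.trans (Nat.mul_le_mul_left f (by omega))
  · omega

theorem le_BM (hX : Real X p g MX) (hY : Real Y p f MY) (hdvd : MX ∣ MY) (hD : g * DM X = f * DM Y)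
    (hB : DM X < 2 * BM X) : g * BM X ≤ f * BM Y ∨ (p = 2 ∧ g * BM X = 6) ∨ g * BM X ≤ 2 := by
  by_cases h3 : 3 ≤ g * BM X
  · by_cases hex : p = 2 ∧ g * BM X = 6
    · exact Or.inr (Or.inl hex)
    · left
      obtain ⟨t, ht, htp, ho⟩ := exists_ppd hX.hp h3 hex
      have h1 : t ∣ MX := hX.dvd_of_order_BM ht hB ho h3
      have hXl := BM_lt hX
      have hg := hX.hf
      rcases hY.order_cases ht htp (h1.trans hdvd) with h2 | ⟨e, he1, he2, h2⟩
      · exfalso
        rw [ho, ← hD] at h2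
        have h4 : BM X ∣ DM X := Nat.dvd_of_mul_dvd_mul_left hg h2
        obtain ⟨c, hc⟩ := h4
        have : c = 0 ∨ c = 1 ∨ 2 ≤ c := by omega
        rcases this with rfl | rfl | hc2
        · omega
        · omega
        · have : 2 * BM X ≤ BM X * c := by rw [mul_comm 2]; exact Nat.mul_le_mul_left _ hc2
          omega
      · rw [ho] at h2
        have h4 := Nat.le_of_dvd (Nat.mul_pos (by have := hY.hf; omega) he1) h2
        exact h4.trans (Nat.mul_le_mul_left f he2)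
  · right; right; omega

theorem fac_self (hX : Real X p g MX) : MX.factorization p = g * NN X := by
  have h1 := hX.P_self
  rw [P, ← pow_mul] at h1
  exact Nat.pow_right_injective hX.hp.two_le h1

/-- a prime `t ≥ 5` dividing `dd X` -/
theorem dd_cases (hX : Real X p g MX) {t : ℕ} (ht5 : 5 ≤ t) (h : t ∣ dd X (p ^ g)) :
    (orderOf (p : ZMod t) ∣ g ∧ ∃ n, X = .L n) ∨ (orderOf (p : ZMod t) ∣ 2 * g ∧ ∃ n, X = .U n) := by
  have hle : ∀ {a : ℕ}, t ∣ Nat.gcd a 4 → False := fun {a} h => by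
    have := Nat.le_of_dvd (by norm_num) (h.trans (Nat.gcd_dvd_right _ _)); omega
  have hl4 : ∀ {a : ℕ}, t ∣ Nat.gcd 4 a → False := fun {a} h => by
    have := Nat.le_of_dvd (by norm_num) (h.trans (Nat.gcd_dvd_left _ _)); omega
  have hl3 : ∀ {a : ℕ}, t ∣ Nat.gcd 3 a → False := fun {a} h => by
    have := Nat.le_of_dvd (by norm_num) (h.trans (Nat.gcd_dvd_left _ _)); omega
  have hl2 : ∀ {a : ℕ}, t ∣ Nat.gcd 2 a → False := fun {a} h => by
    have := Nat.le_of_dvd (by norm_num) (h.trans (Nat.gcd_dvd_left _ _)); omega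
  have hl1 : t ∣ 1 → False := fun h => by have := Nat.le_of_dvd (by norm_num) h; omega
  cases X with
  | L n =>
    left
    have h1 : t ∣ (p ^ g) ^ 1 - 1 := by rw [pow_one]; exact Nat.dvd_trans h (Nat.gcd_dvd_right _ _)
    exact ⟨by have := (dvd_iff hX.hp 1).1 h1; rwa [mul_one] at this, n, rfl⟩
  | U n =>
    right
    have h1 : t ∣ (p ^ g) ^ 1 + 1 := by rw [pow_one]; exact Nat.dvd_trans h (Nat.gcd_dvd_right _ _)
    exact ⟨by have := dvd_of_add hX.hp h1; rwa [mul_one, mul_comm] at this, n, rfl⟩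
  | C n => exact (hl2 h).elim
  | D n => exact (hl4 h).elim
  | DD n => exact (hl4 h).elim
  | G2 => exact (hl1 h).elim
  | F4 => exact (hl1 h).elim
  | E6 => exact (hl3 h).elim
  | E7 => exact (hl2 h).elim
  | E8 => exact (hl1 h).elim
  | TE6 => exact (hl3 h).elim
  | TD4 => exact (hl1 h).elim
  | Sz => exact (hl1 h).elim
  | Ree => exact (hl1 h).elim
  | TF4 => exact (hl1 h).elim

/-- the data of an outer automorphism group -/
structure OutDat (X : Sh) (p g I : ℕ) : Prop where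
  ex : ∃ c, I ∣ c * g ∧ c ∣ 24 * dd X (p ^ g) ∧ (p = 2 → c ∣ 6 * dd X (p ^ g))

theorem OutDat.prime (hX : Real X p g MX) {I : ℕ} (hI : OutDat X p g I) {t : ℕ} (ht : t.Prime) (ht5 : 5 ≤ t)
    (h : t ∣ I) : t ∣ g ∨ (orderOf (p : ZMod t) ∣ g ∧ ∃ n, X = .L n) ∨ (orderOf (p : ZMod t) ∣ 2 * g ∧ ∃ n, X = .U n) := by
  obtain ⟨c, h1, h2, -⟩ := hI.ex
  rcases ht.dvd_mul.1 (h.trans h1) with h3 | h3
  · rcases ht.dvd_mul.1 (h3.trans h2) with h4 | h4
    · exfalso
      have h5 : t ∣ 2 ^ 3 * 3 := h4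
      rcases ht.dvd_mul.1 h5 with h6 | h6
      · have := Nat.le_of_dvd (by norm_num) (ht.dvd_of_dvd_pow h6); omega
      · have := Nat.le_of_dvd (by norm_num) h6; omega
    · exact Or.inr (dd_cases hX ht5 h4)
  · exact Or.inl h3

theorem OutDat.pow (hX : Real X p g MX) {I δ : ℕ} (hI : OutDat X p g I) (h : p ^ δ ∣ I) (hδ : 3 ≤ δ) : δ < g := by
  have hp := hX.hp
  have hg := hX.hf
  have hcop : Nat.Coprime (p ^ δ) (dd X (p ^ g)) :=
    Nat.Coprime.pow_left δ ((Nat.Prime.coprime_iff_not_dvd hp).2 hX.not_dvd_dd)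
  obtain ⟨c, h1, h2, h3⟩ := hI.ex
  have h4 : p ^ δ ∣ 24 * g := by
    have h5 : p ^ δ ∣ dd X (p ^ g) * (24 * g) := (h.trans h1).trans (by
      rw [show dd X (p ^ g) * (24 * g) = 24 * dd X (p ^ g) * g by ring]
      exact Nat.mul_dvd_mul_right h2 g)
    exact hcop.dvd_of_dvd_mul_left h5
  by_cases hp2 : p = 2
  · subst hp2
    have h6 : 2 ^ δ ∣ 6 * g := by
      have h5 : 2 ^ δ ∣ dd X (2 ^ g) * (6 * g) := (h.trans h1).trans (by
        rw [show dd X (2 ^ g) * (6 * g) = 6 * dd X (2 ^ g) * g by ring]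
        exact Nat.mul_dvd_mul_right (h3 rfl) g)
      exact hcop.dvd_of_dvd_mul_left h5
    obtain ⟨e, rfl⟩ : ∃ e, δ = e + 1 := ⟨δ - 1, by omega⟩
    have h7 : 2 ^ e ∣ 3 * g := by
      rw [pow_succ, mul_comm, show 6 * g = 2 * (3 * g) by ring] at h6
      exact Nat.dvd_of_mul_dvd_mul_left (by norm_num) h6
    have h8 : 2 ^ e ∣ g := (Nat.Coprime.pow_left e (by norm_num)).dvd_of_dvd_mul_left h7
    have h9 := Nat.le_of_dvd (by omega) h8
    have h10 : e + 1 < 2 ^ e := by
      obtain ⟨u, rfl⟩ : ∃ u, e = u + 2 := ⟨e - 2, by omega⟩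
      clear h9 h8 h7 h6 h4 h hcop hδ
      induction u with
      | zero => norm_num
      | succ u ih => rw [show u + 1 + 2 = (u + 2) + 1 by ring, pow_succ]; omega
    omega
  by_cases hp3 : p = 3
  · subst hp3
    obtain ⟨e, rfl⟩ : ∃ e, δ = e + 1 := ⟨δ - 1, by omega⟩
    have h7 : 3 ^ e ∣ 8 * g := by
      rw [pow_succ, mul_comm, show 24 * g = 3 * (8 * g) by ring] at h4
      exact Nat.dvd_of_mul_dvd_mul_left (by norm_num) h4
    have h8 : 3 ^ e ∣ g := (Nat.Coprime.pow_left e (by norm_num)).dvd_of_dvd_mul_left h7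
    have h9 := Nat.le_of_dvd (by omega) h8
    have h10 : e + 1 < 3 ^ e := by
      obtain ⟨u, rfl⟩ : ∃ u, e = u + 2 := ⟨e - 2, by omega⟩
      clear h9 h8 h7 h4 h hcop hδ
      induction u with
      | zero => norm_num
      | succ u ih => rw [show u + 1 + 2 = (u + 2) + 1 by ring, pow_succ]; omega
    omega
  · have hcop2 : Nat.Coprime (p ^ δ) 24 := by
      apply Nat.Coprime.pow_left
      rw [Nat.Prime.coprime_iff_not_dvd hp]
      intro h5
      have h5' : p ∣ 2 ^ 3 * 3 := h5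
      rcases hp.dvd_mul.1 h5' with h6 | h6
      · exact hp2 ((Nat.prime_dvd_prime_iff_eq hp Nat.prime_two).1 (hp.dvd_of_dvd_pow h6))
      · exact hp3 ((Nat.prime_dvd_prime_iff_eq hp Nat.prime_three).1 h6)
    have h5 := Nat.le_of_dvd (by omega) (hcop2.dvd_of_dvd_mul_left h4)
    exact (Nat.lt_pow_self hp.one_lt).trans_le h5

theorem kap_even (hX : Real X p g MX) : 2 ∣ kap X := by
  cases X with
  | L n => exact ⟨_, rfl⟩
  | C n => exact ⟨_, rfl⟩
  | U n =>
    show 2 ∣ if Even n then n else n - 1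
    split_ifs with h
    · exact h.two_dvd
    · rw [Nat.not_even_iff_odd] at h
      obtain ⟨t, rfl⟩ := h
      exact ⟨t, by omega⟩
  | D n => exact ⟨_, rfl⟩
  | DD n => exact ⟨_, rfl⟩
  | _ => decide

/-- equal top exponents and a small index force equal `kap` -/
theorem kap_eq (hX : Real X p g MX) (hY : Real Y p f MY) (hD : g * DM X = f * DM Y) (h6 : 6 ≤ f * DM Y) {I δ : ℕ}
    (hI : OutDat X p g I) (h : p ^ δ ∣ I) (hδ : MX.factorization p + δ = MY.factorization p) :
    kap X = kap Y ∧ δ = 0 := by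
  rw [fac_self hX, fac_self hY] at hδ
  have h1 := four_NN hX
  have h2 := four_NN hY
  have h3 : f * DM Y * kap X + 4 * δ = f * DM Y * kap Y := by
    calc f * DM Y * kap X + 4 * δ = g * (DM X * kap X) + 4 * δ := by rw [← hD]; ring
      _ = 4 * (g * NN X + δ) := by rw [← h1]; ring
      _ = 4 * (f * NN Y) := by rw [hδ]
      _ = f * (4 * NN Y) := by ring
      _ = f * DM Y * kap Y := by rw [h2]; ring
  obtain ⟨x, hx⟩ := kap_even hX
  obtain ⟨y, hy⟩ := kap_even hY
  rw [hx, hy] at h3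
  have hge := (DM_ge hX).1
  have hxy : x = y := by
    rcases lt_trichotomy x y with hlt | heq | hgt
    · exfalso
      obtain ⟨z, rfl⟩ : ∃ z, y = x + z + 1 := ⟨y - x - 1, by omega⟩
      have h4 : 2 * δ = f * DM Y * (z + 1) := by nlinarith
      have h5 : f * DM Y ≤ 2 * δ := by rw [h4]; exact Nat.le_mul_of_pos_right _ (Nat.succ_pos z)
      have h7 := hI.pow hX h (by omega)
      have h8 : g * 2 ≤ g * DM X := Nat.mul_le_mul_left g hge
      omega
    · exact heq
    · exfalso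
      have h4 : f * DM Y * (2 * y) < f * DM Y * (2 * x) := Nat.mul_lt_mul_of_pos_left (by omega) (by omega)
      omega
  subst hxy
  exact ⟨by rw [hx, hy], by omega⟩

end near

section u

/-- the odd one of `m - 1`, `m` -/
def oo (m : ℕ) : ℕ := if Even m then m - 1 else m

/-- the even one of `m - 1`, `m` -/
def kk (m : ℕ) : ℕ := if Even m then m else m - 1

variable {m p f MY : ℕ}

theorem DM_U (m : ℕ) : DM (.U m) = 2 * oo m := by
  show (if Even m then 2 * (m - 1) else 2 * m) = 2 * oo m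
  unfold oo
  split_ifs <;> rfl

theorem kap_U (m : ℕ) : kap (.U m) = kk m := rfl

theorem BM_U (m : ℕ) (hm : 4 ≤ m) : BM (.U m) = if m = 4 then 4 else 2 * (oo m - 2) := by
  show (if Even m then (if m = 4 then 4 else 2 * (m - 3)) else 2 * (m - 2)) = _
  unfold oo
  split_ifs with h1 h2 h2
  · rfl
  · omega
  · exfalso; subst h2; exact h1 (by decide)
  · rfl

theorem dat (m : ℕ) (hm : 4 ≤ m) : Dat m (kk m) (oo m) (al (kk m)) := by
  have hkko : (m = kk m ∧ oo m + 1 = kk m) ∨ (m = kk m + 1 ∧ oo m = kk m + 1) := by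
    unfold kk oo
    split_ifs <;> omega
  have hev : Even (kk m) := by
    unfold kk
    split_ifs with h
    · exact h
    · rw [Nat.not_even_iff_odd] at h
      obtain ⟨t, rfl⟩ := h
      exact ⟨t, by omega⟩
  refine ⟨?_, hkko, ?_⟩
  · rcases hkko with ⟨h, -⟩ | ⟨h, -⟩
    · omega
    · obtain ⟨t, ht⟩ := hev
      omega
  · rcases al_cases (kk m) with ⟨h3, h4⟩ | ⟨h3, h4⟩ | ⟨w, hw, h3, h4⟩
    · exact absurd h3 (Nat.not_odd_iff_even.2 hev)
    · exact Or.inl ⟨h4, h3⟩
    · right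
      rw [h4]
      exact ⟨by omega, hw⟩

theorem six_le (hf : 1 ≤ f) (hm : 4 ≤ m) : 6 ≤ f * DM (.U m) := by
  have h1 : 6 ≤ DM (.U m) := by
    show 6 ≤ (if Even m then 2 * (m - 1) else 2 * m)
    split_ifs <;> omega
  exact h1.trans (Nat.le_mul_of_pos_left _ hf)

theorem ord_le (hY : Real (.U m) p f MY) {t : ℕ} (ht : t.Prime) (htp : t ≠ p) (h : t ∣ MY) :
    orderOf (-((p ^ f : ℕ) : ZMod t)) ≤ m := by
  have h1 := hY.dvd_num_of_dvd ht htp h
  have hm : 3 ≤ m := hY.ok.1
  have hq : 1 ≤ p ^ f := Nat.one_le_pow _ _ hY.hp.pos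
  change t ∣ ∏ i ∈ Finset.range (m - 1), (if Even i then (p ^ f) ^ (i + 2) - 1 else (p ^ f) ^ (i + 2) + 1) at h1
  rw [Prime.dvd_finsetProd_iff ht.prime] at h1
  obtain ⟨i, hi, h2⟩ := h1
  rw [Finset.mem_range] at hi
  have h3 : t ∣ (if Even (i + 1) then (p ^ f) ^ (i + 1 + 1) + 1 else (p ^ f) ^ (i + 1 + 1) - 1) := by
    by_cases he : Even i
    · rw [if_neg (by rw [Nat.not_even_iff_odd]; exact he.add_one)]
      rw [if_pos he] at h2
      exact h2
    · rw [if_pos (by rw [Nat.not_even_iff_odd] at he; exact he.add_one)]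
      rw [if_neg he] at h2
      exact h2
  rw [dvd_fac_iff hq] at h3
  have h4 := Nat.le_of_dvd (by omega) (orderOf_dvd_of_pow_eq_one h3)
  omega

/-- exclusion of `TE6`, `E8` -/
theorem no_exc (hY : Real (.U m) p f MY) {X : Sh} {MX v : ℕ} (hX : Real X p f MX) (hdvd : MX ∣ MY)
    (hB : DM X < 2 * BM X) (hv : BM X = v) (h4 : 4 ∣ v) (hmv : m < v) (hv7 : 7 ≤ v) : False := by
  have hf := hX.hf
  obtain ⟨t, b, ht, htp, htm, -, -, hto, htb⟩ := exists_prime (p := p) (f := f) (v := v) hX.hp hf (by omega) (by omega)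
  have hb : b = f * v := by
    rcases htb with h | ⟨-, -, h, -⟩
    · rw [h, al_four h4]
    · omega
  have ho : orderOf (p : ZMod t) = f * BM X := by
    rw [hv]
    apply Nat.dvd_antisymm
    · rw [← Cfsg.Agent.Lib.Zsigmondy.dvd_pow_sub_one_iff hX.hp.one_le, htm, hb]
    · rw [← hb, ← htm, Cfsg.Agent.Lib.Zsigmondy.dvd_pow_sub_one_iff hX.hp.one_le]
  have h3 : 3 ≤ f * BM X := by
    rw [hv]; exact (show 3 ≤ v by omega).trans (Nat.le_mul_of_pos_left _ hf)
  have h1 := ord_le hY ht htp ((hX.dvd_of_order_BM ht hB ho h3).trans hdvd)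
  rw [hto] at h1
  omega

/-- exclusion of `L_3(q^2)` in `U_4(q)` -/
theorem no_L3 {MX : ℕ} (hY : Real (.U 4) p f MY) (hX : Real (.L 3) p (2 * f) MX) (hdvd : MX ∣ MY)
    (h42 : ¬ (p = 2 ∧ f = 1)) : False := by
  obtain ⟨c, hc⟩ := hdvd
  have hq2 := hY.q_ge
  have hq3 : 3 ≤ p ^ f := by
    by_contra hcon
    have h2 : p ^ f = 2 := by omega
    have hp := hY.hp
    have hf := hY.hf
    have h3 : p ∣ 2 := by rw [← h2]; exact dvd_pow_self p (by omega)
    have h4 := (Nat.prime_dvd_prime_iff_eq hp Nat.prime_two).1 h3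
    subst h4
    have h5 : f = 1 := by
      have : 2 ^ f = 2 ^ 1 := by rw [h2]; norm_num
      exact Nat.pow_right_injective le_rfl this
    exact h42 ⟨rfl, h5⟩
  have e1 := hX.eq
  have e2 := hY.eq
  have hd3 : dd (.L 3) (p ^ (2 * f)) ≤ 3 := Nat.le_of_dvd (by norm_num) (Nat.gcd_dvd_left _ _)
  have hd4 : 1 ≤ dd (.U 4) (p ^ f) := Nat.pos_of_ne_zero hY.dd_ne
  have hMY := hY.M_ne
  have hc1 : 1 ≤ c := by
    rcases Nat.eq_zero_or_pos c with rfl | h
    · rw [mul_zero] at hc; exact absurd hc hMY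
    · exact h
  set q := p ^ f with hq
  have hqq : p ^ (2 * f) = q ^ 2 := by rw [hq, ← pow_mul, mul_comm]
  rw [hqq] at e1 hd3
  have n1 : num (.L 3) (q ^ 2) = ((q ^ 2) ^ 2 - 1) * ((q ^ 2) ^ 3 - 1) := by
    show ∏ i ∈ Finset.range (3 - 1), ((q ^ 2) ^ (i + 2) - 1) = _
    rw [Finset.prod_range_succ, Finset.prod_range_succ, Finset.prod_range_zero]; ring_nf
  have n2 : num (.U 4) q = (q ^ 2 - 1) * (q ^ 3 + 1) * (q ^ 4 - 1) := by
    show ∏ i ∈ Finset.range (4 - 1), (if Even i then q ^ (i + 2) - 1 else q ^ (i + 2) + 1) = _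
    rw [Finset.prod_range_succ, Finset.prod_range_succ, Finset.prod_range_succ, Finset.prod_range_zero]
    norm_num
  have n3 : NN (.L 3) = 3 := rfl
  have n4 : NN (.U 4) = 6 := rfl
  rw [n1, n3] at e1
  rw [n2, n4] at e2
  obtain ⟨A, hA⟩ : ∃ A, q ^ 3 = A + 1 := ⟨q ^ 3 - 1, by have := Nat.one_le_pow 3 q (by omega); omega⟩
  obtain ⟨B, hB⟩ : ∃ B, q ^ 2 = B + 1 := ⟨q ^ 2 - 1, by have := Nat.one_le_pow 2 q (by omega); omega⟩
  obtain ⟨C, hC⟩ : ∃ C, q ^ 4 = C + 1 := ⟨q ^ 4 - 1, by have := Nat.one_le_pow 4 q (by omega); omega⟩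
  have h6 : (q ^ 2) ^ 3 - 1 = A * (A + 2) := by
    have : (q ^ 2) ^ 3 = A * (A + 2) + 1 := by
      calc (q ^ 2) ^ 3 = (q ^ 3) ^ 2 := by ring
        _ = A * (A + 2) + 1 := by rw [hA]; ring
    omega
  have h7 : (q ^ 2) ^ 2 - 1 = C := by
    have : (q ^ 2) ^ 2 = C + 1 := by rw [← pow_mul]; exact hC
    omega
  rw [h6, h7] at e1
  rw [hA, hB, hC] at e2
  simp only [Nat.add_sub_cancel] at e2
  have hq6 : (q ^ 2) ^ 3 = q ^ 6 := by rw [← pow_mul]
  rw [hq6] at e1
  -- `e1 : d3 * MX = q^6 * (C * (A * (A+2)))`, `e2 : d4 * MY = q^6 * (B * (A + 2) * C)`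
  set d3 := dd (.L 3) (q ^ 2) with hd3'
  set d4 := dd (.U 4) q with hd4'
  have h8 : d4 * c * (q ^ 6 * (C * (A * (A + 2)))) = d3 * (q ^ 6 * (B * (A + 1 + 1) * C)) := by
    rw [← e1, ← e2, hc]; ring
  have hC0 : 0 < C := by
    have : 1 < q ^ 4 := Nat.one_lt_pow (by norm_num) (by omega)
    omega
  have h9 : q ^ 6 * C * (A + 2) * (d4 * c * A) = q ^ 6 * C * (A + 2) * (d3 * B) := by
    calc _ = d4 * c * (q ^ 6 * (C * (A * (A + 2)))) := by ring
      _ = d3 * (q ^ 6 * (B * (A + 1 + 1) * C)) := h8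
      _ = _ := by ring
  have h10 : d4 * c * A = d3 * B := Nat.eq_of_mul_eq_mul_left (by positivity) h9
  have h11 : A ≤ d4 * c * A := Nat.le_mul_of_pos_left _ (Nat.mul_pos hd4 hc1)
  have h12 : d3 * B ≤ 3 * B := Nat.mul_le_mul_right _ hd3
  have h13 : 3 * q ^ 2 ≤ q ^ 3 := by rw [pow_succ q 2, mul_comm]; exact Nat.mul_le_mul_left _ hq3
  omega

/-- **The groups of Lie type near `U_m(q)`.** -/
theorem main (hY : Real (.U m) p f MY) (hm : 4 ≤ m) (h42 : ¬ (m = 4 ∧ p = 2 ∧ f = 1)) {X : Sh} {g MX δ I : ℕ}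
    (hX : Real X p g MX) (hdvd : MX ∣ MY) (hδ : MX.factorization p + δ = MY.factorization p) (hI : OutDat X p g I)
    (hpI : p ^ δ ∣ I) {r s b : ℕ} (hr : r.Prime) (hrp : r ≠ p) (hro : orderOf (p : ZMod r) = f * (2 * oo m))
    (hr1 : f * (2 * oo m) ∣ r - 1) (hrX : r ∣ MX ∨ r ∣ I) (hs : s.Prime) (hsp : s ≠ p)
    (hso : orderOf (p : ZMod s) = b) (hs1 : b ∣ s - 1) (hsX : s ∣ MX ∨ s ∣ I)
    (hb : b = f * al (kk m) ∨ (p = 2 ∧ f = 2 ∧ kk m = 6)) : X = .U m ∧ g = f := by
  have hf := hY.hf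
  have hg := hX.hf
  have h6 := six_le (m := m) hf hm
  have hDle := le_DM hX hY hdvd h6
  have hge := DM_ge hX
  rw [DM_U] at hDle h6
  have hr7 : f * (2 * oo m) ≤ r - 1 := Nat.le_of_dvd (by have := hr.two_le; omega) hr1
  have hgD : g ≤ g * DM X := Nat.le_mul_of_pos_right _ (by omega)
  have hrMX : r ∣ MX := by
    by_contra hcon
    have hrI := hrX.resolve_left hcon
    rcases hI.prime hX hr (by omega) hrI with h1 | ⟨h1, -⟩ | ⟨h1, h2⟩
    · have := Nat.le_of_dvd (by omega) h1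
      omega
    · rw [hro] at h1
      have h3 := Nat.le_of_dvd (by omega) h1
      have h4 : g * 2 ≤ g * DM X := Nat.mul_le_mul_left _ hge.1
      omega
    · rw [hro] at h1
      have h3 := Nat.le_of_dvd (by omega) h1
      have h4 : g * 3 ≤ g * DM X := Nat.mul_le_mul_left _ (hge.2 h2)
      omega
  have hXl := BM_lt hX
  have hD : g * DM X = f * (2 * oo m) := by
    apply le_antisymm hDle
    rcases hX.order_cases hr hrp hrMX with h2 | ⟨e, he1, he2, h2⟩
    · rw [hro] at h2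
      exact Nat.le_of_dvd (by omega) h2
    · rw [hro] at h2
      have h4 := Nat.le_of_dvd (Nat.mul_pos hg he1) h2
      exact h4.trans (Nat.mul_le_mul_left g (by omega))
  obtain ⟨hk, -⟩ := kap_eq hX hY (by rw [DM_U]; exact hD) (by rw [DM_U]; exact h6) hI hpI hδ
  rw [kap_U] at hk
  have hB : DM X < 2 * BM X →
      g * BM X ≤ f * (if m = 4 then 4 else 2 * (oo m - 2)) ∨ (p = 2 ∧ g * BM X = 6) ∨ g * BM X ≤ 2 := by
    intro h
    have := le_BM hX hY hdvd (by rw [DM_U]; exact hD) h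
    rwa [BM_U m hm] at this
  have hdat := dat m hm
  have hcan : ∀ {Z : Sh}, X = Z → Z = .U m → X = .U m ∧ g = f := by
    intro Z h1 h2
    have h3 : X = .U m := h1.trans h2
    refine ⟨h3, ?_⟩
    rw [h3, DM_U] at hD
    exact Nat.eq_of_mul_eq_mul_right (by have := hdat.k4; rcases hdat.ko with ⟨-, h⟩ | ⟨-, h⟩ <;> omega) hD
  rcases hb with hb | ⟨rfl, rfl, hk6⟩
  · have hs' : (∀ n, X ≠ .L n) → X ≠ .U m → ∃ i, (i = DM X ∨ (1 ≤ i ∧ i ≤ BM X)) ∧ al (kk m) * DM X ∣ 2 * oo m * i := by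
      intro hL hU
      obtain ⟨hz1, hz2⟩ := size hdat hX hk hL
      have hb3 := hdat.be3
      have hz3 : 2 * oo m ≤ al (kk m) * DM X := hz1.trans (Nat.mul_le_mul_right _ hb3)
      have hbs : b ≤ s - 1 := Nat.le_of_dvd (by have := hs.two_le; omega) hs1
      have hfb : 3 ≤ b := by rw [hb]; exact hb3.trans (Nat.le_mul_of_pos_left _ hf)
      have hs5 : 5 ≤ s := by
        have h4 : s ≠ 4 := by rintro rfl; norm_num at hs
        omega
      have hsMX : s ∣ MX := by
        by_contra hcon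
        have hsI := hsX.resolve_left hcon
        rcases hI.prime hX hs hs5 hsI with h1 | ⟨-, n, h1⟩ | ⟨h1, h2⟩
        · have h3 := Nat.le_of_dvd (by omega) h1
          have h4 : b < g := by omega
          have h5 : b * DM X < g * DM X := Nat.mul_lt_mul_of_pos_right h4 (by omega)
          rw [hD, hb, mul_assoc] at h5
          have h7 := Nat.lt_of_mul_lt_mul_left h5
          omega
        · exact hL n h1
        · rw [hso] at h1
          have h3 := Nat.le_of_dvd (by omega) h1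
          have h4 : b * DM X ≤ 2 * g * DM X := Nat.mul_le_mul_right _ h3
          rw [hb, mul_assoc, mul_assoc 2 g, hD] at h4
          have h5 : f * (al (kk m) * DM X) ≤ f * (4 * oo m) := by
            calc _ ≤ 2 * (f * (2 * oo m)) := h4
              _ = _ := by ring
          have h7 := Nat.le_of_mul_le_mul_left h5 hf
          have := hz2 h2 hU
          omega
      have key : ∀ i, b ∣ g * i → al (kk m) * DM X ∣ 2 * oo m * i := by
        intro i hi
        have h1 : b * DM X ∣ g * i * DM X := Nat.mul_dvd_mul_right hi _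
        have h2 : f * (al (kk m) * DM X) ∣ f * (2 * oo m * i) := by
          have e1 : g * i * DM X = f * (2 * oo m * i) := by
            calc g * i * DM X = g * DM X * i := by ring
              _ = f * (2 * oo m) * i := by rw [hD]
              _ = _ := by ring
          rwa [hb, mul_assoc, e1] at h1
        exact Nat.dvd_of_mul_dvd_mul_left hf h2
      rcases hX.order_cases hs hsp hsMX with h2 | ⟨e, he1, he2, h2⟩
      · rw [hso] at h2
        exact ⟨_, Or.inl rfl, key _ h2⟩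
      · rw [hso] at h2
        exact ⟨e, Or.inr ⟨he1, he2⟩, key _ h2⟩
    rcases shape_cases hdat hX hf hk hD hB hs' with h1 | ⟨rfl, rfl⟩ | ⟨rfl, rfl⟩ | ⟨rfl, rfl⟩
    · exact hcan rfl h1
    · exfalso
      have h2 : g * 3 = f * (2 * 3) := hD
      have h3 : g = 2 * f := by omega
      subst h3
      exact no_L3 hY hX hdvd (fun h => h42 ⟨rfl, h⟩)
    · exfalso
      have h2 : g * 18 = f * (2 * 9) := hD
      have h3 : g = f := by omega
      subst h3
      exact no_exc hY hX hdvd (by decide) (v := 12) rfl (by norm_num) (by norm_num) (by norm_num)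
    · exfalso
      have h2 : g * 30 = f * (2 * 15) := hD
      have h3 : g = f := by omega
      subst h3
      exact no_exc hY hX hdvd (by decide) (v := 24) rfl (by norm_num) (by norm_num) (by norm_num)
  · have hok := hX.ok
    have hmo : (m = 6 ∧ oo m = 5) ∨ (m = 7 ∧ oo m = 7) := by
      rcases hdat.ko with ⟨h1, h2⟩ | ⟨h1, h2⟩ <;> omega
    cases X with
    | L n =>
      exfalso
      have hk' : 2 * (n - 1) = kk m := hk
      have h1 := shapeL hdat (p := 2) hf hg hk' hD (hB (by show n < 2 * (n - 1); omega))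
      omega
    | C n =>
      exfalso
      have hk' : 2 * n = kk m := hk
      have hD' : g * (2 * n) = 2 * (2 * oo m) := hD
      obtain rfl : n = 3 := by omega
      omega
    | U n =>
      have hk' : (if Even n then n else n - 1) = kk m := hk
      have hDn : DM (.U n) = if Even n then 2 * (n - 1) else 2 * n := rfl
      rw [hDn] at hD
      split_ifs at hk' hD with he
      · obtain rfl : n = 6 := by omega
        rcases hmo with ⟨h1, h2⟩ | ⟨h1, h2⟩
        · exact hcan rfl (by rw [h1])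
        · exfalso; omega
      · have hn3 : 3 ≤ n := hok.1
        obtain rfl : n = 7 := by omega
        rcases hmo with ⟨h1, h2⟩ | ⟨h1, h2⟩
        · exfalso; omega
        · exact hcan rfl (by rw [h1])
    | D n =>
      exfalso
      have hk' : 2 * n = kk m := hk
      have hn : 4 ≤ n := hok
      omega
    | DD n =>
      exfalso
      have hk' : 2 * (n - 1) = kk m := hk
      have hn : 4 ≤ n := hok
      have hD' : g * (2 * n) = 2 * (2 * oo m) := hD
      obtain rfl : n = 4 := by omega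
      omega
    | G2 => exfalso; have h1 : 4 = kk m := hk; omega
    | F4 => exfalso; have h1 : 8 = kk m := hk; omega
    | E6 => exfalso; have h1 : 12 = kk m := hk; omega
    | E7 => exfalso; have h1 : 14 = kk m := hk; omega
    | E8 => exfalso; have h1 : 16 = kk m := hk; omega
    | TE6 => exfalso; have h1 : 8 = kk m := hk; omega
    | TD4 => exfalso; have h1 : 4 = kk m := hk; omega
    | Sz => exfalso; have h1 : 2 = kk m := hk; omega
    | Ree => exfalso; have h1 : 2 = kk m := hk; omega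
    | TF4 => exfalso; have h1 : 4 = kk m := hk; omega

end u

end Cfsg.Agent.H364.ArithU
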