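import Mathlib
import Cfsg.Agent.H364.DSixB

/-!
# `D_6`: no simple groups of Lie type in cross characteristic (helper364)
-/

set_option autoImplicit false

namespace Cfsg.Agent.H364.DSixC

open Finset Cfsg.Agent.H902.Lte Cfsg.Agent.H902.Art Cfsg.Agent.H364.DIneq Cfsg.Agent.H364.DCross
  Cfsg.Agent.H364.DEnum Cfsg.Agent.H364.DEight Cfsg.Agent.H364.DSix Cfsg.Agent.H364.DSixB
open Cfsg.Agent.H364.SpVal (AA AA_ne PC_odd' cast_sq)
open Cfsg.Agent.H364.SpFin (two_primes)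

variable {p f q M : ℕ} {X : Sh} {v g MS I : ℕ}

/-- the crude check for the top primes -/
def cr (q : ℕ) : Bool := good 6 q (te 6 q) && (List.range 10).any fun NB =>
  decide (q ^ 4 + q ^ 3 + q ^ 2 + q + 1 < 11 ^ (NB + 1)) &&
    decide ((q ^ 4 + q ^ 3 + q ^ 2 + q + 1) ^ 8 * NB ^ 3 < (te 6 q) ^ 3)

theorem cr_list : ∀ q ∈ List.range 49, q < 5 ∨ q = 6 ∨ q = 9 ∨ q = 11 ∨ cr q = true := by
  decide +kernel

/-- the exact check -/
def ex (k q v a : ℕ) : Bool :=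
  ((cardD 6 q % v ^ (a + 1) != 0) && decide (v ^ (k * a) * a ^ 3 < (te 6 q) ^ 3)) || en 6 q (te 6 q) v a

def sm (q : ℕ) (L : List (ℕ × ℕ)) : Bool := good 6 q (te 6 q) &&
  (((2 * (L.map Prod.fst).prod) ^ 40) % ((q ^ 4 - 1) * (q ^ 6 - 1)) == 0) && L.all fun x => ex 5 q x.1 x.2

def tp (q : ℕ) (L : List (ℕ × ℕ)) : Bool := good 6 q (te 6 q) && ((te 6 q * (AA 3 q) ^ 20) % AA 5 q == 0) &&
  (((L.map Prod.fst).prod ^ 5) % te 6 q == 0) && L.all fun x => ex 8 q x.1 x.2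

theorem exact_bound {a : ℕ} (hc : CrD 6 p f M X v g MS I) (hq : p ^ f = q)
    (h : (cardD 6 q % v ^ (a + 1) != 0) = true) : P v M ≤ v ^ a := by
  have hM := M_eq hc.hY hq
  rw [bne_iff_ne] at h
  apply Nat.pow_le_pow_right hc.hX.hp.pos
  by_contra hcon
  apply h
  apply Nat.mod_eq_zero_of_dvd
  rw [← hM]
  exact (hc.hX.hp.pow_dvd_iff_le_factorization hc.hY.M_ne).2 (by omega)

theorem ex5_false {a : ℕ} (hc : CrD 6 p f M X v g MS I) (hq : p ^ f = q) (hd : te 6 q ∣ I * MS) (hvt : ¬ v ∣ te 6 q)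
    (h : ex 5 q v a = true) : False := by
  rw [ex, Bool.or_eq_true, Bool.and_eq_true, decide_eq_true_eq] at h
  rcases h with ⟨h1, h2⟩ | h
  · have hv := hc.hX.hp
    refine finA (C := 1) (D := te 6 q) (P1 := v ^ a) (NB := a) (w := v) hc hd (by omega) (exact_bound hc hq h1) hvt
      le_rfl (Nat.pow_lt_pow_right hv.one_lt (by omega)) hv.pos ?_
    rw [one_pow, one_mul, ← pow_mul, mul_comm a 5]
    exact h2
  · exact en_false hc hq hd h

theorem ex8_false {a : ℕ} (hc : CrD 6 p f M X v g MS I) (hq : p ^ f = q) (hd : te 6 q ∣ I * MS)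
    (h : ex 8 q v a = true) : False := by
  rw [ex, Bool.or_eq_true, Bool.and_eq_true, decide_eq_true_eq] at h
  rcases h with ⟨h1, h2⟩ | h
  · have hv := hc.hX.hp
    refine finB (C := 1) (D := te 6 q) (P1 := v ^ a) (NB := a) (w := v) hc hd (by omega) (exact_bound hc hq h1)
      le_rfl (Nat.pow_lt_pow_right hv.one_lt (by omega)) hv.pos ?_
    rw [one_pow, one_mul, ← pow_mul, mul_comm a 8]
    exact h2
  · exact en_false hc hq hd h

theorem mem_of_dvd_prod {L : List (ℕ × ℕ)} (hL : ∀ x ∈ L, Nat.Prime x.1) (hv : v.Prime) (h : v ∣ (L.map Prod.fst).prod) :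
    ∃ x ∈ L, x.1 = v := by
  obtain ⟨y, hy, hd⟩ := (Prime.dvd_prod_iff hv.prime).1 h
  obtain ⟨x, hx, rfl⟩ := List.mem_map.1 hy
  exact ⟨x, hx, ((Nat.prime_dvd_prime_iff_eq hv (hL x hx)).1 hd).symm⟩

/-- small orders, small `q` -/
theorem sm_false {L : List (ℕ × ℕ)} (hc : CrD 6 p f M X v g MS I) (hq : p ^ f = q) (hv2 : v ≠ 2)
    (he : orderOf ((q ^ 2 : ℕ) : ZMod v) ≤ 3) (hL : ∀ x ∈ L, Nat.Prime x.1) (h : sm q L = true) : False := by
  simp only [sm, Bool.and_eq_true, beq_iff_eq] at h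
  obtain ⟨⟨hg, h1⟩, h2⟩ := h
  have hv := hc.hX.hp
  have hq2 := hc.hY.q_ge
  have hvq := hc.hY.not_dvd_q hv hc.hvp
  have hfr := hc.hd
  rw [hq] at hq2 hvq hfr
  have hd := FrD.good hfr (by norm_num) hq2 hg
  have hvt : ¬ v ∣ te 6 q := fun hvt => by
    have := SpSmall.order_of_good hq2 hv (good_C (by norm_num) hg) hvt
    omega
  have hpos := (PC_odd' hv hv2 hq2 hvq 6).1
  have h3 : v ∣ (q ^ 4 - 1) * (q ^ 6 - 1) := by
    rcases (show orderOf ((q ^ 2 : ℕ) : ZMod v) = 1 ∨ orderOf ((q ^ 2 : ℕ) : ZMod v) = 2 ∨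
      orderOf ((q ^ 2 : ℕ) : ZMod v) = 3 by omega) with h | h | h
    · exact ((SpSix.dvd_pow_iff hq2 2).2 (by rw [h]; norm_num)).mul_right _
    · exact ((SpSix.dvd_pow_iff hq2 2).2 (by rw [h])).mul_right _
    · exact ((SpSix.dvd_pow_iff hq2 3).2 (by rw [h])).mul_left _
  have h4 : v ∣ 2 * (L.map Prod.fst).prod := hv.dvd_of_dvd_pow (h3.trans (Nat.dvd_of_mod_eq_zero h1))
  rcases hv.dvd_mul.1 h4 with h5 | h5
  · exact odd_two hv hv2 h5
  · obtain ⟨x, hx, hxv⟩ := mem_of_dvd_prod hL hv h5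
    rw [List.all_eq_true] at h2
    have h6 := h2 x hx
    rw [hxv] at h6
    exact ex5_false hc hq hd hvt h6

/-- large orders, small `q` -/
theorem tp_false {L : List (ℕ × ℕ)} (hc : CrD 6 p f M X v g MS I) (hq : p ^ f = q)
    (he : 3 < orderOf ((q ^ 2 : ℕ) : ZMod v)) (hL : ∀ x ∈ L, Nat.Prime x.1) (h : tp q L = true) : False := by
  simp only [tp, Bool.and_eq_true, beq_iff_eq] at h
  obtain ⟨⟨⟨hg, h0⟩, h1⟩, h2⟩ := h
  have hv := hc.hX.hp
  have hq2 := hc.hY.q_ge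
  have hvq := hc.hY.not_dvd_q hv hc.hvp
  have hfr := hc.hd
  have hle := order_le hc.hY hq hv hc.hvp (dvd_M hc)
  rw [hq] at hq2 hvq hfr
  have hd := FrD.good hfr (by norm_num) hq2 hg
  have h3 : v ∣ AA 5 q := by
    rw [AA]
    refine ((SpSix.dvd_pow_iff hq2 _).2 ?_).trans (Finset.dvd_prod_of_mem _
      (Finset.mem_range.2 (show orderOf ((q ^ 2 : ℕ) : ZMod v) - 1 < 5 by omega)))
    rw [Nat.sub_add_cancel (by omega)]
  have h4 : ¬ v ∣ AA 3 q := by
    intro h4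
    rw [AA] at h4
    obtain ⟨i, hi, h5⟩ := (hv.prime.dvd_finsetProd_iff _).1 h4
    rw [Finset.mem_range] at hi
    rw [SpSix.dvd_pow_iff hq2] at h5
    have := Nat.le_of_dvd (by omega) h5
    omega
  have h5 : v ∣ te 6 q := by
    rcases hv.dvd_mul.1 (h3.trans (Nat.dvd_of_mod_eq_zero h0)) with h6 | h6
    · exact h6
    · exact absurd (hv.dvd_of_dvd_pow h6) h4
  obtain ⟨x, hx, hxv⟩ := mem_of_dvd_prod hL hv (hv.dvd_of_dvd_pow (h5.trans (Nat.dvd_of_mod_eq_zero h1)))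
  rw [List.all_eq_true] at h2
  have h6 := h2 x hx
  rw [hxv] at h6
  exact ex8_false hc hq hd h6

/-- the lists for small orders -/
def Ls : ℕ → List (ℕ × ℕ)
  | 2 => [(3, 8), (5, 2), (7, 2)]
  | 3 => [(5, 2), (7, 2), (13, 2)]
  | 4 => [(3, 8), (5, 7), (7, 2), (13, 2), (17, 2)]
  | 5 => [(3, 8), (7, 2), (13, 2), (31, 2)]
  | 7 => [(3, 8), (5, 4), (19, 2), (43, 2)]
  | 8 => [(3, 14), (5, 2), (7, 6), (13, 2), (19, 2), (73, 2)]
  | 9 => [(5, 7), (7, 2), (13, 2), (41, 2), (73, 2)]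
  | 16 => [(3, 8), (5, 7), (7, 2), (13, 2), (17, 6), (241, 2), (257, 2)]
  | 32 => [(3, 8), (5, 4), (7, 2), (11, 6), (31, 6), (41, 2), (151, 2), (331, 2)]
  | 64 => [(3, 14), (5, 7), (7, 6), (13, 6), (17, 2), (19, 2), (37, 2), (73, 2), (109, 2), (241, 2)]
  | 128 => [(3, 8), (5, 2), (7, 4), (29, 2), (43, 6), (113, 2), (127, 6), (337, 2), (5419, 2)]
  | 256 => [(3, 8), (5, 7), (7, 2), (13, 2), (17, 6), (97, 2), (241, 2), (257, 6), (673, 2), (65537, 2)]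
  | _ => []

def Lt : ℕ → List (ℕ × ℕ)
  | 2 => [(11, 1), (17, 1), (31, 1)]
  | 3 => [(11, 2), (41, 1), (61, 1)]
  | 4 => [(11, 1), (31, 1), (41, 1), (257, 1)]
  | 9 => [(11, 2), (17, 1), (61, 1), (193, 1), (1181, 1)]
  | 11 => [(3221, 1), (7321, 1), (13421, 1)]
  | _ => []

theorem Ls_prime : ∀ q ∈ [2, 3, 4, 5, 7, 8, 9, 16, 32, 64, 128, 256], ∀ x ∈ Ls q, Nat.Prime x.1 := by
  simp only [List.mem_cons, List.not_mem_nil, or_false]
  rintro q (rfl | rfl | rfl | rfl | rfl | rfl | rfl | rfl | rfl | rfl | rfl | rfl) x hx <;>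
    (simp only [Ls] at hx; fin_cases hx <;> norm_num)

theorem Lt_prime : ∀ q ∈ [2, 3, 4, 9, 11], ∀ x ∈ Lt q, Nat.Prime x.1 := by
  simp only [List.mem_cons, List.not_mem_nil, or_false]
  rintro q (rfl | rfl | rfl | rfl | rfl) x hx <;>
    (simp only [Lt] at hx; fin_cases hx <;> norm_num)

theorem sm_list : ∀ q ∈ [2, 3, 4, 5, 7, 8, 9, 16, 32, 64, 128, 256], sm q (Ls q) = true := by
  decide +kernel

theorem tp_list : ∀ q ∈ [2, 3, 4, 9, 11], tp q (Lt q) = true := by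
  decide +kernel

/-- the fast form of the enumeration: `f = N / NN X` -/
def enF (n q D v a : ℕ) : Bool :=
  (cardD n q % v ^ (a + 1) != 0) && (List.range (a + 1)).all fun N => (shapes N).all fun X =>
    (N % NN X != 0) || !decide (Ok X v (N / NN X)) || (decide (X = .L 2) || (cardD n q % val v (X, N / NN X) != 0) ||
      ((24 * dd X (v ^ (N / NN X)) * (N / NN X) * val v (X, N / NN X)) % D != 0))

theorem NN_pos_of_Ok {X : Sh} {p f : ℕ} (h : Ok X p f) : 0 < NN X := by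
  cases X with
  | L n =>
    have hn : 2 ≤ n := h.1
    have h1 := half_ge hn
    show 0 < n * (n - 1) / 2
    omega
  | C n =>
    have hn : 2 ≤ n := h.1
    exact Nat.pow_pos (by omega)
  | U n =>
    have hn : 3 ≤ n := h.1
    have h1 := half_ge (show 2 ≤ n by omega)
    show 0 < n * (n - 1) / 2
    omega
  | D n =>
    have hn : 4 ≤ n := h
    exact Nat.mul_pos (by omega) (by omega)
  | DD n =>
    have hn : 4 ≤ n := h
    exact Nat.mul_pos (by omega) (by omega)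
  | _ => exact Nat.succ_pos _

theorem en_of_enF {n q D v a : ℕ} (h : enF n q D v a = true) : en n q D v a = true := by
  rw [enF, Bool.and_eq_true, List.all_eq_true] at h
  rw [en, Bool.and_eq_true, List.all_eq_true]
  refine ⟨h.1, fun N hN => ?_⟩
  have h1 := h.2 N hN
  rw [List.all_eq_true] at h1 ⊢
  rintro ⟨X, f⟩ hx
  unfold ents at hx
  rw [List.mem_flatMap] at hx
  obtain ⟨Y, hY, hx⟩ := hx
  rw [List.mem_map] at hx
  obtain ⟨f', hf', e⟩ := hx
  rw [List.mem_filter, Bool.and_eq_true, decide_eq_true_iff, decide_eq_true_iff] at hf'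
  obtain ⟨rfl, rfl⟩ := Prod.mk.inj e
  obtain ⟨-, hN', hok⟩ := hf'
  have hpos := NN_pos_of_Ok hok
  have h2 := h1 Y hY
  have h3 : N / NN Y = f' := by
    rw [← hN']
    exact Nat.mul_div_cancel _ hpos
  have h4 : N % NN Y = 0 := by
    rw [← hN']
    exact Nat.mul_mod_left _ _
  rw [h3, h4] at h2
  simpa [hok] using h2

theorem en_two' : ∀ a ∈ [(3, 19), (5, 19), (7, 25), (9, 25), (17, 31), (31, 37), (127, 49), (257, 55)],
    good 6 a.1 (te 6 a.1) = true ∧ enF 6 a.1 (te 6 a.1) 2 a.2 = true := by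
  decide +kernel

theorem en_two : ∀ a ∈ [(3, 19), (5, 19), (7, 25), (9, 25), (17, 31), (31, 37), (127, 49), (257, 55)],
    good 6 a.1 (te 6 a.1) = true ∧ en 6 a.1 (te 6 a.1) 2 a.2 = true :=
  fun a ha => ⟨(en_two' a ha).1, en_of_enF (en_two' a ha).2⟩

end Cfsg.Agent.H364.DSixC
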