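import Mathlib
import Cfsg.Agent.H364.DSixC
import Cfsg.Agent.H364.SpLarge

/-!
# `D_n`, `n ≥ 6` even: no simple groups of Lie type in cross characteristic (helper364)
-/

set_option autoImplicit false

namespace Cfsg.Agent.H364.DAll

open Finset Cfsg.Agent.H902.Lte Cfsg.Agent.H902.Art Cfsg.Agent.H364.DIneq Cfsg.Agent.H364.DCross
  Cfsg.Agent.H364.DEnum Cfsg.Agent.H364.DEight Cfsg.Agent.H364.DSix Cfsg.Agent.H364.DSixB Cfsg.Agent.H364.DSixC
open Cfsg.Agent.H364.SpVal (AA AA_ne PC_odd' cast_sq)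
open Cfsg.Agent.H364.SpFin (two_primes)

variable {n p f q M : ℕ} {X : Sh} {v g MS I : ℕ}

theorem w_le {w : ℕ} (hv : v.Prime) (hv2 : v ≠ 2) (hw : w = 3) : w ≤ v := by
  have := hv.two_le
  omega

/-- the top primes -/
theorem top (hc : CrD 6 p f M X v g MS I) (hv2 : v ≠ 2) (he : 3 < orderOf (((p ^ f) ^ 2 : ℕ) : ZMod v)) : False := by
  have hP := P_top_le hc hv2 he
  have h11 := eleven_le hc hv2 he
  have hq2 := hc.hY.q_ge
  obtain ⟨q, hq⟩ : ∃ q, p ^ f = q := ⟨_, rfl⟩
  have hp := hc.hY.hp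
  rw [hq] at hP hq2 he
  have hfr := hc.hd
  rw [hq] at hfr
  rcases Nat.lt_or_ge q 49 with h | h
  · have key : ∀ r : ℕ, r ∈ [2, 3, 4, 9, 11] → q = r → False := by
      rintro r hr rfl
      exact tp_false hc hq he (Lt_prime _ hr) (tp_list _ hr)
    have hc6 : q ≠ 6 := by
      rintro rfl
      exact two_primes hp Nat.prime_two Nat.prime_three (by norm_num) (by rw [hq]; norm_num) (by rw [hq]; norm_num)
    rcases cr_list q (List.mem_range.2 h) with h1 | h1 | h1 | h1 | h1
    · have h2 : q = 2 ∨ q = 3 ∨ q = 4 := by omega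
      rcases h2 with h2 | h2 | h2
      · exact key 2 (by simp) h2
      · exact key 3 (by simp) h2
      · exact key 4 (by simp) h2
    · exact hc6 h1
    · exact key 9 (by simp) h1
    · exact key 11 (by simp) h1
    · rw [cr, Bool.and_eq_true, List.any_eq_true] at h1
      obtain ⟨hg, NB, -, h2⟩ := h1
      rw [Bool.and_eq_true, decide_eq_true_eq, decide_eq_true_eq] at h2
      have hd := FrD.good hfr (by norm_num) hq2 hg
      exact finB (C := 1) (D := te 6 q) (w := 11) hc hd (by omega) hP h11 h2.1 (by norm_num)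
        (by rw [one_pow, one_mul]; exact h2.2)
  · have hd := hfr.gen hq2 (by norm_num)
    exact finB (C := 20) (D := (q ^ 2 - 1) ^ 6) (w := 11) hc hd (tD_six hq2) hP h11 (ineq_top_N h) (by norm_num)
      (ineq_top h)

theorem tD_order {q : ℕ} (hq : 2 ≤ q) (hv : v.Prime) (h : v ∣ tD 6 (q ^ 2)) : 3 < orderOf ((q ^ 2 : ℕ) : ZMod v) :=
  (order_of_dvd_tD (by norm_num) (by nlinarith) hv h).1

/-- small orders -/
theorem small (hc : CrD 6 p f M X v g MS I) (hv2 : v ≠ 2) (he : orderOf (((p ^ f) ^ 2 : ℕ) : ZMod v) ≤ 3) : False := by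
  have hv := hc.hX.hp
  have hq2 := hc.hY.q_ge
  have hp := hc.hY.hp
  obtain ⟨q, hq⟩ : ∃ q, p ^ f = q := ⟨_, rfl⟩
  have hfr := hc.hd
  have he' := he
  have hP16 := P_odd_le' hc hv2 he
  rw [hq] at hfr hq2 he' hP16
  have hd := hfr.gen hq2 (by norm_num)
  have hvt : ¬ v ∣ tD 6 (q ^ 2) := fun h => by
    have := tD_order hq2 hv h
    omega
  have key : ∀ r : ℕ, r ∈ [2, 3, 4, 5, 7, 8, 9, 16, 32, 64, 128, 256] → q = r → False := by
    rintro r hr rfl
    exact sm_false hc hq hv2 he' (Ls_prime _ hr) (sm_list _ hr)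
  rcases Nat.even_or_odd q with hev | hodd
  · -- `q` is a power of two
    have hp2 : p = 2 := by
      have h1 : 2 ∣ p ^ f := by rw [hq]; exact hev.two_dvd
      exact eq_of_pow hp Nat.prime_two h1
    subst hp2
    have hf := hc.hY.hf
    rcases Nat.lt_or_ge f 9 with h | h
    · have : f = 1 ∨ f = 2 ∨ f = 3 ∨ f = 4 ∨ f = 5 ∨ f = 6 ∨ f = 7 ∨ f = 8 := by omega
      rcases this with rfl | rfl | rfl | rfl | rfl | rfl | rfl | rfl
      · exact key 2 (by simp) (by rw [← hq]; norm_num)
      · exact key 4 (by simp) (by rw [← hq]; norm_num)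
      · exact key 8 (by simp) (by rw [← hq]; norm_num)
      · exact key 16 (by simp) (by rw [← hq]; norm_num)
      · exact key 32 (by simp) (by rw [← hq]; norm_num)
      · exact key 64 (by simp) (by rw [← hq]; norm_num)
      · exact key 128 (by simp) (by rw [← hq]; norm_num)
      · exact key 256 (by simp) (by rw [← hq]; norm_num)
    · obtain ⟨z, hz⟩ : ∃ z, q = 8 * z ∧ 64 ≤ z := by
        refine ⟨2 ^ (f - 3), ?_, ?_⟩
        · rw [← hq, show (8 : ℕ) = 2 ^ 3 by norm_num, ← pow_add]; congr 1; omega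
        · calc 64 = 2 ^ 6 := by norm_num
            _ ≤ 2 ^ (f - 3) := Nat.pow_le_pow_right (by norm_num) (by omega)
      obtain ⟨rfl, hz⟩ := hz
      exact finA (C := 20) (D := ((8 * z) ^ 2 - 1) ^ 6) (w := 3) hc hd (tD_six hq2) hP16 hvt (w_le hv hv2 rfl)
        (ineq_even_N hz) (by norm_num) (ineq_even hz)
  · obtain ⟨x, hx⟩ := hodd
    rcases Nat.lt_or_ge q 11 with h | h
    · have h1 : q = 3 ∨ q = 5 ∨ q = 7 ∨ q = 9 := by omega
      rcases h1 with h1 | h1 | h1 | h1
      · exact key 3 (by simp) h1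
      · exact key 5 (by simp) h1
      · exact key 7 (by simp) h1
      · exact key 9 (by simp) h1
    · have hy : p ^ f + 1 = 2 * (x + 1) := by omega
      have hP := P_odd_le hc hy (by omega) hv2 he
      have e : q ^ 2 - 1 = 4 * ((x + 1) * (x + 1 - 1)) := by
        rw [hx, Nat.add_sub_cancel]
        have : (2 * x + 1) ^ 2 = 4 * ((x + 1) * x) + 1 := by ring
        rw [this, Nat.add_sub_cancel]
      have hC := tD_six hq2
      rw [e] at hC
      exact finA (C := 20) (D := (4 * ((x + 1) * (x + 1 - 1))) ^ 6) (w := 3) hc hd hC hP hvt (w_le hv hv2 rfl)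
        (ineq_odd_N (by omega)) (by norm_num) (ineq_odd (by omega))

/-- `2`-parts of two consecutive numbers -/
theorem two_part {y : ℕ} (hy : 2 ≤ y) : (∃ j, y = 2 ^ j) ∨ (∃ j, y = 2 ^ j + 1) ∨ 3 * P 2 (y * (y - 1)) ≤ y := by
  have key : ∀ z : ℕ, 1 ≤ z → (∃ j, z = 2 ^ j) ∨ 3 * P 2 z ≤ z := by
    intro z hz
    obtain ⟨c, hc⟩ := P_dvd 2 z
    have hc1 : ¬ 2 ∣ c := by
      intro h
      obtain ⟨d, rfl⟩ := h
      have h1 : 2 ^ (z.factorization 2 + 1) ∣ z := by
        refine ⟨d, ?_⟩
        calc z = P 2 z * (2 * d) := hc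
          _ = 2 ^ (z.factorization 2 + 1) * d := by rw [P, pow_succ]; ring
      have := (Nat.prime_two.pow_dvd_iff_le_factorization (by omega)).1 h1
      omega
    rcases Nat.lt_or_ge c 3 with h | h
    · left
      have : c = 1 := by
        interval_cases c
        · rw [mul_zero] at hc; omega
        · rfl
        · exact absurd (dvd_refl 2) hc1
      rw [this, mul_one] at hc
      exact ⟨_, hc⟩
    · right
      calc 3 * P 2 z = P 2 z * 3 := mul_comm _ _
        _ ≤ P 2 z * c := Nat.mul_le_mul_left _ h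
        _ = z := hc.symm
  rw [P_mul (by omega) (by omega)]
  rcases Nat.even_or_odd y with he | ho
  · have h1 : ¬ 2 ∣ y - 1 := by
      obtain ⟨k, hk⟩ := he
      omega
    rw [P_eq_one h1, mul_one]
    rcases key y (by omega) with h | h
    · exact Or.inl h
    · exact Or.inr (Or.inr h)
  · have h1 : ¬ 2 ∣ y := by
      obtain ⟨k, hk⟩ := ho
      omega
    rw [P_eq_one h1, one_mul]
    rcases key (y - 1) (by omega) with ⟨j, h⟩ | h
    · exact Or.inr (Or.inl ⟨j, by omega⟩)
    · exact Or.inr (Or.inr (by omega))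

/-- `v = 2` -/
theorem two (hc : CrD 6 p f M X 2 g MS I) : False := by
  have hq2 := hc.hY.q_ge
  have hp := hc.hY.hp
  have hvq := hc.hY.not_dvd_q Nat.prime_two hc.hvp
  obtain ⟨q, hq⟩ : ∃ q, p ^ f = q := ⟨_, rfl⟩
  have hfr := hc.hd
  rw [hq] at hfr hq2 hvq
  have hodd : Odd q := Nat.not_even_iff_odd.1 fun h => hvq h.two_dvd
  have hd := hfr.gen hq2 (by norm_num)
  have hC := tD_six hq2
  have hvt : ¬ 2 ∣ tD 6 (q ^ 2) := fun h => by
    have h1 := tD_order hq2 Nat.prime_two h
    have := SpLarge.order_two_le hvq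
    omega
  have hP := P_two_six hc.hY hq hodd
  have key : ∀ r a : ℕ, (r, a) ∈ [(3, 19), (5, 19), (7, 25), (9, 25), (17, 31), (31, 37), (127, 49), (257, 55)] →
      q = r → False := by
    rintro r a hr rfl
    obtain ⟨hg, h⟩ := en_two _ hr
    exact en_false hc hq (FrD.good hfr (by norm_num) hq2 hg) h
  have kp : ∀ a b : ℕ, a.Prime → b.Prime → a ≠ b → a ∣ q → b ∣ q → False := fun a b ha hb hab h1 h2 =>
    two_primes hp ha hb hab (by rw [hq]; exact h1) (by rw [hq]; exact h2)
  obtain ⟨x, hx⟩ := hodd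
  rcases Nat.lt_or_ge q 11 with h | h
  · have h1 : q = 3 ∨ q = 5 ∨ q = 7 ∨ q = 9 := by omega
    rcases h1 with h1 | h1 | h1 | h1
    · exact key 3 19 (by simp) h1
    · exact key 5 19 (by simp) h1
    · exact key 7 25 (by simp) h1
    · exact key 9 25 (by simp) h1
  · obtain ⟨y, hy⟩ : ∃ y, y = x + 1 := ⟨_, rfl⟩
    have hy6 : 6 ≤ y := by omega
    have hqy : q = 2 * y - 1 := by omega
    have e : q ^ 2 - 1 = 4 * (y * (y - 1)) := by
      rw [hy, hx, Nat.add_sub_cancel]
      have : (2 * x + 1) ^ 2 = 4 * ((x + 1) * x) + 1 := by ring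
      rw [this, Nat.add_sub_cancel]
    have hP4 : P 2 4 = 4 := by
      have := P_pow_self (r := 2) (k := 2) (a := 1) Nat.prime_two (by norm_num)
      simpa using this
    have hyy : y * (y - 1) ≠ 0 := Nat.mul_ne_zero (by omega) (by omega)
    rw [e, P_mul (by norm_num) hyy, hP4] at hP
    rw [e] at hC
    rcases two_part (y := y) (by omega) with ⟨j, hj⟩ | ⟨j, hj⟩ | h3
    · -- `q = 2 ^ (j + 1) - 1`
      have hb : P 2 (y * (y - 1)) = 2 ^ j := by
        have h1 : ¬ 2 ∣ y - 1 := by
          have hj0 : j ≠ 0 := by rintro rfl; omega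
          have : 2 ∣ y := by rw [hj]; exact dvd_pow_self 2 hj0
          omega
        rw [hj] at h1 ⊢
        exact P_pow_self Nat.prime_two h1
      rcases Nat.lt_or_ge j 11 with h4 | h4
      · have hj3 : 3 ≤ j := by
          by_contra hcon
          have : j = 0 ∨ j = 1 ∨ j = 2 := by omega
          rcases this with rfl | rfl | rfl <;> omega
        have h5 : j = 3 ∨ j = 4 ∨ j = 5 ∨ j = 6 ∨ j = 7 ∨ j = 8 ∨ j = 9 ∨ j = 10 := by omega
        rcases h5 with rfl | rfl | rfl | rfl | rfl | rfl | rfl | rfl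
        · exact kp 3 5 (by norm_num) (by norm_num) (by norm_num) (by rw [hqy, hj]; norm_num) (by rw [hqy, hj]; norm_num)
        · exact key 31 37 (by simp) (by rw [hqy, hj]; norm_num)
        · exact kp 3 7 (by norm_num) (by norm_num) (by norm_num) (by rw [hqy, hj]; norm_num) (by rw [hqy, hj]; norm_num)
        · exact key 127 49 (by simp) (by rw [hqy, hj]; norm_num)
        · exact kp 3 5 (by norm_num) (by norm_num) (by norm_num) (by rw [hqy, hj]; norm_num) (by rw [hqy, hj]; norm_num)
        · exact kp 7 73 (by norm_num) (by norm_num) (by norm_num) (by rw [hqy, hj]; norm_num) (by rw [hqy, hj]; norm_num)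
        · exact kp 3 11 (by norm_num) (by norm_num) (by norm_num) (by rw [hqy, hj]; norm_num) (by rw [hqy, hj]; norm_num)
        · exact kp 23 89 (by norm_num) (by norm_num) (by norm_num) (by rw [hqy, hj]; norm_num) (by rw [hqy, hj]; norm_num)
      · have hPe : P 2 M ≤ 2 ^ (6 * (j + 1) + 7) := by
          rw [hP, hb]
          apply le_of_eq
          rw [show 6 * (j + 1) + 7 = 1 + (2 + j) * 6 by ring, pow_add 2 1, pow_mul, pow_add 2 2 j]
          norm_num
        have hC' : (2 ^ (j + 1 + 1) * (2 ^ (j + 1 - 1) - 1)) ^ 6 ≤ tD 6 (q ^ 2) * 20 := by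
          have : 2 ^ (j + 1 + 1) * (2 ^ (j + 1 - 1) - 1) = 4 * (y * (y - 1)) := by
            rw [hj, Nat.add_sub_cancel, pow_add, pow_add]; ring
          rw [this]
          exact hC
        exact finA (C := 20) (w := 2) hc hd hC' hPe hvt le_rfl (Nat.pow_lt_pow_right (by norm_num) (by omega))
          (by norm_num) (ineq_spec (by omega))
    · have hb : P 2 (y * (y - 1)) = 2 ^ j := by
        have h1 : ¬ 2 ∣ y := by
          have hj0 : j ≠ 0 := by rintro rfl; omega
          have : 2 ∣ y - 1 := by rw [hj, Nat.add_sub_cancel]; exact dvd_pow_self 2 hj0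
          omega
        rw [mul_comm, hj, Nat.add_sub_cancel]
        rw [hj] at h1
        exact P_pow_self Nat.prime_two h1
      rcases Nat.lt_or_ge j 11 with h4 | h4
      · have hj3 : 3 ≤ j := by
          by_contra hcon
          have : j = 0 ∨ j = 1 ∨ j = 2 := by omega
          rcases this with rfl | rfl | rfl <;> omega
        have h5 : j = 3 ∨ j = 4 ∨ j = 5 ∨ j = 6 ∨ j = 7 ∨ j = 8 ∨ j = 9 ∨ j = 10 := by omega
        rcases h5 with rfl | rfl | rfl | rfl | rfl | rfl | rfl | rfl
        · exact key 17 31 (by simp) (by rw [hqy, hj]; norm_num)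
        · exact kp 3 11 (by norm_num) (by norm_num) (by norm_num) (by rw [hqy, hj]; norm_num) (by rw [hqy, hj]; norm_num)
        · exact kp 5 13 (by norm_num) (by norm_num) (by norm_num) (by rw [hqy, hj]; norm_num) (by rw [hqy, hj]; norm_num)
        · exact kp 3 43 (by norm_num) (by norm_num) (by norm_num) (by rw [hqy, hj]; norm_num) (by rw [hqy, hj]; norm_num)
        · exact key 257 55 (by simp) (by rw [hqy, hj]; norm_num)
        · exact kp 3 19 (by norm_num) (by norm_num) (by norm_num) (by rw [hqy, hj]; norm_num) (by rw [hqy, hj]; norm_num)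
        · exact kp 5 41 (by norm_num) (by norm_num) (by norm_num) (by rw [hqy, hj]; norm_num) (by rw [hqy, hj]; norm_num)
        · exact kp 3 683 (by norm_num) (by norm_num) (by norm_num) (by rw [hqy, hj]; norm_num) (by rw [hqy, hj]; norm_num)
      · have hPe : P 2 M ≤ 2 ^ (6 * (j + 1) + 7) := by
          rw [hP, hb]
          apply le_of_eq
          rw [show 6 * (j + 1) + 7 = 1 + (2 + j) * 6 by ring, pow_add 2 1, pow_mul, pow_add 2 2 j]
          norm_num
        have hC' : (2 ^ (j + 1 + 1) * (2 ^ (j + 1 - 1) - 1)) ^ 6 ≤ tD 6 (q ^ 2) * 20 := by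
          refine le_trans (Nat.pow_le_pow_left ?_ 6) hC
          rw [hj, Nat.add_sub_cancel, Nat.add_sub_cancel]
          calc 2 ^ (j + 1 + 1) * (2 ^ j - 1) = 4 * (2 ^ j * (2 ^ j - 1)) := by rw [pow_add, pow_add]; ring
            _ ≤ 4 * ((2 ^ j + 1) * 2 ^ j) := by
              apply Nat.mul_le_mul_left
              rw [mul_comm (2 ^ j + 1)]
              exact Nat.mul_le_mul_left _ (by omega)
        exact finA (C := 20) (w := 2) hc hd hC' hPe hvt le_rfl (Nat.pow_lt_pow_right (by norm_num) (by omega))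
          (by norm_num) (ineq_spec (by omega))
    · have hPe : P 2 M ≤ 12 * y ^ 6 := by
        rw [hP]
        generalize P 2 (y * (y - 1)) = b at *
        have h4 : (3 * b) ^ 6 ≤ y ^ 6 := Nat.pow_le_pow_left h3 6
        have h5 : 2 * (4 * b) ^ 6 * 729 = 8192 * (3 * b) ^ 6 := by ring
        have h6 : 2 * (4 * b) ^ 6 * 729 ≤ 12 * y ^ 6 * 729 := by
          rw [h5]
          calc 8192 * (3 * b) ^ 6 ≤ 8192 * y ^ 6 := Nat.mul_le_mul_left _ h4
            _ ≤ 8748 * y ^ 6 := Nat.mul_le_mul_right _ (by norm_num)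
            _ = _ := by ring
        exact Nat.le_of_mul_le_mul_right h6 (by norm_num)
      exact finA (C := 20) (w := 2) hc hd hC hPe hvt le_rfl (ineq_two_N hy6) (by norm_num) (ineq_two hy6)

/-- **`n = 6`.** -/
theorem cross_six (hc : CrD 6 p f M X v g MS I) : False := by
  by_cases hv2 : v = 2
  · subst hv2
    exact two hc
  · rcases Nat.lt_or_ge 3 (orderOf (((p ^ f) ^ 2 : ℕ) : ZMod v)) with h | h
    · exact top hc hv2 h
    · exact small hc hv2 h

/-- **No simple group of Lie type in cross characteristic, except `L₂`, in `D_n(q)`, `n ≥ 6` even.** -/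
theorem cross_all (hc : CrD n p f M X v g MS I) (hn : 6 ≤ n) (hev : n % 2 = 0) : False := by
  by_cases h6 : n = 6
  · subst h6
    exact cross_six hc
  · exact cross_eight hc (by omega) hev

end Cfsg.Agent.H364.DAll
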