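import Mathlib
import Cfsg.Agent.H364.Core
import Cfsg.Agent.S0058
import Cfsg.Agent.S0016

/-!
# Fixed point free action of a `p`-group on an `r`-group (helper364)
-/

set_option autoImplicit false

namespace Cfsg.Agent.H364

open Subgroup

theorem eq_of_card_eq_of_cyclic {A : Type*} [Group A] [Finite A] [IsCyclic A] {H K : Subgroup A} {n : ℕ} (hn : 0 < n)
    (hH : Nat.card H = n) (hK : Nat.card K = n) : H = K := by
  classical
  have := Fintype.ofFinite A
  have key : ∀ L : Subgroup A, Nat.card L = n → (L : Set A) = {a : A | a ^ n = 1} := by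
    intro L hL
    have h1 : (L : Set A) ⊆ {a : A | a ^ n = 1} := by
      intro x hx
      have h2 := pow_card_eq_one' (G := L) (x := ⟨x, hx⟩)
      rw [hL] at h2
      exact congrArg Subtype.val h2
    apply Set.Finite.eq_of_subset_of_card_le (Set.toFinite _) h1
    rw [show Nat.card (L : Set A) = n from hL]
    have h2 := IsCyclic.card_pow_eq_one_le (α := A) hn
    rw [Nat.card_eq_fintype_card]
    convert h2 using 1
    rw [← Set.toFinset_card]
    congr 1
    ext x
    simp
  exact SetLike.coe_injective ((key H hH).trans (key K hK).symm)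

theorem dvd_orderOf_of_pgroup {G : Type*} [Group G] {p : ℕ} (hp : p.Prime) {Q : Subgroup G} (hQ : IsPGroup p Q) {x : G}
    (hx : x ∈ Q) (hx1 : x ≠ 1) : p ∣ orderOf x := by
  have := Fact.mk hp
  obtain ⟨k, hk⟩ := IsPGroup.iff_orderOf.1 hQ ⟨x, hx⟩
  rw [Subgroup.orderOf_mk] at hk
  rw [hk]
  apply dvd_pow_self
  rintro rfl
  rw [pow_zero, orderOf_eq_one_iff] at hk
  exact hx1 hk

/-- A `p`-group acting fixed point freely on a nontrivial `r`-group is cyclic or generalized quaternion. -/
theorem cyclic_or_quaternion {G : Type*} [Group G] [Finite G] {p r : ℕ} (hp : p.Prime) (hr : r.Prime) (hpr : p ≠ r)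
    (h : NoEdge G r p) {Q R : Subgroup G} (hQ : IsPGroup p Q) (hR : IsPGroup r R) (hR1 : R ≠ ⊥)
    (hQR : Q ≤ normalizer (R : Set G)) : IsCyclic Q ∨ (p = 2 ∧ ∃ n : ℕ, Nonempty (Q ≃* QuaternionGroup (2 ^ n))) := by
  have := Fact.mk hp
  have := Fact.mk hr
  apply Cfsg.Agent.S0016.result p hQ
  -- any two commuting elements of order `p` generate the same group
  have key : ∀ z x : G, z ∈ Q → x ∈ Q → orderOf z = p → orderOf x = p → Commute z x → zpowers z = zpowers x := by
    intro z x hz hx hzo hxo hzx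
    by_contra hne
    set A : Subgroup G := closure {z, x} with hA
    have hAQ : A ≤ Q := by
      rw [hA, closure_le]
      rintro y (rfl | rfl)
      · exact hz
      · exact hx
    have hcomm : IsMulCommutative A := by
      rw [hA]
      apply Subgroup.isMulCommutative_closure
      rintro a (rfl | rfl) b (rfl | rfl)
      · rfl
      · exact hzx
      · exact hzx.symm
      · rfl
    have hzA : zpowers z ≤ A := by rw [zpowers_le]; exact subset_closure (by simp)
    have hxA : zpowers x ≤ A := by rw [zpowers_le]; exact subset_closure (by simp)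
    have hncyc : ¬ IsCyclic A := by
      intro hc
      apply hne
      have h1 : (zpowers z).subgroupOf A = (zpowers x).subgroupOf A := by
        apply eq_of_card_eq_of_cyclic hp.pos
        · rw [Nat.card_congr (Subgroup.subgroupOfEquivOfLe hzA).toEquiv, Nat.card_zpowers, hzo]
        · rw [Nat.card_congr (Subgroup.subgroupOfEquivOfLe hxA).toEquiv, Nat.card_zpowers, hxo]
      have h2 := congrArg (Subgroup.map A.subtype) h1
      rwa [Subgroup.subgroupOf_map_subtype, Subgroup.subgroupOf_map_subtype, inf_of_le_left hzA,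
        inf_of_le_left hxA] at h2
    have hAp : IsPGroup p A := hQ.to_le hAQ
    have hcop : (Nat.card A).Coprime (Nat.card R) := by
      obtain ⟨a, ha⟩ := IsPGroup.iff_card.1 hAp
      obtain ⟨b, hb⟩ := IsPGroup.iff_card.1 hR
      rw [ha, hb]
      exact Nat.Coprime.pow a b ((Nat.coprime_primes hp hr).2 hpr)
    have h3 := Cfsg.Agent.S0058.result A R hncyc (hAQ.trans hQR) hcop
    apply hR1
    rw [← h3, iSup_eq_bot]
    intro a
    rw [iSup_eq_bot]
    rintro ⟨haA, ha1⟩
    rw [Subgroup.eq_bot_iff_forall]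
    rintro y ⟨hyR, hyc⟩
    by_contra hy1
    have hcomm' : Commute y a := by
      have hyc' : y ∈ centralizer ({a} : Set G) := hyc
      rw [Subgroup.mem_centralizer_iff] at hyc'
      exact (hyc' a rfl).symm
    exact h.false_of_dvd hr hp hpr.symm hcomm' (dvd_orderOf_of_pgroup hr hR hyR hy1)
      (dvd_orderOf_of_pgroup hp hAp haA ha1)
  intro H K hH hK
  -- a central element of order `p`
  have hQnt : Nontrivial Q := by
    rw [← Finite.one_lt_card_iff_nontrivial]
    exact lt_of_lt_of_le hp.one_lt (hH ▸ Nat.le_of_dvd Nat.card_pos (Subgroup.card_subgroup_dvd_card H))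
  have hZ := hQ.center_nontrivial
  have hZp : p ∣ Nat.card (center Q) := by
    obtain ⟨k, hk⟩ := IsPGroup.iff_card.1 (hQ.to_subgroup (center Q))
    rw [hk]
    apply dvd_pow_self
    rintro rfl
    rw [pow_zero] at hk
    exact absurd (Finite.one_lt_card_iff_nontrivial.2 hZ) (by omega)
  obtain ⟨z, hz⟩ := exists_prime_orderOf_dvd_card' p hZp
  have hzo : orderOf ((z : Q) : G) = p := by rw [Subgroup.orderOf_coe, Subgroup.orderOf_coe, hz]
  have main : ∀ L : Subgroup Q, Nat.card L = p → L.map Q.subtype = zpowers ((z : Q) : G) := by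
    intro L hL
    obtain ⟨x, hx⟩ := exists_prime_orderOf_dvd_card' (G := L) p (by rw [hL])
    have hxo : orderOf ((x : Q) : G) = p := by rw [Subgroup.orderOf_coe, Subgroup.orderOf_coe, hx]
    have hcomm : Commute ((z : Q) : G) ((x : Q) : G) := by
      have := Subgroup.mem_center_iff.1 z.2 (x : Q)
      exact (congrArg Subtype.val this).symm
    rw [key _ _ (z : Q).2 (x : Q).2 hzo hxo hcomm]
    symm
    apply Subgroup.eq_of_le_of_card_ge
    · rw [zpowers_le]
      exact ⟨x, x.2, rfl⟩
    · rw [Nat.card_zpowers, hxo, Subgroup.card_map_of_injective Q.subtype_injective, hL]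
  exact Subgroup.map_injective Q.subtype_injective ((main H hH).trans (main K hK).symm)

/-- The order is bounded by twice the exponent. -/
theorem card_le_exp {G : Type*} [Group G] [Finite G] {p r e : ℕ} (hp : p.Prime) (hr : r.Prime) (hpr : p ≠ r)
    (h : NoEdge G r p) (he : ∀ x : G, ∀ j, orderOf x = p ^ j → j ≤ e) {Q R : Subgroup G} (hQ : IsPGroup p Q)
    (hR : IsPGroup r R) (hR1 : R ≠ ⊥) (hQR : Q ≤ normalizer (R : Set G)) {k : ℕ} (hk : p ^ k ∣ Nat.card Q) :
    k ≤ e + 1 ∧ (p ≠ 2 → k ≤ e) := by
  have := Fact.mk hp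
  obtain ⟨N, hN⟩ := IsPGroup.iff_card.1 hQ
  have hkN : k ≤ N := by
    rw [hN] at hk
    exact (Nat.pow_dvd_pow_iff_le_right hp.one_lt).1 hk
  rcases cyclic_or_quaternion hp hr hpr h hQ hR hR1 hQR with hc | ⟨h2, n, ⟨f⟩⟩
  · obtain ⟨x, hx⟩ := IsCyclic.exists_ofOrder_eq_natCard (α := Q)
    rw [hN, ← Subgroup.orderOf_coe] at hx
    have := he _ _ hx
    omega
  · subst h2
    have h3 : Nat.card Q = 2 ^ (n + 2) := by
      rw [Nat.card_congr f.toEquiv, Nat.card_eq_fintype_card]
      have : NeZero (2 ^ n) := ⟨by positivity⟩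
      rw [QuaternionGroup.card, pow_add]; ring
    have h4 : N = n + 2 := by
      rw [h3] at hN
      exact (Nat.pow_right_injective (le_refl 2) hN).symm
    have h5 : orderOf ((f.symm (QuaternionGroup.a 1) : Q) : G) = 2 ^ (n + 1) := by
      rw [Subgroup.orderOf_coe, MulEquiv.orderOf_eq, QuaternionGroup.orderOf_a_one, pow_succ]; ring
    have := he _ _ h5
    refine ⟨by omega, fun h => absurd rfl h⟩

end Cfsg.Agent.H364
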