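import Mathlib
import Cfsg.Agent.H364.Fpf
import Cfsg.Agent.H364.Iso2
import Cfsg.Agent.H363.Frat

/-!
# The master lemma: prime graph independent triples with large `p`-part (helper364)

`G` is a finite group, `p` a prime, `r`, `s` primes dividing `|G|` which are not adjacent to `p` in the prime graph and
such that the orders `a`, `b` of `p` modulo `r`, `s` satisfy `v_p(|G|) < lcm a b`. Then modulo a normal subgroup `K` of
order prime to `p r s`, the group `G` is almost simple.
-/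

set_option autoImplicit false

namespace Cfsg.Agent.H364

open Subgroup

theorem exists_minimal_normal_le {G : Type*} [Group G] [Finite G] (C : Subgroup G) (hCn : C.Normal) (hC : C ≠ ⊥) :
    ∃ N : Subgroup G, N.Normal ∧ N ≤ C ∧ N ≠ ⊥ ∧ ∀ M : Subgroup G, M.Normal → M ≤ N → M = ⊥ ∨ M = N := by
  obtain ⟨N, hN⟩ := (Set.toFinite {N : Subgroup G | N.Normal ∧ N ≤ C ∧ N ≠ ⊥}).exists_minimal
    ⟨C, hCn, le_rfl, hC⟩
  refine ⟨N, hN.1.1, hN.1.2.1, hN.1.2.2, fun M hM hMN => ?_⟩
  by_cases h : M = ⊥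
  · exact Or.inl h
  · exact Or.inr (le_antisymm hMN (hN.2 ⟨hM, hMN.trans hN.1.2.1, h⟩ hMN))

/-- bound for the `p`-part of the index of a normal subgroup of order divisible by `r`. -/
theorem index_bound {G : Type*} [Group G] [Finite G] {p r e : ℕ} (hp : p.Prime) (hr : r.Prime) (hpr : p ≠ r)
    (h : NoEdge G r p) (he : ∀ x : G, ∀ j, orderOf x = p ^ j → j ≤ e) (N : Subgroup G) [N.Normal]
    (hrN : r ∣ Nat.card N) : N.index.factorization p ≤ e + 1 ∧ (p ≠ 2 → N.index.factorization p ≤ e) := by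
  have hidx : N.index ≠ 0 := Subgroup.index_ne_zero_of_finite
  obtain ⟨S, Q, -, hS, hScard, hQ, hQk, hQS⟩ := Cfsg.Agent.H363.Frat.exists_normalizing hp hr N
    (k := N.index.factorization p) (Nat.ordProj_dvd _ _)
  have hS1 : S ≠ ⊥ := by
    rintro rfl
    rw [Subgroup.card_bot] at hScard
    have h1 := hr.factorization_pos_of_dvd Nat.card_pos.ne' hrN
    have h2 := Nat.one_lt_pow h1.ne' hr.one_lt
    omega
  exact card_le_exp hp hr hpr h he hQ hS hS1 hQS hQk

/-- minimal normal subgroups, all primes at once -/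
theorem minimal_normal_cases2 {G : Type*} [Group G] [Finite G] (N : Subgroup G) [hNn : N.Normal] (hN : N ≠ ⊥)
    (hmin : ∀ M : Subgroup G, M.Normal → M ≤ N → M = ⊥ ∨ M = N) :
    (∃ r, r.Prime ∧ IsPGroup r N) ∨ ∃ (k : ℕ) (S : Fin k → Subgroup G), 0 < k ∧ (∀ i, S i ≤ N) ∧
      (∀ i, IsSimpleGroup (S i)) ∧ (∀ i, ¬ ∀ a b : S i, a * b = b * a) ∧
      (∀ t, t.Prime → t ∣ Nat.card N → ∀ i, t ∣ Nat.card (S i)) ∧
      (∀ i j, Nat.card (S i) = Nat.card (S j)) ∧
      (∀ i j, i ≠ j → ∀ x ∈ S i, ∀ y ∈ S j, Commute x y) ∧ ⨆ i, S i = N := by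
  obtain ⟨k, S, hk, hSN, hsimple, -, hconj, hcomm, -, hind, hsup⟩ :=
    Cfsg.Agent.Lib.MinNormal.exists_internal_decomposition N hN hmin
  have hiso : ∀ i j, Nonempty (S i ≃* S j) := fun i j => by
    obtain ⟨g, hg⟩ := hconj i j
    exact ⟨((S i).equivMapOfInjective _ (MulAut.conj g).injective).trans (MulEquiv.subgroupCongr hg.symm)⟩
  have hcard : ∀ i j, Nat.card (S i) = Nat.card (S j) := fun i j => by
    obtain ⟨e⟩ := hiso i j
    exact Nat.card_congr e.toEquiv
  by_cases hab : ∀ a b : S ⟨0, hk⟩, a * b = b * a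
  · left
    have h1 : Nat.card N ≠ 1 := fun h => hN (Subgroup.card_eq_one.1 h)
    obtain ⟨r, hr, hrN⟩ := Nat.exists_prime_and_dvd h1
    refine ⟨r, hr, ?_⟩
    rcases minimal_normal_cases N hN hmin hr hrN with h | ⟨k', S', hk', hSN', hS', hSna', -⟩
    · exact h
    · exfalso
      -- `N` is abelian, so its subgroups are
      have hN' : ∀ x ∈ N, ∀ y ∈ N, Commute x y := by
        have key : ∀ i, ∀ x ∈ S i, ∀ y ∈ S i, Commute x y := by
          intro i x hx y hy
          obtain ⟨e⟩ := hiso ⟨0, hk⟩ i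
          have h2 : (⟨x, hx⟩ : S i) * ⟨y, hy⟩ = ⟨y, hy⟩ * ⟨x, hx⟩ := by
            apply e.symm.injective
            rw [map_mul, map_mul, hab]
          exact congrArg Subtype.val h2
        have key2 : ∀ i j, ∀ x ∈ S i, ∀ y ∈ S j, Commute x y := by
          intro i j x hx y hy
          by_cases hij : i = j
          · subst hij; exact key i x hx y hy
          · exact hcomm i j hij x hx y hy
        have h3 : N ≤ centralizer (N : Set G) := by
          have h4 : ∀ i, S i ≤ centralizer (N : Set G) := by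
            intro i
            rw [Subgroup.le_centralizer_iff, ← hsup, iSup_le_iff]
            intro j y hy
            rw [Subgroup.mem_centralizer_iff]
            intro x hx
            exact key2 i j x hx y hy
          conv_lhs => rw [← hsup]
          exact iSup_le h4
        intro x hx y hy
        exact (Subgroup.mem_centralizer_iff.1 (h3 hy) x hx)
      apply hSna' ⟨0, hk'⟩
      intro a b
      exact Subtype.ext (hN' _ (hSN' _ a.2) _ (hSN' _ b.2))
  · right
    refine ⟨k, S, hk, hSN, hsimple, fun i h => hab fun a b => ?_, fun t ht htN i => ?_, hcard, hcomm, hsup⟩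
    · obtain ⟨e⟩ := hiso ⟨0, hk⟩ i
      apply e.injective
      rw [map_mul, map_mul, h]
    · obtain ⟨i0, hi0⟩ := exists_dvd_of_prime_dvd S hcomm hind hsup ht htN
      rw [hcard i i0]; exact hi0

/-- structure of the minimal normal subgroups -/
theorem minimal_simple {G : Type*} [Group G] [Finite G] {p r e : ℕ} (hp : p.Prime) (hr : r.Prime) (hpr : p ≠ r)
    (h : NoEdge G r p) (he : ∀ x : G, ∀ j, orderOf x = p ^ j → j ≤ e) (hN : e + 1 < (Nat.card G).factorization p)
    (N : Subgroup G) [hNn : N.Normal] (hN1 : N ≠ ⊥) (hmin : ∀ M : Subgroup G, M.Normal → M ≤ N → M = ⊥ ∨ M = N)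
    (hrN : r ∣ Nat.card N) : IsSimpleGroup N ∧ (¬ ∀ a b : N, a * b = b * a) ∧ p ∣ Nat.card N := by
  have hpN : p ∣ Nat.card N := by
    by_contra hcon
    have h1 := (index_bound hp hr hpr h he N hrN).1
    have h2 : (Nat.card G).factorization p = (Nat.card N).factorization p + N.index.factorization p := by
      rw [← Subgroup.card_mul_index N, Nat.factorization_mul Nat.card_pos.ne' Subgroup.index_ne_zero_of_finite,
        Finsupp.add_apply]
    rw [Nat.factorization_eq_zero_of_not_dvd hcon, zero_add] at h2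
    omega
  rcases minimal_normal_cases2 N hN1 hmin with ⟨t, ht, hpg⟩ | ⟨k, S, hk, hSN, hS, hSna, hSt, hScard, hScomm, hSsup⟩
  · exfalso
    have := Fact.mk ht
    obtain ⟨a, ha⟩ := IsPGroup.iff_card.1 hpg
    rw [ha] at hpN hrN
    have h1 := (Nat.prime_dvd_prime_iff_eq hp ht).1 (hp.dvd_of_dvd_pow hpN)
    have h2 := (Nat.prime_dvd_prime_iff_eq hr ht).1 (hr.dvd_of_dvd_pow hrN)
    exact hpr (h1.trans h2.symm)
  · have hk1 : k = 1 := by
      by_contra hne
      have h01 : (⟨0, hk⟩ : Fin k) ≠ ⟨1, by omega⟩ := by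
        intro h; simp at h
      exact h.false_of_subgroups hr hp hpr.symm (hScomm _ _ h01) (hSt r hr hrN _) (hSt p hp hpN _)
    subst hk1
    have hNS : S 0 = N := by
      rw [← hSsup]
      exact (iSup_unique (f := S)).symm
    exact ⟨hNS ▸ hS 0, hNS ▸ hSna 0, hpN⟩

/-- **Master lemma.** -/
theorem master {G : Type*} [Group G] [Finite G] {p r s e a b : ℕ} (hp : p.Prime) (hr : r.Prime) (hs : s.Prime)
    (hpr : p ≠ r) (hps : p ≠ s) (hrG : r ∣ Nat.card G) (hsG : s ∣ Nat.card G) (hrp : NoEdge G r p) (hsp : NoEdge G s p)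
    (ha : ∀ m, r ∣ p ^ m - 1 → a ∣ m) (hb : ∀ m, s ∣ p ^ m - 1 → b ∣ m)
    (hlcm : (Nat.card G).factorization p < Nat.lcm a b) (he : ∀ x : G, ∀ j, orderOf x = p ^ j → j ≤ e)
    (hN : e + 1 < (Nat.card G).factorization p) :
    ∃ (K : Subgroup G) (_ : K.Normal), ¬ p ∣ Nat.card K ∧ ¬ r ∣ Nat.card K ∧ ¬ s ∣ Nat.card K ∧
      ∃ H : Subgroup (G ⧸ K), H.Normal ∧ IsSimpleGroup H ∧ (¬ ∀ x y : H, x * y = y * x) ∧
        centralizer (H : Set (G ⧸ K)) = ⊥ ∧ p ∣ Nat.card H ∧ (r ∣ Nat.card H ∨ s ∣ Nat.card H) ∧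
        H.index.factorization p ≤ e + 1 ∧ (p ≠ 2 → H.index.factorization p ≤ e) := by
  obtain ⟨K, hKn, hKm, hmax⟩ := exists_core G (r * s)
  have hrK : ¬ r ∣ Nat.card K := fun h => by
    have := Nat.dvd_gcd h (dvd_mul_right r s)
    rw [hKm] at this
    exact hr.one_lt.ne' (Nat.dvd_one.1 this)
  have hsK : ¬ s ∣ Nat.card K := fun h => by
    have := Nat.dvd_gcd h (dvd_mul_left s r)
    rw [hKm] at this
    exact hs.one_lt.ne' (Nat.dvd_one.1 this)
  have hKG : Nat.card K ∣ Nat.card G := Subgroup.card_subgroup_dvd_card K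
  have hGK : Nat.card K * Nat.card (G ⧸ K) = Nat.card G := by
    rw [← Subgroup.card_mul_index K, Subgroup.index_eq_card]
  have hf : (Nat.card K).factorization p ≤ (Nat.card G).factorization p :=
    (Nat.factorization_le_iff_dvd Nat.card_pos.ne' Nat.card_pos.ne').2 hKG p
  have hKp : (Nat.card K).factorization p = 0 := by
    have h1 := congr_one K hr hp hpr.symm hrK hrp
    have h2 := congr_one K hs hp hps.symm hsK hsp
    have h3 : r ∣ r ^ (Nat.card G).factorization r :=
      dvd_pow_self r (hr.factorization_pos_of_dvd Nat.card_pos.ne' hrG).ne'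
    have h4 : s ∣ s ^ (Nat.card G).factorization s :=
      dvd_pow_self s (hs.factorization_pos_of_dvd Nat.card_pos.ne' hsG).ne'
    have h5 := Nat.lcm_dvd (ha _ (h3.trans h1)) (hb _ (h4.trans h2))
    by_contra h6
    have := Nat.le_of_dvd (Nat.pos_of_ne_zero h6) h5
    omega
  have hpK : ¬ p ∣ Nat.card K := fun h => by
    have := hp.factorization_pos_of_dvd Nat.card_pos.ne' h
    omega
  have hfq : (Nat.card (G ⧸ K)).factorization p = (Nat.card G).factorization p := by
    rw [← hGK, Nat.factorization_mul Nat.card_pos.ne' Nat.card_pos.ne', Finsupp.add_apply, hKp, zero_add]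
  have hrp' : NoEdge (G ⧸ K) r p := noEdge_quotient K hrp
  have hsp' : NoEdge (G ⧸ K) s p := noEdge_quotient K hsp
  have he' : ∀ x : G ⧸ K, ∀ j, orderOf x = p ^ j → j ≤ e := by
    intro x j hj
    obtain ⟨y, hy⟩ := exists_orderOf_lift (QuotientGroup.mk' K) (QuotientGroup.mk'_surjective K) x
    exact he y j (hy.trans hj)
  have hN' : e + 1 < (Nat.card (G ⧸ K)).factorization p := by rw [hfq]; exact hN
  have hnt : Nontrivial (G ⧸ K) := by
    rw [← Finite.one_lt_card_iff_nontrivial]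
    by_contra hcon
    have h1 : Nat.card (G ⧸ K) = 1 := by
      have : 0 < Nat.card (G ⧸ K) := Nat.card_pos
      omega
    rw [h1] at hN'
    simp at hN'
  have hmins : ∀ N : Subgroup (G ⧸ K), N.Normal → N ≠ ⊥ →
      (∀ M : Subgroup (G ⧸ K), M.Normal → M ≤ N → M = ⊥ ∨ M = N) →
      IsSimpleGroup N ∧ (¬ ∀ a b : N, a * b = b * a) ∧ p ∣ Nat.card N ∧ (r ∣ Nat.card N ∨ s ∣ Nat.card N) := by
    intro N hNn hN1 hmin
    obtain ⟨t, ht, htN, htm⟩ := Nat.Prime.not_coprime_iff_dvd.1 (fun hc => hN1 (core_quotient hKm hmax N hNn hc))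
    rcases (Nat.Prime.dvd_mul ht).1 htm with h1 | h1
    · have h2 := (Nat.prime_dvd_prime_iff_eq ht hr).1 h1
      subst h2
      obtain ⟨h3, h4, h5⟩ := minimal_simple hp hr hpr hrp' he' hN' N hN1 hmin htN
      exact ⟨h3, h4, h5, Or.inl htN⟩
    · have h2 := (Nat.prime_dvd_prime_iff_eq ht hs).1 h1
      subst h2
      obtain ⟨h3, h4, h5⟩ := minimal_simple hp hs hps hsp' he' hN' N hN1 hmin htN
      exact ⟨h3, h4, h5, Or.inr htN⟩
  obtain ⟨H, hHn, hH1, hHmin⟩ := exists_minimal_normal (G ⧸ K)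
  obtain ⟨hHs, hHna, hHp, hHrs⟩ := hmins H hHn hH1 hHmin
  refine ⟨K, hKn, hpK, hrK, hsK, H, hHn, hHs, hHna, ?_, hHp, hHrs, ?_⟩
  · by_contra hC
    obtain ⟨N, hNn, hNC, hN1, hNmin⟩ := exists_minimal_normal_le (centralizer (H : Set (G ⧸ K))) inferInstance hC
    obtain ⟨-, -, -, hNrs⟩ := hmins N hNn hN1 hNmin
    have hcomm : ∀ x ∈ N, ∀ y ∈ H, Commute x y := fun x hx y hy =>
      (Subgroup.mem_centralizer_iff.1 (hNC hx) y hy).symm
    rcases hNrs with h1 | h1
    · exact hrp'.false_of_subgroups hr hp hpr.symm hcomm h1 hHp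
    · exact hsp'.false_of_subgroups hs hp hps.symm hcomm h1 hHp
  · rcases hHrs with h1 | h1
    · exact index_bound hp hr hpr hrp' he' H h1
    · exact index_bound hp hs hps hsp' he' H h1

end Cfsg.Agent.H364
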