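import Mathlib
import Cfsg.Agent.H364.TwoRow
import Cfsg.Agent.H364.OrthP

/-!
# The groups with the order and the element orders of `PΩ⁻(2n, q)`, and of `PΩ⁺(2n, q)`, `n` odd (helper364)
-/

set_option autoImplicit false

namespace Cfsg.Agent.H364.OrthRow

open Subgroup Cfsg Cfsg.Agent.OrdDiv Module
open Cfsg.Agent.H902 Cfsg.Agent.H364.ArithU Cfsg.Agent.H364.Slack Cfsg.Agent.H364.SpecialU
open Cfsg.Agent.LieClassical.OmegaReindex Cfsg.Agent.H150

universe u v

theorem oplus_real {F : Type v} [Field F] [Fintype F] {m p f : ℕ} (hp : p.Prime) (hf : 1 ≤ f)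
    (hF : Fintype.card F = p ^ f) (hm : 4 ≤ m) :
    Art.Real (.D m) p f (Nat.card (POmega F (quadFormPlus m F))) := by
  refine ⟨hp, hf, hm, ?_⟩
  have h := Cfsg.Agent.S0293.result (F := F) hF m hm
  change Nat.gcd 4 ((p ^ f) ^ m - 1) * _ = (p ^ f) ^ (m * (m - 1)) * (((p ^ f) ^ m - 1) * _)
  rw [← mul_assoc ((p ^ f) ^ (m * (m - 1)))]
  exact h

theorem ominus_real {F : Type v} [Field F] [Fintype F] {m p f : ℕ} (hp : p.Prime) (hf : 1 ≤ f)
    (hF : Fintype.card F = p ^ f) (hm : 4 ≤ m) {a b : F}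
    (hab : ∀ z₁ z₂ : F, z₁ ^ 2 + a * z₁ * z₂ + b * z₂ ^ 2 = 0 → z₁ = 0 ∧ z₂ = 0) :
    Art.Real (.DD m) p f (Nat.card (POmega F (quadFormMinus (m - 1) F a b))) := by
  refine ⟨hp, hf, hm, ?_⟩
  have h := Cfsg.Agent.S0294.result (F := F) hF m hm a b hab
  change Nat.gcd 4 ((p ^ f) ^ m + 1) * _ = (p ^ f) ^ (m * (m - 1)) * (((p ^ f) ^ m + 1) * _)
  rw [← mul_assoc ((p ^ f) ^ (m * (m - 1)))]
  exact h

theorem prod_le (q k : ℕ) : ∏ i ∈ Finset.range k, (q ^ (2 * (i + 1)) - 1) ≤ q ^ (k * (k + 1)) := by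
  induction k with
  | zero => simp
  | succ k ih =>
    rw [Finset.prod_range_succ]
    calc _ ≤ q ^ (k * (k + 1)) * q ^ (2 * (k + 1)) := Nat.mul_le_mul ih (Nat.sub_le _ _)
      _ = _ := by rw [← pow_add]; congr 1; ring

theorem card_le_plus {p f n M : ℕ} (hY : Art.Real (.D n) p f M) : M ≤ p ^ (f * (n * (2 * n - 1))) := by
  have hn : 4 ≤ n := hY.ok
  obtain ⟨k, rfl⟩ : ∃ k, n = k + 1 := ⟨n - 1, by omega⟩
  refine hY.M_le.trans ?_
  show (p ^ f) ^ ((k + 1) * (k + 1 - 1)) * (((p ^ f) ^ (k + 1) - 1) * ∏ i ∈ Finset.range (k + 1 - 1), ((p ^ f) ^ (2 * (i + 1)) - 1)) ≤ _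
  rw [Nat.add_sub_cancel]
  calc _ ≤ (p ^ f) ^ ((k + 1) * k) * ((p ^ f) ^ (k + 1) * (p ^ f) ^ (k * (k + 1))) :=
        Nat.mul_le_mul_left _ (Nat.mul_le_mul (Nat.sub_le _ _) (prod_le _ _))
    _ = _ := by
      rw [← pow_add, ← pow_add, ← pow_mul]
      congr 2
      have : 2 * (k + 1) - 1 = 2 * k + 1 := by omega
      rw [this]
      ring

theorem card_le_minus {p f n M : ℕ} (hY : Art.Real (.DD n) p f M) : M ≤ p ^ (f * (n * (2 * n - 1))) := by
  have hn : 4 ≤ n := hY.ok
  have hq := hY.q_ge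
  obtain ⟨k, rfl⟩ : ∃ k, n = k + 2 := ⟨n - 2, by omega⟩
  refine hY.M_le.trans ?_
  rw [pow_mul p f]
  show (p ^ f) ^ ((k + 2) * (k + 2 - 1)) * (((p ^ f) ^ (k + 2) + 1) * ∏ i ∈ Finset.range (k + 2 - 1), ((p ^ f) ^ (2 * (i + 1)) - 1)) ≤ _
  have e1 : k + 2 - 1 = k + 1 := rfl
  rw [e1]
  generalize p ^ f = q at *
  have h1 : (q ^ (k + 2) + 1) * ∏ i ∈ Finset.range (k + 1), (q ^ (2 * (i + 1)) - 1) ≤ q ^ (k + 2) * q ^ ((k + 1) * (k + 2)) := by
    rw [Finset.prod_range_succ']
    have h2 : (q ^ (k + 2) + 1) * (q ^ (2 * (0 + 1)) - 1) ≤ q ^ (k + 2) * q ^ 2 := by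
      obtain ⟨A, hA⟩ : ∃ A, q ^ 2 = A + 1 := ⟨q ^ 2 - 1, by
        have := Nat.one_le_pow 2 q (by omega); omega⟩
      have h3 : q ^ 2 ≤ q ^ (k + 2) := Nat.pow_le_pow_right (by omega) (by omega)
      rw [show 2 * (0 + 1) = 2 by norm_num, hA, Nat.add_sub_cancel]
      nlinarith
    have h4 : ∀ j : ℕ, ∏ i ∈ Finset.range j, (q ^ (2 * (i + 1 + 1)) - 1) ≤ q ^ (j * (j + 3)) := by
      intro j
      induction j with
      | zero => simp
      | succ j ih =>
        rw [Finset.prod_range_succ]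
        calc _ ≤ q ^ (j * (j + 3)) * q ^ (2 * (j + 1 + 1)) := Nat.mul_le_mul ih (Nat.sub_le _ _)
          _ = _ := by rw [← pow_add]; congr 1; ring
    calc _ = (∏ i ∈ Finset.range k, (q ^ (2 * (i + 1 + 1)) - 1)) * ((q ^ (k + 2) + 1) * (q ^ (2 * (0 + 1)) - 1)) := by ring
      _ ≤ q ^ (k * (k + 3)) * (q ^ (k + 2) * q ^ 2) := Nat.mul_le_mul (h4 _) h2
      _ = _ := by rw [← pow_add, ← pow_add, ← pow_add]; congr 1; ring
  calc _ ≤ q ^ ((k + 2) * (k + 1)) * (q ^ (k + 2) * q ^ ((k + 1) * (k + 2))) := Nat.mul_le_mul_left _ h1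
    _ = q ^ ((k + 2) * (2 * (k + 2) - 1)) := by
      rw [← pow_add, ← pow_add]
      congr 1
      have : 2 * (k + 2) - 1 = 2 * k + 3 := by omega
      rw [this]
      ring

theorem two_mul_le_pow_two {n : ℕ} (hn : 4 ≤ n) : 2 * n ≤ 2 ^ (n - 1) := by
  induction n, hn using Nat.le_induction with
  | base => norm_num
  | succ k hk ih =>
    have e : k + 1 - 1 = (k - 1) + 1 := by omega
    rw [e, pow_succ]
    omega

theorem two_mul_le_pow_three {n : ℕ} (hn : 4 ≤ n) : 2 * n ≤ 3 ^ (n - 2) := by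
  induction n, hn using Nat.le_induction with
  | base => norm_num
  | succ k hk ih =>
    have e : k + 1 - 2 = (k - 2) + 1 := by omega
    rw [e, pow_succ]
    omega

/-- the slack is sufficient, up to three cases -/
theorem bounds {p n f δ : ℕ} (hp : p.Prime) (hn : 4 ≤ n) (hf : 1 ≤ f) (h1 : δ ≤ Nat.clog p (2 * n) + 1)
    (h2 : p ≠ 2 → δ ≤ Nat.clog p (2 * n)) (hsm : ¬ (p = 2 ∧ ((n = 4 ∧ f ≤ 2) ∨ (n = 5 ∧ f = 1)))) :
    cc p + f * (n * (2 * n - 1)) + 2 * δ ≤ 3 * (f * (n * (n - 1))) := by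
  have hp2 := hp.two_le
  have key : cc p + 2 * δ ≤ f * (n * (n - 2)) := by
    by_cases h3 : p = 2
    · subst h3
      have hcl : Nat.clog 2 (2 * n) ≤ n - 1 := Nat.clog_le_of_le_pow (two_mul_le_pow_two hn)
      have hcc : cc 2 = 12 := rfl
      rw [hcc]
      by_cases h6 : 6 ≤ n
      · obtain ⟨t, rfl⟩ : ∃ t, n = t + 6 := ⟨n - 6, by omega⟩
        have h7 : (t + 6) * (t + 6 - 2) ≤ f * ((t + 6) * (t + 6 - 2)) := Nat.le_mul_of_pos_left _ hf
        refine le_trans ?_ h7
        have e : t + 6 - 2 = t + 4 := by omega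
        rw [e]
        have hδ : δ ≤ t + 6 := by omega
        nlinarith
      · have : n = 4 ∨ n = 5 := by omega
        rcases this with rfl | rfl
        · norm_num; omega
        · norm_num; omega
    · have h4 := h2 h3
      have h3p : 3 ≤ p := by omega
      have hcl : Nat.clog p (2 * n) ≤ n - 2 := Nat.clog_le_of_le_pow
        ((two_mul_le_pow_three hn).trans (Nat.pow_le_pow_left h3p _))
      have hcc : cc p ≤ 3 := by
        unfold cc
        split_ifs <;> omega
      have h7 : n * (n - 2) ≤ f * (n * (n - 2)) := Nat.le_mul_of_pos_left _ hf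
      refine le_trans ?_ h7
      obtain ⟨t, rfl⟩ : ∃ t, n = t + 4 := ⟨n - 4, by omega⟩
      have e : t + 4 - 2 = t + 2 := by omega
      rw [e] at hcl ⊢
      nlinarith
  obtain ⟨t, rfl⟩ : ∃ t, n = t + 2 := ⟨n - 2, by omega⟩
  have e1 : 2 * (t + 2) - 1 = 2 * t + 3 := by omega
  have e2 : t + 2 - 1 = t + 1 := by omega
  have e3 : t + 2 - 2 = t := by omega
  rw [e3] at key
  rw [e1, e2]
  have e4 : 3 * (f * ((t + 2) * (t + 1))) = f * ((t + 2) * t) + f * ((t + 2) * (2 * t + 3)) := by ring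
  omega

theorem orderOf_pow_card {p f r k : ℕ} (hf : 1 ≤ f) (ho : orderOf (p : ZMod r) = f * k) :
    orderOf ((p ^ f : ℕ) : ZMod r) = k := by
  rw [Nat.cast_pow, orderOf_pow' _ (by omega), ho, Nat.gcd_eq_right (Dvd.intro _ rfl)]
  exact Nat.mul_div_cancel_left _ (by omega)

theorem ne_two_of_order {p r k : ℕ} (hr : r.Prime) (h3 : 3 ≤ k) (ho : orderOf (p : ZMod r) = k) : r ≠ 2 := by
  rintro rfl
  have h1 : (p : ZMod 2) ^ k = 1 := by rw [← ho]; exact pow_orderOf_eq_one _
  have h2 : (p : ZMod 2) = 0 ∨ (p : ZMod 2) = 1 := by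
    generalize (p : ZMod 2) = x
    revert x
    decide
  rcases h2 with h2 | h2
  · rw [h2, zero_pow (by omega)] at h1
    exact absurd h1 (by decide)
  · rw [h2, orderOf_one] at ho
    omega

section small

variable (T : OrderTable.{u}) {S : Type u} [Group S] (h : IsKnownSimple' S) (hna : ¬ ∀ a b : S, a * b = b * a) {M : ℕ}
include T h hna

theorem dd44 (hM : Art.Real (.DD 4) 2 2 M) (hd : Nat.card S ∣ M) (hk : 2 ^ 20 ∣ Nat.card S) : Nat.card S = M := by
  obtain rfl : M = 67536471195648000 := by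
    have h1 := hM.eq
    rw [show (2 ^ 2) ^ Art.NN (.DD 4) * Art.num (.DD 4) (2 ^ 2) = Art.dd (.DD 4) (2 ^ 2) * 67536471195648000 by
      decide +kernel] at h1
    exact Nat.eq_of_mul_eq_mul_left (Nat.pos_of_ne_zero hM.dd_ne) h1
  rcases of_chk T h hna (l := [(2, 24), (3, 4), (5, 3), (7, 1), (13, 1), (17, 1), (257, 1)]) (A := 67536471195648000)
    (B := 67536471195648000) (by decide +kernel) hd hk (by decide +kernel) with h | h | h <;> exact h

theorem dd52 (hM : Art.Real (.DD 5) 2 1 M) (hd : Nat.card S ∣ M) (hk : 2 ^ 15 ∣ Nat.card S) :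
    Nat.card S = M ∨ Nat.card S = 47377612800 ∨ Nat.card S = 9196830720 := by
  obtain rfl : M = 25015379558400 := by
    have h1 := hM.eq
    rw [show (2 ^ 1) ^ Art.NN (.DD 5) * Art.num (.DD 5) (2 ^ 1) = Art.dd (.DD 5) (2 ^ 1) * 25015379558400 by
      decide +kernel] at h1
    exact Nat.eq_of_mul_eq_mul_left (Nat.pos_of_ne_zero hM.dd_ne) h1
  exact of_chk T h hna (l := [(2, 20), (3, 6), (5, 2), (7, 1), (11, 1), (17, 1)]) (by decide +kernel) hd hk
    (by decide +kernel)

theorem d52 (hM : Art.Real (.D 5) 2 1 M) (hd : Nat.card S ∣ M) (hk : 2 ^ 15 ∣ Nat.card S) :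
    Nat.card S = M ∨ Nat.card S = 47377612800 ∨ Nat.card S = 47377612800 := by
  obtain rfl : M = 23499295948800 := by
    have h1 := hM.eq
    rw [show (2 ^ 1) ^ Art.NN (.D 5) * Art.num (.D 5) (2 ^ 1) = Art.dd (.D 5) (2 ^ 1) * 23499295948800 by
      decide +kernel] at h1
    exact Nat.eq_of_mul_eq_mul_left (Nat.pos_of_ne_zero hM.dd_ne) h1
  exact of_chk T h hna (l := [(2, 20), (3, 5), (5, 2), (7, 1), (17, 1), (31, 1)]) (by decide +kernel) hd hk
    (by decide +kernel)

end small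

theorem isSimple_of {G : Type u} [Group G] [Finite G]
    (h : ∃ (K : Subgroup G) (_ : K.Normal) (H : Subgroup (G ⧸ K)), IsSimpleGroup H ∧ (¬ ∀ x y : H, x * y = y * x) ∧
      Nat.card H = Nat.card G) : IsSimpleGroup G := by
  obtain ⟨K, hK, H, hs, -, hc⟩ := h
  obtain ⟨e⟩ := PSUFour.equiv_of_card K H hc
  have : Nontrivial G := e.toEquiv.nontrivial
  exact IsSimpleGroup.isSimpleGroup_of_surjective (f := e.symm.toMonoidHom) e.symm.surjective

theorem lcm_two (n : ℕ) (hn : 2 ≤ n) (f : ℕ) (hf : 1 ≤ f) : f * (n * (n - 1)) < Nat.lcm (f * (2 * n)) (f * (2 * (n - 1))) := by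
  rw [Nat.lcm_mul_left, Nat.lcm_mul_left]
  have h1 : Nat.lcm n (n - 1) = n * (n - 1) := by
    apply Nat.Coprime.lcm_eq_mul
    rw [Nat.coprime_iff_gcd_eq_one, ← Nat.dvd_one]
    have h2 := Nat.gcd_dvd_left n (n - 1)
    have h3 := Nat.gcd_dvd_right n (n - 1)
    have h4 := (Nat.dvd_sub h2 h3)
    rwa [show n - (n - 1) = 1 by omega] at h4
  rw [h1]
  have h2 : 0 < n * (n - 1) := Nat.mul_pos (by omega) (by omega)
  nlinarith

variable {F : Type v} [Field F] [Fintype F]

/-- **The structure of a group with the order and element orders of `PΩ⁻(2n, q)`.** -/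
theorem minus_core {G : Type u} [Group G] [Finite G] {n p f : ℕ} (hp : p.Prime)
    (hf : 1 ≤ f) (hF : Fintype.card F = p ^ f) (hn : 4 ≤ n) (h42 : ¬ (n = 4 ∧ p = 2 ∧ f = 1)) {a b : F}
    (hab : ∀ z₁ z₂ : F, z₁ ^ 2 + a * z₁ * z₂ + b * z₂ ^ 2 = 0 → z₁ = 0 ∧ z₂ = 0)
    (hspec : ∀ x : G, ∃ y : POmega F (quadFormMinus (n - 1) F a b), orderOf y = orderOf x)
    (hcard : Nat.card G = Nat.card (POmega F (quadFormMinus (n - 1) F a b))) :
    ∃ (K : Subgroup G) (_ : K.Normal) (H : Subgroup (G ⧸ K)), IsSimpleGroup H ∧ (¬ ∀ x y : H, x * y = y * x) ∧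
      Nat.card H = Nat.card G := by
  have hpF : Fact p.Prime := ⟨hp⟩
  have hchar : CharP F p := OutLie.charP_of_card hp (f := f) (by omega) hF
  have hY : Art.Real (.DD n) p f (Nat.card G) := by rw [hcard]; exact ominus_real hp hf hF hn hab
  have hdim : finrank F ((Fin (n - 1) ⊕ Fin (n - 1)) ⊕ Fin 2 → F) = 2 * n := by simp; omega
  have hnd := quadMinus_nondegenerate (m := n - 1) (F := F) hab
  have hs := quadMinus_sing (F := F) (n := n - 1) (by omega) a b
  rw [← coe_quadMinus] at hspec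
  have hq : Nat.card F = p ^ f := by rw [Nat.card_eq_fintype_card, hF]
  have h8 : 8 ≤ f * (2 * n) := by nlinarith
  have h6' : 6 ≤ f * (2 * (n - 1)) := by
    have : 3 ≤ n - 1 := by omega
    nlinarith
  have hex : ¬ (p = 2 ∧ f * (2 * (n - 1)) = 6) := by
    rintro ⟨h1, h2⟩
    have h3 : f * (n - 1) = 3 := by
      have : f * (2 * (n - 1)) = 2 * (f * (n - 1)) := by ring
      omega
    have h4 : n - 1 ≤ f * (n - 1) := Nat.le_mul_of_pos_left _ hf
    have h5 : n = 4 := by omega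
    subst h5
    exact h42 ⟨rfl, h1, by omega⟩
  obtain ⟨r, hr, hrp, hro⟩ := exists_ppd (p := p) (n := f * (2 * n)) hp (by omega) (by omega)
  obtain ⟨s, hs', hsp, hso⟩ := exists_ppd (p := p) (n := f * (2 * (n - 1))) hp (by omega) hex
  have hEr : NoEdge G r p := fun x hx => by
    obtain ⟨y, hy⟩ := hspec x
    exact OrthUnip.pomega_noEdge p (quadMinus (n - 1) F a b) hnd hn hdim hs hr hrp (ne_two_of_order hr (by omega) hro)
      (by rw [hq]; exact orderOf_pow_card hf hro) (Or.inr ⟨even_two_mul n, rfl⟩) (Or.inl rfl) y (hy.trans hx)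
  have hEs : NoEdge G s p := fun x hx => by
    obtain ⟨y, hy⟩ := hspec x
    exact OrthUnip.pomega_noEdge p (quadMinus (n - 1) F a b) hnd hn hdim hs hs' hsp (ne_two_of_order hs' (by omega) hso)
      (by rw [hq]; exact orderOf_pow_card hf hso) (Or.inr ⟨even_two_mul (n - 1), rfl⟩) (Or.inr rfl) y
      (hy.trans hx)
  have hsG : s ∣ Nat.card G := hY.dvd_of_order_BM hs' (by show 2 * n < 2 * (2 * (n - 1)); omega) hso (by
    show 3 ≤ f * (2 * (n - 1)); omega)
  set e := Nat.clog p (2 * n) with he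
  have hme : 2 * n ≤ p ^ e := Nat.le_pow_clog hp.one_lt _
  have hexp : ∀ x : G, ∀ j, orderOf x = p ^ j → j ≤ e := by
    intro x j hx
    obtain ⟨y, hy⟩ := hspec x
    have hι : Fintype.card ((Fin (n - 1) ⊕ Fin (n - 1)) ⊕ Fin 2) = 2 * n := by simp; omega
    have h1 := OrthUnip.pomega_pow_eq_one p (quadMinus (n - 1) F a b) hnd (by omega) hs (c := e) (by omega) (hy.trans hx)
    have h2 := orderOf_dvd_of_pow_eq_one h1
    rw [hy, hx] at h2
    exact (Nat.pow_dvd_pow_iff_le_right hp.one_lt).1 h2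
  have hle : e ≤ n - 1 := Nat.clog_le_of_le_pow ((two_mul_le_pow_two hn).trans (Nat.pow_le_pow_left hp.two_le _))
  have hNN : Art.NN (.DD n) = n * (n - 1) := rfl
  have heN : e + 1 < f * Art.NN (.DD n) := by
    rw [hNN]
    have h1 : n * 3 ≤ n * (n - 1) := Nat.mul_le_mul_left _ (by omega)
    have h3 : n * (n - 1) ≤ f * (n * (n - 1)) := Nat.le_mul_of_pos_left _ hf
    omega
  have hfin : ∀ {K : Subgroup G} (_ : K.Normal) {H : Subgroup (G ⧸ K)},
      (Nat.card H = Nat.card G ∨ ∃ X g, Cfsg.Agent.H365.Near.Exc X (.DD n) p g f ∧ Art.Real X p g (Nat.card H)) →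
      Nat.card H = Nat.card G := by
    intro K _ H h
    rcases h with h | ⟨X, g, h, -⟩
    · exact h
    · exfalso
      rcases h with ⟨-, h, -⟩ | ⟨-, h, -⟩ | ⟨_, -, -, h, -⟩ | ⟨-, h, -⟩ | ⟨-, h, -⟩ | ⟨-, h, -⟩ | ⟨-, h, -⟩ | ⟨-, h, -⟩ <;>
        exact absurd h (by simp)
  by_cases hsm : p = 2 ∧ ((n = 4 ∧ f ≤ 2) ∨ (n = 5 ∧ f = 1))
  · have hcl : ∀ x, 2 * n ≤ p ^ x → e ≤ x := fun x hx => Nat.clog_le_of_le_pow hx
    obtain ⟨K, hK, H, h1, h2, h3⟩ := TwoRow.main' hY hr hro (by show 6 ≤ f * (2 * n); omega)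
      hs' hso (by omega) hsG hEr hEs (lcm_two n (by omega) f hf) hexp heN (by
        intro S _ _ _ hna δ h1 h2 _ hd h5 har hbs
        right
        have hknown := Cfsg.Agent.S0000.result (G := S)
        have hpS : ∀ k, k + δ ≤ f * Art.NN (.DD n) → p ^ k ∣ Nat.card S := fun k hk =>
          (pow_dvd_pow p (by omega)).trans (Nat.ordProj_dvd (Nat.card S) p)
        rw [hNN] at hpS
        obtain ⟨rfl, ⟨rfl, hf2⟩ | ⟨rfl, rfl⟩⟩ := hsm
        · obtain rfl : f = 2 := by
            have : f ≠ 1 := fun h => h42 ⟨rfl, rfl, h⟩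
            omega
          have := hcl 3 (by norm_num)
          exact dd44 table hknown hna hY hd (hpS 20 (by omega))
        · have := hcl 4 (by norm_num)
          rcases dd52 table hknown hna hY hd (hpS 15 (by omega)) with h | h | h
          · exact h
          · exfalso
            have h7 : (Nat.card S).factorization 2 = 16 := by
              rw [h]; exact PSUFour.fac_of Nat.prime_two (by norm_num) (by norm_num) (by norm_num)
            have hr11 : r = 11 := by
              apply PSUFour.r_eleven hr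
              intro m
              rw [Cfsg.Agent.Lib.Zsigmondy.dvd_pow_sub_one_iff hp.one_le, hro]
            rw [hr11, h] at har
            have h8 := har (by norm_num)
            rw [← h, h7] at h8
            exact absurd h8 (by show ¬ 1 * 10 ∣ 16; norm_num)
          · exfalso
            have h7 : (Nat.card S).factorization 2 = 15 := by
              rw [h]; exact PSUFour.fac_of Nat.prime_two (by norm_num) (by norm_num) (by norm_num)
            have hs17 : s = 17 := by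
              have h8 : s ∣ 3 * 5 * 17 := (Cfsg.Agent.Lib.Zsigmondy.dvd_pow_sub_one_iff (a := 2) hp.one_le 8).2 (by rw [hso])
              rcases hs'.dvd_mul.1 h8 with h9 | h9
              · exfalso
                have h10 : s ∣ 2 ^ 4 - 1 := h9
                rw [Cfsg.Agent.Lib.Zsigmondy.dvd_pow_sub_one_iff (a := 2) hp.one_le, hso] at h10
                exact absurd h10 (by norm_num)
              · exact (Nat.prime_dvd_prime_iff_eq hs' (by norm_num)).1 h9
            rw [hs17, h] at hbs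
            have h8 := hbs (by norm_num)
            rw [← h, h7] at h8
            exact absurd h8 (by norm_num))
    exact ⟨K, hK, H, h1, h2, hfin hK h3⟩
  · obtain ⟨K, hK, H, h1, h2, h3⟩ := TwoRow.main (A := f * (n * (2 * n - 1))) hY hr hro (by show 6 ≤ f * (2 * n); omega)
      hs' hso (by omega) hsG hEr hEs (lcm_two n (by omega) f hf) hexp heN (card_le_minus hY)
      (fun δ h1 h2 => bounds hp hn hf h1 h2 hsm)
    exact ⟨K, hK, H, h1, h2, hfin hK h3⟩

theorem lcm_odd (n : ℕ) (hn : 2 ≤ n) (ho : Odd n) (f : ℕ) (hf : 1 ≤ f) :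
    f * (n * (n - 1)) < Nat.lcm (f * (2 * (n - 1))) (f * n) := by
  rw [Nat.lcm_mul_left]
  have h1 : Nat.lcm (2 * (n - 1)) n = 2 * (n - 1) * n := by
    apply Nat.Coprime.lcm_eq_mul
    apply Nat.Coprime.mul_left
    · exact Nat.coprime_two_left.2 ho
    · rw [Nat.coprime_iff_gcd_eq_one, ← Nat.dvd_one]
      have h2 := Nat.gcd_dvd_right (n - 1) n
      have h3 := Nat.gcd_dvd_left (n - 1) n
      have h4 := (Nat.dvd_sub h2 h3)
      rwa [show n - (n - 1) = 1 by omega] at h4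
  rw [h1]
  have h2 : 0 < n * (n - 1) := Nat.mul_pos (by omega) (by omega)
  nlinarith

/-- **The structure of a group with the order and element orders of `PΩ⁺(2n, q)`, `n` odd.** -/
theorem plus_core {G : Type u} [Group G] [Finite G] {n p f : ℕ} (hp : p.Prime)
    (hf : 1 ≤ f) (hF : Fintype.card F = p ^ f) (hn : 5 ≤ n) (hodd : Odd n)
    (hspec : ∀ x : G, ∃ y : POmega F (quadFormPlus n F), orderOf y = orderOf x)
    (hcard : Nat.card G = Nat.card (POmega F (quadFormPlus n F))) :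
    ∃ (K : Subgroup G) (_ : K.Normal) (H : Subgroup (G ⧸ K)), IsSimpleGroup H ∧ (¬ ∀ x y : H, x * y = y * x) ∧
      Nat.card H = Nat.card G := by
  have hpF : Fact p.Prime := ⟨hp⟩
  have hchar : CharP F p := OutLie.charP_of_card hp (f := f) (by omega) hF
  have hY : Art.Real (.D n) p f (Nat.card G) := by rw [hcard]; exact oplus_real hp hf hF (by omega)
  have hdim : finrank F (Fin n ⊕ Fin n → F) = 2 * n := by simp; ring
  have hnd := quadPlus_nondegenerate (m := n) (F := F)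
  have hs := quadPlus_sing (F := F) (n := n) (by omega)
  rw [← coe_quadPlus] at hspec
  have hq : Nat.card F = p ^ f := by rw [Nat.card_eq_fintype_card, hF]
  have h8 : 8 ≤ f * (2 * (n - 1)) := by
    have : 4 ≤ n - 1 := by omega
    nlinarith
  have h5 : 5 ≤ f * n := by nlinarith
  have hex : ¬ (p = 2 ∧ f * n = 6) := by
    rintro ⟨-, h2⟩
    have h3 : n ∣ 6 := Dvd.intro_left _ h2
    have h4 := Nat.le_of_dvd (by norm_num) h3
    have h7 : n = 5 ∨ n = 6 := by omega
    rcases h7 with rfl | rfl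
    · norm_num at h3
    · exact absurd hodd (by decide)
  obtain ⟨r, hr, hrp, hro⟩ := exists_ppd (p := p) (n := f * (2 * (n - 1))) hp (by omega) (by omega)
  obtain ⟨s, hs', hsp, hso⟩ := exists_ppd (p := p) (n := f * n) hp (by omega) hex
  have hEr : NoEdge G r p := fun x hx => by
    obtain ⟨y, hy⟩ := hspec x
    exact OrthUnip.pomega_noEdge p (quadPlus n F) hnd (by omega) hdim hs hr hrp (ne_two_of_order hr (by omega) hro)
      (by rw [hq]; exact orderOf_pow_card hf hro) (Or.inr ⟨even_two_mul (n - 1), rfl⟩) (Or.inr rfl) y (hy.trans hx)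
  have hEs : NoEdge G s p := fun x hx => by
    obtain ⟨y, hy⟩ := hspec x
    exact OrthUnip.pomega_noEdge p (quadPlus n F) hnd (by omega) hdim hs hs' hsp (ne_two_of_order hs' (by omega) hso)
      (by rw [hq]; exact orderOf_pow_card hf hso) (Or.inl ⟨hodd, rfl⟩) (Or.inl rfl) y (hy.trans hx)
  have hsG : s ∣ Nat.card G := by
    apply hY.dvd_of_dvd_num hs'
    · intro h
      have h1 : s ∣ 4 := h.trans (Nat.gcd_dvd_left _ _)
      have h2 : s ∣ 2 ^ 2 := h1
      exact ne_two_of_order hs' (by omega) hso ((Nat.prime_dvd_prime_iff_eq hs' Nat.prime_two).1 (hs'.dvd_of_dvd_pow h2))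
    · refine Dvd.dvd.mul_right ?_ _
      exact (Art.dvd_iff hp n).2 (by rw [hso])
  set e := Nat.clog p (2 * n) with he
  have hme : 2 * n ≤ p ^ e := Nat.le_pow_clog hp.one_lt _
  have hexp : ∀ x : G, ∀ j, orderOf x = p ^ j → j ≤ e := by
    intro x j hx
    obtain ⟨y, hy⟩ := hspec x
    have hι : Fintype.card (Fin n ⊕ Fin n) = 2 * n := by simp; omega
    have h1 := OrthUnip.pomega_pow_eq_one p (quadPlus n F) hnd (by omega) hs (c := e) (by omega) (hy.trans hx)
    have h2 := orderOf_dvd_of_pow_eq_one h1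
    rw [hy, hx] at h2
    exact (Nat.pow_dvd_pow_iff_le_right hp.one_lt).1 h2
  have hle : e ≤ n - 1 := Nat.clog_le_of_le_pow ((two_mul_le_pow_two (by omega)).trans (Nat.pow_le_pow_left hp.two_le _))
  have hNN : Art.NN (.D n) = n * (n - 1) := rfl
  have heN : e + 1 < f * Art.NN (.D n) := by
    rw [hNN]
    have h1 : n * 3 ≤ n * (n - 1) := Nat.mul_le_mul_left _ (by omega)
    have h3 : n * (n - 1) ≤ f * (n * (n - 1)) := Nat.le_mul_of_pos_left _ hf
    omega
  have hfin : ∀ {K : Subgroup G} (_ : K.Normal) {H : Subgroup (G ⧸ K)},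
      (Nat.card H = Nat.card G ∨ ∃ X g, Cfsg.Agent.H365.Near.Exc X (.D n) p g f ∧ Art.Real X p g (Nat.card H)) →
      Nat.card H = Nat.card G := by
    intro K _ H h
    rcases h with h | ⟨X, g, h, -⟩
    · exact h
    · exfalso
      rcases h with ⟨-, h, -⟩ | ⟨-, h, -⟩ | ⟨_, -, -, h, -⟩ | ⟨-, h, -⟩ | ⟨-, h, -⟩ | ⟨-, h, -⟩ | ⟨-, h, -⟩ | ⟨-, h, -⟩ <;>
        exact absurd h (by simp)
  by_cases hsm : p = 2 ∧ ((n = 4 ∧ f ≤ 2) ∨ (n = 5 ∧ f = 1))
  · have hcl : ∀ x, 2 * n ≤ p ^ x → e ≤ x := fun x hx => Nat.clog_le_of_le_pow hx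
    obtain ⟨K, hK, H, h1, h2, h3⟩ := TwoRow.main' hY hr hro (by show 6 ≤ f * (2 * (n - 1)); omega)
      hs' hso (by omega) hsG hEr hEs (lcm_odd n (by omega) hodd f hf) hexp heN (by
        intro S _ _ _ hna δ h1 h2 _ hd h5 har hbs
        right
        have hknown := Cfsg.Agent.S0000.result (G := S)
        have hpS : ∀ k, k + δ ≤ f * Art.NN (.D n) → p ^ k ∣ Nat.card S := fun k hk =>
          (pow_dvd_pow p (by omega)).trans (Nat.ordProj_dvd (Nat.card S) p)
        rw [hNN] at hpS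
        obtain ⟨rfl, ⟨rfl, hf2⟩ | ⟨rfl, rfl⟩⟩ := hsm
        · omega
        · have := hcl 4 (by norm_num)
          have key : Nat.card S = 47377612800 → False := by
            intro h
            have h7 : (Nat.card S).factorization 2 = 16 := by
              rw [h]; exact PSUFour.fac_of Nat.prime_two (by norm_num) (by norm_num) (by norm_num)
            have hs31 : s = 31 := by
              have h8 : s ∣ 31 := (Cfsg.Agent.Lib.Zsigmondy.dvd_pow_sub_one_iff (a := 2) hp.one_le 5).2 (by rw [hso])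
              exact (Nat.prime_dvd_prime_iff_eq hs' (by norm_num)).1 h8
            rw [hs31, h] at hbs
            have h8 := hbs (by norm_num)
            rw [← h, h7] at h8
            exact absurd h8 (by norm_num)
          rcases d52 table hknown hna hY hd (hpS 15 (by omega)) with h | h | h
          · exact h
          · exact (key h).elim
          · exact (key h).elim)
    exact ⟨K, hK, H, h1, h2, hfin hK h3⟩
  · obtain ⟨K, hK, H, h1, h2, h3⟩ := TwoRow.main (A := f * (n * (2 * n - 1))) hY hr hro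
      (by show 6 ≤ f * (2 * (n - 1)); omega)
      hs' hso (by omega) hsG hEr hEs (lcm_odd n (by omega) hodd f hf) hexp heN (card_le_plus hY)
      (fun δ h1 h2 => bounds hp (by omega) hf h1 h2 hsm)
    exact ⟨K, hK, H, h1, h2, hfin hK h3⟩

end Cfsg.Agent.H364.OrthRow
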