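import Mathlib
import Cfsg.Agent.H364.Iso3
import Cfsg.Agent.H364.OrthRow
import Cfsg.Agent.H403.SpEvenFinal
import Cfsg.Agent.S2469

/-!
# The groups with the order and the element orders of `PΩ⁻(8, 2)` (helper364)
-/

set_option autoImplicit false
set_option linter.style.haveILetI false

namespace Cfsg.Agent.H364.MinusEight

open Subgroup Cfsg Cfsg.Agent.OrdDiv Module
open Cfsg.Agent.LieClassical.OmegaReindex Cfsg.Agent.H150 Cfsg.Agent.H420.Lift

universe u v

/-- elements of odd order of `PΩ(Q)`, `q` even, give elements of `PSp` of the same order -/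
theorem exists_psp {F : Type v} [Field F] [Finite F] [CharP F 2] {ι : Type} [Fintype ι] [DecidableEq ι]
    (Q : QuadraticForm F (ι → F)) (hQ : (QuadraticMap.polarBilin Q).Nondegenerate) {n : ℕ} (hn : 2 ≤ n)
    (hι : Fintype.card ι = 2 * n) (hs : ∃ u : ι → F, u ≠ 0 ∧ Q u = 0) {N : ℕ} (hN : Odd N)
    (x : POmega F ⇑Q) (hx : orderOf x = N) : ∃ g : PSp n F, orderOf g = N := by
  obtain ⟨b, -, hb⟩ := exists_lift Q hQ (by omega) hs hN hx
  obtain ⟨M, hM⟩ := Cfsg.Agent.H403.exists_symplectic_of_quad Q (fun u hu => hQ.1 u hu) (n := n)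
    (by rw [Module.finrank_fintype_fun_eq_card, hι]) (opHom (⇑Q) (b : isometryGroup F ⇑Q)) (fun v => opHom_iso _ _ v)
  refine (Cfsg.Agent.H403.mem_range_PSp (by omega) N).2 ⟨M, ?_⟩
  rw [hM, orderOf_injective _ (opHom_injective _), Subgroup.orderOf_coe, hb]

theorem ord_two {r k : ℕ} (hk : 0 < k) (h1 : (2 : ZMod r) ^ k = 1) (h2 : ∀ m, m < k → 0 < m → (2 : ZMod r) ^ m ≠ 1) :
    orderOf ((2 : ℕ) : ZMod r) = k := by
  rw [Nat.cast_ofNat]
  exact (orderOf_eq_iff hk).2 ⟨h1, h2⟩

theorem ord17 : orderOf ((2 : ℕ) : ZMod 17) = 8 := ord_two (by norm_num) (by decide) (by decide)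
theorem ord3 : orderOf ((2 : ℕ) : ZMod 3) = 2 := ord_two (by norm_num) (by decide) (by decide)
theorem ord5 : orderOf ((2 : ℕ) : ZMod 5) = 4 := ord_two (by norm_num) (by decide) (by decide)
theorem ord7 : orderOf ((2 : ℕ) : ZMod 7) = 3 := ord_two (by norm_num) (by decide) (by decide)

theorem noEdge {F : Type v} [Field F] [Fintype F] (hF : Fintype.card F = 2) {a b : F}
    (hab : ∀ z₁ z₂ : F, z₁ ^ 2 + a * z₁ * z₂ + b * z₂ ^ 2 = 0 → z₁ = 0 ∧ z₂ = 0) {s : ℕ}
    (hs : s = 2 ∨ s = 3 ∨ s = 5 ∨ s = 7) : NoEdge (POmega F (quadFormMinus (4 - 1) F a b)) 17 s := by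
  have hF2 : Fact (Nat.Prime 2) := ⟨Nat.prime_two⟩
  have hchar : CharP F 2 := OutLie.charP_of_card Nat.prime_two (f := 1) (by omega) (by rw [hF, pow_one])
  have hdim : finrank F ((Fin (4 - 1) ⊕ Fin (4 - 1)) ⊕ Fin 2 → F) = 2 * 4 := by simp
  have hι : Fintype.card ((Fin (4 - 1) ⊕ Fin (4 - 1)) ⊕ Fin 2) = 2 * 4 := by simp
  have hnd := quadMinus_nondegenerate (m := 4 - 1) (F := F) hab
  have hsing := quadMinus_sing (F := F) (n := 4 - 1) (by norm_num) a b
  rw [← coe_quadMinus]
  have hq : Nat.card F = 2 := by rw [Nat.card_eq_fintype_card, hF]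
  by_cases h2 : s = 2
  · subst h2
    exact OrthUnip.pomega_noEdge 2 (quadMinus (4 - 1) F a b) hnd le_rfl hdim hsing (r := 17) (by norm_num) (by norm_num)
      (by norm_num) (by rw [hq]; exact ord17) (Or.inr ⟨by decide, rfl⟩) (Or.inl rfl)
  · intro x hx
    have hsp : s.Prime := by rcases hs with rfl | rfl | rfl | rfl <;> norm_num
    have h17 : (17 : ℕ).Prime := by norm_num
    have hodd : Odd (17 * s) := (by decide : Odd 17).mul (hsp.odd_of_ne_two h2)
    obtain ⟨g, hg⟩ := exists_psp (quadMinus (4 - 1) F a b) hnd (n := 4) (by norm_num) hι hsing hodd x hx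
    have hd17 : 17 ∣ Nat.card (PSp 4 F) := (Dvd.intro _ rfl).trans (hg ▸ orderOf_dvd_natCard g)
    have hds : s ∣ Nat.card (PSp 4 F) := (Dvd.intro_left _ rfl).trans (hg ▸ orderOf_dvd_natCard g)
    have key : ∀ k ηk : ℕ, orderOf ((2 : ℕ) : ZMod s) = k → ((Odd k ∧ ηk = k) ∨ (Even k ∧ 2 * ηk = k)) → 1 ≤ ηk → ηk ≤ 3 →
        (¬ ∃ t : ℕ, Odd t ∧ 8 = k * t) → False := by
      intro k ηk h3 h4 h5 h6 h7
      refine (Cfsg.Agent.S2469.result (F := F) 2 4 (by norm_num) (by norm_num) s 17 hsp h17 h2 (by norm_num) h2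
        (by norm_num) (by rcases hs with rfl | rfl | rfl | rfl <;> norm_num) hds hd17 k 8 ηk 4 (by rw [hF]; exact h3.symm)
        (by rw [hF]; exact ord17.symm) h4 (Or.inr ⟨by decide, rfl⟩) (by omega)).2 ⟨by omega, h7⟩ ⟨g, by rw [hg, mul_comm]⟩
    rcases hs with rfl | rfl | rfl | rfl
    · exact h2 rfl
    · refine key 2 1 ord3 (Or.inr ⟨by decide, rfl⟩) le_rfl (by norm_num) ?_
      rintro ⟨t, ⟨c, rfl⟩, h⟩
      omega
    · refine key 4 2 ord5 (Or.inr ⟨by decide, rfl⟩) (by norm_num) (by norm_num) ?_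
      rintro ⟨t, ⟨c, rfl⟩, h⟩
      omega
    · refine key 3 3 ord7 (Or.inl ⟨by decide, rfl⟩) (by norm_num) (by norm_num) ?_
      rintro ⟨t, ⟨c, rfl⟩, h⟩
      omega

theorem check : (cands [(2, 12), (3, 4), (5, 1), (7, 1), (17, 1)] 197406720).all
    (fun g => (ordN g % 48195 != 0) || ordN g == 197406720) = true := by decide +kernel

/-- **The structure.** -/
theorem core {G : Type u} [Group G] [Finite G] {F : Type v} [Field F] [Fintype F] (hF : Fintype.card F = 2) {a b : F}
    (hab : ∀ z₁ z₂ : F, z₁ ^ 2 + a * z₁ * z₂ + b * z₂ ^ 2 = 0 → z₁ = 0 ∧ z₂ = 0)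
    (hspec : ∀ x : G, ∃ y : POmega F (quadFormMinus (4 - 1) F a b), orderOf y = orderOf x)
    (hcard : Nat.card G = Nat.card (POmega F (quadFormMinus (4 - 1) F a b))) :
    ∃ (K : Subgroup G) (_ : K.Normal) (H : Subgroup (G ⧸ K)), IsSimpleGroup H ∧ (¬ ∀ x y : H, x * y = y * x) ∧
      Nat.card H = Nat.card G := by
  have hG : Nat.card G = 197406720 := by
    have hY : H902.Art.Real (.DD 4) 2 1 (Nat.card G) := by
      rw [hcard]; exact OrthRow.ominus_real Nat.prime_two le_rfl (by rw [hF, pow_one]) le_rfl hab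
    have h1 := hY.eq
    rw [show (2 ^ 1) ^ H902.Art.NN (.DD 4) * H902.Art.num (.DD 4) (2 ^ 1) = H902.Art.dd (.DD 4) (2 ^ 1) * 197406720 by
      decide +kernel] at h1
    exact Nat.eq_of_mul_eq_mul_left (Nat.pos_of_ne_zero hY.dd_ne) h1
  have h17 : Nat.Prime 17 := by norm_num
  have hF17 : Fact (Nat.Prime 17) := ⟨h17⟩
  have h17G : 17 ∣ Nat.card G := by rw [hG]; norm_num
  have hprimes : ∀ s : ℕ, s.Prime → s ∣ 197406720 → s = 2 ∨ s = 3 ∨ s = 5 ∨ s = 7 ∨ s = 17 := by
    intro s hs h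
    have h1 : s ∣ 2 ^ 12 * 3 ^ 4 * 5 * 7 * 17 := h
    rcases hs.dvd_mul.1 h1 with h2 | h2
    · rcases hs.dvd_mul.1 h2 with h3 | h3
      · rcases hs.dvd_mul.1 h3 with h4 | h4
        · rcases hs.dvd_mul.1 h4 with h5 | h5
          · exact Or.inl ((Nat.prime_dvd_prime_iff_eq hs Nat.prime_two).1 (hs.dvd_of_dvd_pow h5))
          · exact Or.inr (Or.inl ((Nat.prime_dvd_prime_iff_eq hs Nat.prime_three).1 (hs.dvd_of_dvd_pow h5)))
        · exact Or.inr (Or.inr (Or.inl ((Nat.prime_dvd_prime_iff_eq hs Nat.prime_five).1 h4)))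
      · exact Or.inr (Or.inr (Or.inr (Or.inl ((Nat.prime_dvd_prime_iff_eq hs (by norm_num)).1 h3))))
    · exact Or.inr (Or.inr (Or.inr (Or.inr ((Nat.prime_dvd_prime_iff_eq hs h17).1 h2))))
  have hEs : ∀ s : ℕ, s.Prime → ¬ s ∣ 17 → NoEdge G 17 s := by
    intro s hs hs17 x hx
    have h1 : 17 * s ∣ 197406720 := by rw [← hG, ← hx]; exact orderOf_dvd_natCard x
    have h2 := hprimes s hs ((Dvd.intro_left _ rfl).trans h1)
    obtain ⟨y, hy⟩ := hspec x
    refine noEdge hF hab ?_ y (hy.trans hx)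
    rcases h2 with h | h | h | h | h
    · exact Or.inl h
    · exact Or.inr (Or.inl h)
    · exact Or.inr (Or.inr (Or.inl h))
    · exact Or.inr (Or.inr (Or.inr h))
    · exact absurd (by rw [h]) hs17
  obtain ⟨t, ht⟩ := exists_prime_orderOf_dvd_card' 17 h17G
  have hIso : Isol G (zpowers t) 17 := by
    refine ⟨inferInstance, by rw [Nat.card_zpowers, ht], by rw [hG]; norm_num, ?_⟩
    intro r s hr hs hr5 hs5
    have : r = 17 := (Nat.prime_dvd_prime_iff_eq hr h17).1 hr5
    subst this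
    exact hEs s hs hs5
  obtain ⟨K, hKn, n, hK17, hKt, hn, hcases⟩ := hIso.struct (by norm_num) (by norm_num)
  obtain ⟨hn1, hn2⟩ := hn 17 h17 dvd_rfl
  have hn4 : n = 4 := by
    have h1 : n ≤ 16 := Nat.le_of_dvd (by norm_num) hn1
    rw [hG] at hn2
    interval_cases n <;> revert hn1 hn2 <;> decide
  subst hn4
  have hKG : Nat.card K * (Nat.card (G ⧸ K)) = 197406720 := by
    rw [← hG, ← Subgroup.card_mul_index K, Subgroup.index_eq_card]
  have hKd : Nat.card K ∣ 197406720 := Dvd.intro _ hKG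
  have h17K : ¬ 17 ∣ Nat.card K := fun h => by
    have := Nat.dvd_gcd h (dvd_refl 17)
    rw [hK17] at this
    norm_num at this
  have hK2 : ∀ s : ℕ, s.Prime → s ∣ Nat.card K → s = 2 := by
    intro s hs h
    have hpos : 0 < (Nat.card K).factorization s := hs.factorization_pos_of_dvd Nat.card_pos.ne' h
    have hle := (Nat.factorization_le_iff_dvd Nat.card_pos.ne' (by norm_num)).2 hKd s
    have h1 := hKt s hs
    rcases hprimes s hs (h.trans hKd) with rfl | rfl | rfl | rfl | rfl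
    · rfl
    · exfalso
      have e : (197406720 : ℕ).factorization 3 = 4 :=
        PSUFour.fac_of Nat.prime_three (by norm_num) (by norm_num) (by norm_num)
      rw [e] at hle
      interval_cases h5 : (Nat.card K).factorization 3 <;> norm_num at h1
    · exfalso
      have e : (197406720 : ℕ).factorization 5 = 1 :=
        PSUFour.fac_of Nat.prime_five (by norm_num) (by norm_num) (by norm_num)
      rw [e] at hle
      interval_cases h5 : (Nat.card K).factorization 5 <;> norm_num at h1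
    · exfalso
      have e : (197406720 : ℕ).factorization 7 = 1 :=
        PSUFour.fac_of (by norm_num) (by norm_num) (by norm_num) (by norm_num)
      rw [e] at hle
      interval_cases h5 : (Nat.card K).factorization 7 <;> norm_num at h1
    · exact absurd h h17K
  obtain ⟨c, hc⟩ : ∃ c, Nat.card K = 2 ^ c := by
    refine ⟨(Nat.card K).factorization 2, ?_⟩
    conv_lhs => rw [← Nat.prod_factorization_pow_eq_self (Nat.card_pos (α := K)).ne']
    rw [Finsupp.prod_eq_single 2]
    · intro s hs hs2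
      exfalso
      exact hs2 (hK2 s (Nat.prime_of_mem_primeFactors (Finsupp.mem_support_iff.2 hs |> fun h => by simpa using h))
        (Nat.dvd_of_mem_primeFactors (by simpa using Finsupp.mem_support_iff.2 hs)))
    · intro _; rfl
  rcases hcases with h | ⟨N, hNn, hNs, hNna, hNc, h17N, n', hn', hnn⟩
  · exfalso
    rw [hG, hc] at h
    have h3 : 3 ∣ 2 ^ c := by
      have h4 : 2 ^ c = 2903040 := by omega
      rw [h4]; norm_num
    have := (Nat.prime_dvd_prime_iff_eq Nat.prime_three Nat.prime_two).1 (Nat.prime_three.dvd_of_dvd_pow h3)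
    omega
  · have hN : Nat.card N * N.index = Nat.card (G ⧸ K) := Subgroup.card_mul_index N
    have hNd : Nat.card N ∣ 197406720 := by
      rw [← hKG, ← hN]
      exact (Dvd.intro _ rfl).trans (Dvd.intro_left _ rfl)
    refine ⟨K, hKn, N, hNs, hNna, ?_⟩
    obtain ⟨g, hg, -, hord⟩ := exists_good table (Cfsg.Agent.S0000.result (G := N)) hNna
      (l := [(2, 12), (3, 4), (5, 1), (7, 1), (17, 1)]) (by decide +kernel) hNd
    have hck := check
    rw [List.all_eq_true] at hck
    have h1 := hck g hg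
    rw [← hord] at h1
    simp only [Bool.or_eq_true, bne_iff_ne, beq_iff_eq, ne_eq] at h1
    rcases h1 with h1 | h1
    · exfalso
      apply h1
      apply Nat.mod_eq_zero_of_dvd
      have hidx : N.index ∣ 2 ^ 2 := Dvd.intro_left _ hnn
      have h2 : 48195 ∣ Nat.card K * (Nat.card N * N.index) := by
        rw [hN, hKG]; norm_num
      have h3 : Nat.Coprime 48195 (2 ^ c) := Nat.Coprime.pow_right _ (by norm_num)
      rw [hc] at h2
      have h4 := h3.dvd_of_dvd_mul_left h2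
      have h5 : Nat.Coprime 48195 N.index := Nat.Coprime.coprime_dvd_right hidx (by norm_num)
      exact h5.dvd_of_dvd_mul_right h4
    · rw [h1, hG]

end Cfsg.Agent.H364.MinusEight
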