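import Mathlib
import Cfsg.Agent.H364.LieNam
import Cfsg.Agent.H365.Cube

/-!
# `|S|_p ^ 3 < p ^ c * |S|` for the simple groups not of Lie type in characteristic `p` (helper364)
-/

set_option autoImplicit false

namespace Cfsg.Agent.H364.Slack

open Cfsg Cfsg.Agent.OrdDiv Finset
open Cfsg.Agent.H365.PPart Cfsg.Agent.H365.CubeA Cfsg.Agent.H365.CubeF Cfsg.Agent.H365.CubeR Cfsg.Agent.H365.Cube
  Cfsg.Agent.H365.CubeS

universe u

/-- the exponent of the slack -/
def cc (p : ℕ) : ℕ := if p = 2 then 12 else if p = 3 then 3 else 1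

theorem pt_le_pow {p N k : ℕ} (hp : p.Prime) (hN : N ≠ 0) (h : ¬ p ^ (k + 1) ∣ N) : pt p N ≤ p ^ k := by
  rw [pt]
  apply Nat.pow_le_pow_right hp.pos
  by_contra hcon
  exact h ((hp.pow_dvd_iff_le_factorization hN).2 (by omega))

theorem slack_of {p N k c : ℕ} (hp : p.Prime) (hN : N ≠ 0) (h : ¬ p ^ (k + 1) ∣ N) (h2 : (p ^ k) ^ 3 < p ^ c * N) :
    pt p N ^ 3 < p ^ c * N :=
  (Nat.pow_le_pow_left (pt_le_pow hp hN h) 3).trans_lt h2

theorem psl2_slack {p q G : ℕ} (hp : p.Prime) (hq : 4 ≤ q) (hpq : ¬ p ∣ q) (hG0 : G ≠ 0)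
    (hG : Nat.gcd 2 (q - 1) * G = sA q 1) : pt p G ^ 3 < p ^ (cc p) * G := by
  have n2 := sub_one_ne (q := q) (i := 2) (by omega) (by norm_num)
  have hc2 : Nat.gcd 2 (q - 1) ≤ 2 := Nat.le_of_dvd (by norm_num) (Nat.gcd_dvd_left _ _)
  have hc0 : Nat.gcd 2 (q - 1) ≠ 0 := (Nat.gcd_pos_of_pos_left _ (by norm_num)).ne'
  rw [sA1] at hG
  have hle : q * (q ^ 2 - 1) ≤ 2 * G := by rw [← hG]; exact Nat.mul_le_mul_right _ hc2
  have hpt : pt p (q * (q ^ 2 - 1)) = pt p (q ^ 2 - 1) := pt_mul_of_not_dvd (by omega) n2 hpq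
  have h1 : pt p (Nat.gcd 2 (q - 1)) * pt p G = pt p (q ^ 2 - 1) := by
    rw [← hpt, ← hG, pt_mul p hc0 hG0]
  have h2 : pt p G ≤ q + 1 := by
    by_cases hp2 : p = 2
    · subst hp2
      have hodd : Odd q := Nat.odd_iff.2 (by omega)
      have h3 : Nat.gcd 2 (q - 1) = 2 := Nat.gcd_eq_left (by obtain ⟨c, hc⟩ := hodd; exact ⟨c, by omega⟩)
      have h4 : pt 2 2 = 2 := by have := pt_self_pow (p := 2) (k := 1) Nat.prime_two; simpa using this
      rw [h3, h4] at h1
      have h5 := pt_two_sq_le (q := q) (by omega) hodd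
      omega
    · have h3 := pt_sq_le hp hp2 (x := q) (by omega)
      have h4 := pt_pos p (Nat.gcd 2 (q - 1))
      calc pt p G ≤ pt p (Nat.gcd 2 (q - 1)) * pt p G := Nat.le_mul_of_pos_left _ h4
        _ ≤ q + 1 := by rw [h1]; exact h3
  have h5 : 5 ≤ p ^ (cc p) := by
    unfold cc
    split_ifs with h h'
    · subst h; norm_num
    · subst h'; norm_num
    · have := hp.two_le
      rw [pow_one]
      have h4 : p ≠ 4 := by rintro rfl; norm_num at hp
      omega
  obtain ⟨x, rfl⟩ : ∃ x, q = x + 4 := ⟨q - 4, by omega⟩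
  have h6 : (x + 4) ^ 2 - 1 = (x + 3) * (x + 5) := by
    have : (x + 4) ^ 2 = (x + 3) * (x + 5) + 1 := by ring
    rw [this, Nat.add_sub_cancel]
  rw [h6] at hle
  have h7 : 2 * pt p G ^ 3 ≤ 2 * (x + 5) ^ 3 := Nat.mul_le_mul_left 2 (Nat.pow_le_pow_left h2 3)
  have h8 : 2 * (x + 5) ^ 3 < 5 * ((x + 4) * ((x + 3) * (x + 5))) := by nlinarith [sq_nonneg x, Nat.zero_le (x ^ 3)]
  have h9 : 5 * (2 * G) ≤ p ^ (cc p) * (2 * G) := Nat.mul_le_mul_right _ h5
  have h10 : 2 * (pt p G ^ 3) < 2 * (p ^ (cc p) * G) := by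
    calc 2 * (pt p G ^ 3) < 5 * ((x + 4) * ((x + 3) * (x + 5))) := h7.trans_lt h8
      _ ≤ 5 * (2 * G) := Nat.mul_le_mul_left 5 hle
      _ ≤ p ^ (cc p) * (2 * G) := h9
      _ = 2 * (p ^ (cc p) * G) := by ring
  omega

theorem spor_slack : ∀ x ∈ OrdDiv.spor, big2 x.1 = true →
    ∃ k, ¬ 2 ^ (k + 1) ∣ x.2 ∧ (2 ^ k) ^ 3 < 2 ^ 12 * x.2 := by
  have h : (OrdDiv.spor.all fun x => !big2 x.1 ||
      ((List.range 50).any fun k => (x.2 % 2 ^ (k + 1) != 0) && Nat.blt ((2 ^ k) ^ 3) (2 ^ 12 * x.2))) = true := by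
    decide +kernel
  intro x hx hb
  rw [List.all_eq_true] at h
  have h1 := h x hx
  rw [hb] at h1
  simp only [Bool.not_true, Bool.false_or, List.any_eq_true] at h1
  obtain ⟨k, -, hk⟩ := h1
  rw [Bool.and_eq_true, bne_iff_ne, Nat.blt_eq] at hk
  exact ⟨k, fun hd => hk.1 (Nat.mod_eq_zero_of_dvd hd), hk.2⟩

theorem exc_slack (T : OrderTable.{u}) {G : Type u} [Group G] [Finite G] {p : ℕ} (hp : p.Prime)
    (hlie : ¬ IsLieTypeChar p G) (h : Exc p G) : pt p (Nat.card G) ^ 3 < p ^ (cc p) * Nat.card G := by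
  have hG0 : Nat.card G ≠ 0 := Nat.card_pos.ne'
  rcases h with ⟨n, hn, ⟨e⟩⟩ | ⟨F, _, _, hq, -, ⟨e⟩⟩ | ⟨rfl, F, _, _, hF, ⟨e⟩⟩ | ⟨rfl, F, _, _, hF, ⟨e⟩⟩ |
    ⟨rfl, F, _, _, hF, h⟩ | ⟨rfl, F, _, _, hF, ⟨e⟩⟩ | ⟨rfl, x, hx, hb, hr⟩
  · have h5 : 5 ≤ n := by
      simp only [altEx, Bool.or_eq_true, Bool.and_eq_true, beq_iff_eq] at hn
      omega
    have h1 := alt_card h5 e
    simp only [altEx, Bool.or_eq_true, Bool.and_eq_true, beq_iff_eq] at hn
    have key : ∀ (m N k : ℕ), n = m → m.factorial = 2 * N → ¬ p ^ (k + 1) ∣ N → (p ^ k) ^ 3 < p ^ (cc p) * N →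
        pt p (Nat.card G) ^ 3 < p ^ (cc p) * Nat.card G := by
      intro m N k hm hN h2 h3
      subst hm
      have h4 : Nat.card G = N := by omega
      rw [h4] at hG0 ⊢
      exact slack_of hp hG0 h2 h3
    rcases hn with (⟨rfl, rfl⟩ | ⟨rfl, rfl | rfl⟩) | ⟨rfl, (((rfl | rfl) | rfl) | rfl) | rfl⟩
    · exact key 5 60 1 rfl (by norm_num [Nat.factorial]) (by norm_num) (by norm_num [cc])
    · exact key 6 360 2 rfl (by norm_num [Nat.factorial]) (by norm_num) (by norm_num [cc])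
    · exact key 9 181440 4 rfl (by norm_num [Nat.factorial]) (by norm_num) (by norm_num [cc])
    · exact key 5 60 2 rfl (by norm_num [Nat.factorial]) (by norm_num) (by norm_num [cc])
    · exact key 6 360 3 rfl (by norm_num [Nat.factorial]) (by norm_num) (by norm_num [cc])
    · exact key 8 20160 6 rfl (by norm_num [Nat.factorial]) (by norm_num) (by norm_num [cc])
    · exact key 9 181440 6 rfl (by norm_num [Nat.factorial]) (by norm_num) (by norm_num [cc])
    · exact key 10 1814400 7 rfl (by norm_num [Nat.factorial]) (by norm_num) (by norm_num [cc])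
  · have h1 := psl_eq (F := F) (n := 2) (by norm_num)
    rw [← Nat.card_congr e.toEquiv] at h1
    refine psl2_slack hp hq (fun hd => hlie (Or.inl ?_)) hG0 h1
    exact ⟨F, inferInstance, inferInstance, charP_of_dvd hp hd, 2, le_rfl, fun _ => hq, ⟨e⟩⟩
  · have h1 := psl_eq (F := F) (n := 3) (by norm_num)
    rw [← Nat.card_congr e.toEquiv, hF] at h1
    have h2 : Nat.card G = 168 := by
      have h3 : sA 2 (3 - 1) = 168 := by decide
      rw [h3] at h1
      simpa using h1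
    rw [h2]
    exact slack_of (k := 1) hp (by norm_num) (by norm_num) (by norm_num [cc])
  · have h1 := psu_eq (F := F) (n := 3) (q := 3) (by rw [hF]; norm_num) (by norm_num)
    rw [← Nat.card_congr e.toEquiv] at h1
    have h2 : Nat.card G = 6048 := by
      have h3 : H365.CubeU.sU 3 (3 - 1) = 6048 := by decide +kernel
      rw [h3] at h1
      simpa using h1
    rw [h2]
    exact slack_of (k := 5) hp (by norm_num) (by norm_num) (by norm_num [cc])
  · rcases h with ⟨⟨e⟩⟩ | ⟨⟨e⟩⟩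
    · have h1 := psu_eq (F := F) (n := 4) (q := 2) (by rw [hF]; norm_num) (by norm_num)
      rw [← Nat.card_congr e.toEquiv] at h1
      have h2 : Nat.card G = 25920 := by
        have h3 : H365.CubeU.sU 2 (4 - 1) = 25920 := by decide +kernel
        rw [h3] at h1
        simpa using h1
      rw [h2]
      exact slack_of (k := 4) hp (by norm_num) (by norm_num) (by norm_num [cc])
    · have h1 := psu_eq (F := F) (n := 5) (q := 2) (by rw [hF]; norm_num) (by norm_num)
      rw [← Nat.card_congr e.toEquiv] at h1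
      have h2 : Nat.card G = 13685760 := by
        have h3 : H365.CubeU.sU 2 (5 - 1) = 13685760 := by decide +kernel
        rw [h3] at h1
        simpa using h1
      rw [h2]
      exact slack_of (k := 5) hp (by norm_num) (by norm_num) (by norm_num [cc])
  · have h1 := psp_eq (F := F) (m := 2) (by norm_num)
    rw [← Nat.card_congr e.toEquiv, hF] at h1
    have h2 : Nat.card G = 25920 := by
      have h3 : H365.CubeC.tC 3 2 = 51840 := by decide +kernel
      rw [h3] at h1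
      norm_num at h1
      omega
    rw [h2]
    exact slack_of (k := 6) hp (by norm_num) (by norm_num) (by norm_num [cc])
  · obtain ⟨k, h1, h2⟩ := spor_slack x hx hb
    have h3 := T.spor G x hx hr
    rw [h3] at hG0 ⊢
    exact slack_of hp hG0 h1 (by simpa [cc] using h2)

/-- **`|S|_p ^ 3 < p ^ (cc p) * |S|`** for the known simple groups not of Lie type in characteristic `p`. -/
theorem known_slack (T : OrderTable.{u}) {G : Type u} [Group G] [Finite G] (h : IsKnownSimple' G)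
    (hna : ¬ ∀ a b : G, a * b = b * a) {p : ℕ} (hp : p.Prime) :
    IsLieTypeChar p G ∨ pt p (Nat.card G) ^ 3 < p ^ (cc p) * Nat.card G := by
  by_cases hl : IsLieTypeChar p G
  · exact Or.inl hl
  right
  rcases known_cube T h hna hp with h1 | h1 | h1
  · have h2 : 1 < p ^ cc p := Nat.one_lt_pow (by unfold cc; split_ifs <;> norm_num) hp.one_lt
    calc _ ≤ Nat.card G := h1
      _ = 1 * Nat.card G := (one_mul _).symm
      _ < _ := Nat.mul_lt_mul_of_pos_right h2 Nat.card_pos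
  · exact absurd h1 hl
  · exact exc_slack T hp hl h1

end Cfsg.Agent.H364.Slack
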