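import Mathlib
import Cfsg.Agent.H364.UnitaryP
import Cfsg.Agent.ClassicalGeometry.HermOrthonormal

/-!
# The cyclic torus of order `(q ^ n + 1) / (q + 1)` of `SU n F q`, `n` odd (helper364)
-/

set_option autoImplicit false

namespace Cfsg.Agent.H364.UTorus

open Matrix Cfsg Cfsg.Agent.H364.Unitary

variable {F : Type*} [Field F] [Fintype F] {n q : ℕ}

/-- the ring endomorphism `x ↦ x ^ Q`, `Q` a power of the characteristic -/
theorem exists_frob (K : Type*) [Field K] (p : ℕ) [Fact p.Prime] [CharP K p] (k : ℕ) :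
    ∃ τ : K →+* K, ∀ x, τ x = x ^ (p ^ k) :=
  ⟨iterateFrobenius K p k, fun x => by rw [iterateFrobenius_def]⟩

theorem pow_odd (hF : Fintype.card F = q ^ 2) (hn : Odd n) (a : F) : a ^ (q ^ n) = a ^ q := by
  obtain ⟨k, rfl⟩ := hn
  have h : ∀ j : ℕ, a ^ (q ^ (2 * j)) = a := by
    intro j
    induction j with
    | zero => simp
    | succ j ih =>
      rw [show q ^ (2 * (j + 1)) = q ^ (2 * j) * q ^ 2 by ring, pow_mul, ih, ← hF, FiniteField.pow_card]
  rw [pow_succ, pow_mul, h]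

/-- arithmetic of the torus -/
theorem torus_dvd (hn : Odd n) : (q + 1) * ((q ^ n + 1) / (q + 1)) = q ^ n + 1 := by
  apply Nat.mul_div_cancel'
  have := hn.nat_add_dvd_pow_add_pow q 1
  rwa [one_pow] at this

theorem torus_sum (hq : 2 ≤ q) (hn : Odd n) :
    ∑ i ∈ Finset.range n, (q ^ 2) ^ i = (q ^ n + 1) / (q + 1) * ∑ i ∈ Finset.range n, q ^ i := by
  have h1 := torus_dvd (q := q) hn
  have h2 : (∑ i ∈ Finset.range n, (q ^ 2) ^ i) * (q ^ 2 - 1) = (q ^ 2) ^ n - 1 := by
    have hq2 : 2 ≤ q ^ 2 := by nlinarith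
    have h := Nat.geomSum_eq hq2 n
    rw [h, Nat.div_mul_cancel]
    simpa using Nat.sub_dvd_pow_sub_pow (q ^ 2) 1 n
  have h3 : (∑ i ∈ Finset.range n, q ^ i) * (q - 1) = q ^ n - 1 := by
    have h := Nat.geomSum_eq hq n
    rw [h, Nat.div_mul_cancel]
    simpa using Nat.sub_dvd_pow_sub_pow q 1 n
  have h4 : q ^ 2 - 1 = (q - 1) * (q + 1) := by
    have := Nat.sq_sub_sq q 1
    rw [one_pow] at this
    rw [this, mul_comm]
  have h5 : (q ^ 2) ^ n - 1 = (q ^ n - 1) * (q ^ n + 1) := by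
    have := Nat.sq_sub_sq (q ^ n) 1
    rw [one_pow] at this
    rw [← pow_mul, mul_comm 2 n, pow_mul, this, mul_comm]
  have h6 : 0 < q ^ 2 - 1 := by
    have : 4 ≤ q ^ 2 := by nlinarith
    omega
  apply Nat.eq_of_mul_eq_mul_right h6
  rw [h2, h5, ← h3]
  generalize (q ^ n + 1) / (q + 1) = M at h1 ⊢
  rw [← h1, h4]
  ring

/-- the hermitian form `Tr (x ^ (q ^ n) * y)` -/
theorem exists_form (hF : Fintype.card F = q ^ 2) (hn : Odd n) (K : Type*) [Field K] [Finite K] [Algebra F K]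
    (hK : Module.finrank F K = n) {σ : F →+* F} (hσ : ∀ x, σ x = x ^ q) {τ : K →+* K}
    (hτ : ∀ x, τ x = x ^ (q ^ n)) :
    ∃ B : K →ₛₗ[σ] K →ₗ[F] F, B.IsSymm ∧ B.SeparatingLeft ∧
      ∀ a x y : K, a * τ a = 1 → B (a * x) (a * y) = B x y := by
  have hFc : Nat.card F = q ^ 2 := by rw [← hF, Nat.card_eq_fintype_card]
  have hcompat : ∀ c : F, τ (algebraMap F K c) = algebraMap F K (σ c) := by
    intro c
    rw [hτ, hσ, ← map_pow, pow_odd hF hn]
  have hττ : ∀ x : K, τ (τ x) = x := by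
    intro x
    have := Fintype.ofFinite K
    rw [hτ, hτ, ← pow_mul, ← pow_two, ← pow_mul, mul_comm n 2, pow_mul, ← hFc, ← hK,
      ← Module.natCard_eq_pow_finrank, Nat.card_eq_fintype_card, FiniteField.pow_card]
  have htr : ∀ z : K, σ (Algebra.trace F K z) = Algebra.trace F K (τ z) := by
    intro z
    apply (algebraMap F K).injective
    rw [← hcompat, FiniteField.algebraMap_trace_eq_sum_pow, FiniteField.algebraMap_trace_eq_sum_pow, map_sum]
    exact Finset.sum_congr rfl fun i _ => by rw [map_pow]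
  let B : K →ₛₗ[σ] K →ₗ[F] F := LinearMap.mk₂'ₛₗ σ (RingHom.id F) (fun x y => Algebra.trace F K (τ x * y))
    (fun x y z => by rw [map_add, add_mul, map_add])
    (fun c x y => by
      rw [Algebra.smul_def, map_mul τ, hcompat, mul_assoc, ← Algebra.smul_def, map_smul])
    (fun x y z => by rw [mul_add, map_add])
    (fun c x y => by
      rw [mul_smul_comm, map_smul]; rfl)
  have hB : ∀ x y, B x y = Algebra.trace F K (τ x * y) := fun x y => rfl
  refine ⟨B, ⟨fun x y => ?_⟩, ?_, ?_⟩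
  · change σ (B x y) = B y x
    rw [hB, hB, htr, map_mul τ, hττ, mul_comm]
  · intro x hx
    have h1 := (traceForm_nondegenerate F K).1 (τ x) (fun y => by
      rw [Algebra.traceForm_apply, ← hB, hx])
    exact (map_eq_zero τ).1 h1
  · intro a x y ha
    rw [hB, hB, map_mul τ]
    congr 1
    calc τ a * τ x * (a * y) = (a * τ a) * (τ x * y) := by ring
      _ = τ x * y := by rw [ha, one_mul]

/-- **The cyclic torus of order `(q ^ n + 1) / (q + 1)`.** -/
theorem exists_su_orderOf (hF : Fintype.card F = q ^ 2) (hn : Odd n) :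
    ∃ g : SU n F q, orderOf g = (q ^ n + 1) / (q + 1) := by
  obtain ⟨p, k, hp, hchar, hq, hk⟩ := Cfsg.Agent.LieClassical.HermBasic.exists_prime_pow hF
  have hq2 : 2 ≤ q := Cfsg.Agent.LieClassical.HermBasic.two_le hF
  have := Fact.mk hp
  have hn0 : NeZero n := ⟨by rintro rfl; simp at hn⟩
  let K := FiniteField.Extension F p n
  have hK : Module.finrank F K = n := FiniteField.finrank_extension F p n
  have : CharP K p := charP_of_injective_algebraMap (algebraMap F K).injective p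
  have := Fintype.ofFinite K
  obtain ⟨σ, hσ⟩ := exists_frob F p k
  obtain ⟨τ, hτ⟩ := exists_frob K p (k * n)
  have hσ' : ∀ x, σ x = x ^ q := fun x => by rw [hσ, hq]
  have hτ' : ∀ x, τ x = x ^ (q ^ n) := fun x => by rw [hτ, hq, ← pow_mul]
  have hσ1 : σ ≠ RingHom.id F := by
    intro h
    obtain ⟨x, hx⟩ := Cfsg.Agent.LieClassical.HermBasic.exists_not_fixed hF
    apply hx
    rw [← hσ', h]; rfl
  have hσ2 : ∀ a, σ (σ a) = a := fun a => by
    rw [hσ', hσ', Cfsg.Agent.LieClassical.HermBasic.pow_q_pow_q hF]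
  obtain ⟨B, hS, hsep, hinv⟩ := exists_form hF hn K hK hσ' hτ'
  obtain ⟨b₀, hb₀⟩ := Cfsg.Agent.ClassicalGeometry.HermOrthonormal.exists_orthonormal_basis hσ1 hσ2 B hS hsep
  let b : Module.Basis (Fin n) F K := b₀.reindex (finCongr hK)
  have hb : ∀ i j, B (b i) (b j) = if i = j then 1 else 0 := by
    intro i j
    simp only [b, Module.Basis.reindex_apply, hb₀]
    simp
  have hherm : ∀ x y : K, hermForm n F q (b.repr x) (b.repr y) = B y x := by
    intro x y
    have h1 : B y x = B (∑ i, b.repr y i • b i) (∑ j, b.repr x j • b j) := by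
      rw [b.sum_repr, b.sum_repr]
    rw [h1, map_sum B, LinearMap.sum_apply]
    rw [hermForm]
    refine Finset.sum_congr rfl fun i _ => ?_
    rw [LinearMap.map_smulₛₗ₂, map_sum]
    have h2 : ∀ j ∈ Finset.univ, j ≠ i → B (b i) (b.repr x j • b j) = 0 := by
      intro j _ hj
      rw [map_smul, hb, if_neg (Ne.symm hj), smul_zero]
    rw [Finset.sum_eq_single i h2 (by simp), map_smul, hb, if_pos rfl, hσ', smul_eq_mul, smul_eq_mul, mul_one,
      mul_comm]
  -- the element of the field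
  set M := (q ^ n + 1) / (q + 1) with hM
  have hM0 : 0 < M := by
    rcases Nat.eq_zero_or_pos M with h | h
    · have := torus_dvd (q := q) hn
      rw [← hM, h] at this
      omega
    · exact h
  have hKc : Fintype.card K = (q ^ 2) ^ n := by
    have h1 := FiniteField.natCard_extension F p n
    have h2 : Nat.card F = q ^ 2 := by rw [← hF, Nat.card_eq_fintype_card]
    rw [h2] at h1
    rw [← Nat.card_eq_fintype_card]
    exact h1
  have hMd : M ∣ Nat.card Kˣ := by
    have h1 : Nat.card Kˣ = (q ^ 2) ^ n - 1 := by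
      rw [Nat.card_units, Nat.card_eq_fintype_card, hKc]
    have h5 : (q ^ 2) ^ n - 1 = (q ^ n - 1) * (q ^ n + 1) := by
      have := Nat.sq_sub_sq (q ^ n) 1
      rw [one_pow] at this
      rw [← pow_mul, mul_comm 2 n, pow_mul, this, mul_comm]
    rw [h1, h5, ← torus_dvd (q := q) hn, ← hM]
    exact (Dvd.intro_left _ rfl).trans (Dvd.intro_left _ rfl)
  obtain ⟨g₀, hg₀⟩ := IsCyclic.exists_ofOrder_eq_natCard (α := Kˣ)
  set a : Kˣ := g₀ ^ (orderOf g₀ / M) with ha
  have hao : orderOf a = M := orderOf_pow_orderOf_div (orderOf_pos g₀).ne' (by rw [hg₀]; exact hMd)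
  have haM : (a : K) ^ M = 1 := by
    rw [← hao, ← Units.val_pow_eq_pow_val, pow_orderOf_eq_one]; rfl
  have hapow : ∀ j, M ∣ j → (a : K) ^ j = 1 := by
    rintro j ⟨c, rfl⟩
    rw [pow_mul, haM, one_pow]
  have haτ : (a : K) * τ a = 1 := by
    rw [hτ', ← pow_succ']
    exact hapow _ (by rw [← torus_dvd (q := q) hn]; exact Dvd.intro_left _ rfl)
  have hdet : (Algebra.leftMulMatrix b (a : K)).det = 1 := by
    rw [← Algebra.norm_eq_matrix_det]
    apply (algebraMap F K).injective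
    rw [FiniteField.algebraMap_norm_eq_pow_sum, map_one, hK]
    have h2 : Nat.card F = q ^ 2 := by rw [← hF, Nat.card_eq_fintype_card]
    rw [h2]
    apply hapow
    rw [torus_sum hq2 hn]
    exact Dvd.intro _ rfl
  let A : Matrix.SpecialLinearGroup (Fin n) F := ⟨Algebra.leftMulMatrix b (a : K), hdet⟩
  have hmem : A ∈ SU n F q := by
    rw [Cfsg.Agent.LieClassical.HermBasic.mem_SU_iff]
    intro u v
    obtain ⟨x, rfl⟩ := b.equivFun.surjective u
    obtain ⟨y, rfl⟩ := b.equivFun.surjective v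
    change hermForm n F q (Algebra.leftMulMatrix b (a : K) *ᵥ b.repr x) (Algebra.leftMulMatrix b (a : K) *ᵥ b.repr y) =
      hermForm n F q (b.repr x) (b.repr y)
    rw [Algebra.leftMulMatrix_mulVec_repr, Algebra.leftMulMatrix_mulVec_repr, hherm, hherm, hinv _ _ _ haτ]
  refine ⟨⟨A, hmem⟩, ?_⟩
  rw [← hao, orderOf_eq_orderOf_iff]
  intro j
  have h1 : mat ((⟨A, hmem⟩ : SU n F q) ^ j) = Algebra.leftMulMatrix b ((a : K) ^ j) := by
    rw [mat_pow, map_pow]; rfl
  constructor
  · intro h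
    have h2 := h1
    rw [h, mat_one] at h2
    have h3 : (1 : K) = (a : K) ^ j := Algebra.leftMulMatrix_injective b (by rw [map_one, h2])
    apply Units.ext
    rw [Units.val_pow_eq_pow_val, ← h3]; rfl
  · intro h
    apply mat_injective
    rw [h1, ← Units.val_pow_eq_pow_val, h, Units.val_one, map_one, mat_one]

/-- The image in `PSU`. -/
theorem exists_psu_orderOf (hF : Fintype.card F = q ^ 2) (hn : Odd n) (hn3 : 3 ≤ n) :
    ∃ x : PSU n F q, (q ^ n + 1) / (q + 1) ∣ orderOf x * Nat.gcd n (q + 1) := by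
  obtain ⟨g, hg⟩ := exists_su_orderOf hF hn
  refine ⟨QuotientGroup.mk g, ?_⟩
  rw [← hg]
  apply orderOf_dvd_of_pow_eq_one
  have h1 : g ^ (orderOf (QuotientGroup.mk g : PSU n F q)) ∈ Subgroup.center (SU n F q) := by
    rw [← QuotientGroup.eq_one_iff, QuotientGroup.mk_pow, pow_orderOf_eq_one]
  rw [pow_mul]
  generalize g ^ (orderOf (QuotientGroup.mk g : PSU n F q)) = z at h1
  obtain ⟨c, hcn, hcq, hc⟩ := (Cfsg.Agent.LieClassical.SUBasic.mem_center_SU_iff hF hn3 _).1 h1
  have hcg : c ^ Nat.gcd n (q + 1) = 1 := by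
    have h2 : orderOf c ∣ Nat.gcd n (q + 1) :=
      Nat.dvd_gcd (orderOf_dvd_of_pow_eq_one hcn) (orderOf_dvd_of_pow_eq_one hcq)
    exact orderOf_dvd_iff_pow_eq_one.1 h2
  rw [hc]
  apply mat_injective
  rw [mat_pow, mat_one]
  change (Matrix.diagonal fun _ => c) ^ (Nat.gcd n (q + 1)) = 1
  rw [Matrix.diagonal_pow]
  have : (fun _ : Fin n => c) ^ (Nat.gcd n (q + 1)) = 1 := by funext i; exact hcg
  rw [this]
  exact Matrix.diagonal_one

end Cfsg.Agent.H364.UTorus
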