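import Mathlib

/-!
# Arithmetic for `PSU₃(q)` (helper364)
-/

set_option autoImplicit false

namespace Cfsg.Agent.H364.ArithU3

/-- the large case, `q = s + 1` -/
theorem big {s m d t a : ℕ} (hs : 11 ≤ s) (hd : d = 1 ∨ d = 3) (hd3 : d = 3 → 3 ∣ s + 2) (hm : m * d = s ^ 2 + s + 1)
    (ht : t.Prime) (ha : 0 < a) (hN : t ^ a ∣ s * (s + 2) ^ 2) (h1 : m ∣ t ^ a - 1) : False := by
  have hm3 : s ^ 2 + s + 1 ≤ 3 * m := by rcases hd with rfl | rfl <;> omega
  have hA2 : 2 ≤ t ^ a := ht.two_le.trans (Nat.le_self_pow ha.ne' t)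
  obtain ⟨j, hj⟩ := h1
  have hj0 : 0 < j := by
    rcases Nat.eq_zero_or_pos j with h | h
    · rw [h, mul_zero] at hj; omega
    · exact h
  have hA : t ^ a = m * j + 1 := by omega
  have hmA : m + 1 ≤ t ^ a := by
    rw [hA]
    have := Nat.le_mul_of_pos_right m hj0
    omega
  -- `t ^ a ≤ s`
  have c1 : ¬ t ^ a ≤ 4 * s := by
    intro h
    nlinarith
  by_cases hts : t ∣ s + 2
  swap
  · have h2 : Nat.Coprime (t ^ a) ((s + 2) ^ 2) :=
      Nat.Coprime.pow a 2 ((Nat.Prime.coprime_iff_not_dvd ht).2 hts)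
    have h3 : t ^ a ∣ s := h2.dvd_of_dvd_mul_right hN
    have h4 := Nat.le_of_dvd (by omega) h3
    omega
  by_cases ht2 : t = 2
  swap
  · -- `t` is odd and divides `s + 2`
    have hts' : ¬ t ∣ s := by
      intro h
      have h2 : t ∣ 2 := (Nat.dvd_add_right h).1 hts
      exact ht2 ((Nat.prime_dvd_prime_iff_eq ht Nat.prime_two).1 h2)
    have h2 : Nat.Coprime (t ^ a) s := Nat.Coprime.pow_left a ((Nat.Prime.coprime_iff_not_dvd ht).2 hts')
    obtain ⟨u, hu⟩ : t ^ a ∣ (s + 2) ^ 2 := h2.dvd_of_dvd_mul_left hN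
    have hu0 : 0 < u := by
      rcases Nat.eq_zero_or_pos u with h | h
      · rw [h, mul_zero] at hu; nlinarith
      · exact h
    rw [hA] at hu
    -- `(m j + 1) u = (s + 2) ^ 2`
    have he : m * (j * u) + u = (s + 2) ^ 2 := by rw [hu]; ring
    have hju : u ≤ j * u := Nat.le_mul_of_pos_left u hj0
    rcases hd with rfl | rfl
    · rw [mul_one] at hm
      rcases Nat.lt_or_ge (j * u) 2 with h | h
      · have h5 : j * u = 1 := by omega
        have h6 : u = 1 := by omega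
        rw [h5, h6] at he
        nlinarith
      · have : m * 2 ≤ m * (j * u) := Nat.mul_le_mul_left m h
        nlinarith
    · rcases Nat.lt_or_ge (j * u) 4 with h | h
      · have h5 : m * (j * u) ≤ m * 3 := Nat.mul_le_mul_left m (by omega)
        nlinarith
      · have : m * 4 ≤ m * (j * u) := Nat.mul_le_mul_left m h
        nlinarith
  subst ht2
  -- `t = 2`, `s` even
  obtain ⟨c, v, hv, hcv⟩ := Nat.exists_eq_two_pow_mul_odd (n := s + 2) (by omega)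
  have hc1 : 1 ≤ c := by
    rcases Nat.eq_zero_or_pos c with h | h
    · rw [h, pow_zero, one_mul] at hcv
      rw [hcv] at hts
      exact absurd (hv) (by rw [Nat.not_odd_iff_even]; exact even_iff_two_dvd.2 hts)
    · exact h
  by_cases hc : c = 1
  · subst hc
    -- `s + 2 = 2 v`
    have h2 : s * (s + 2) ^ 2 = 4 * s * v ^ 2 := by rw [hcv]; ring
    rw [h2] at hN
    have h3 : Nat.Coprime (2 ^ a) (v ^ 2) := Nat.Coprime.pow a 2 hv.coprime_two_left
    have h4 : 2 ^ a ∣ 4 * s := h3.dvd_of_dvd_mul_right hN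
    exact c1 (Nat.le_of_dvd (by omega) h4)
  · -- `4 ∣ s + 2`, `s = 2 w`, `w` odd
    have h4 : 4 ∣ s + 2 := by
      rw [hcv]
      exact ((pow_dvd_pow 2 (by omega : 2 ≤ c))).trans (Dvd.intro _ rfl)
    obtain ⟨w, hw⟩ : ∃ w, s = 2 * (2 * w + 1) := ⟨(s - 2) / 4, by omega⟩
    have hwodd : Odd (2 * w + 1) := ⟨w, rfl⟩
    have h5 : s * (s + 2) ^ 2 = 2 ^ (2 * c + 1) * ((2 * w + 1) * v ^ 2) := by
      calc s * (s + 2) ^ 2 = (2 * (2 * w + 1)) * (2 ^ c * v) ^ 2 := by rw [← hcv, ← hw]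
        _ = 2 ^ (2 * c + 1) * ((2 * w + 1) * v ^ 2) := by ring
    rw [h5] at hN
    have h6 : Nat.Coprime (2 ^ a) ((2 * w + 1) * v ^ 2) :=
      Nat.Coprime.pow_left a (hwodd.mul hv.pow).coprime_two_left
    obtain ⟨u, hu⟩ : 2 ^ a ∣ 2 ^ (2 * c + 1) := h6.dvd_of_dvd_mul_right hN
    have hle : 2 ^ a ≤ 2 ^ (2 * c + 1) := Nat.le_of_dvd (by positivity) ⟨u, hu⟩
    have h7 : 2 ^ (2 * c + 1) * v ^ 2 = 2 * (s + 2) ^ 2 := by
      rw [hcv]; ring
    by_cases hv1 : v = 1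
    · subst hv1
      rw [mul_one] at hcv
      rw [one_pow, mul_one] at h7
      have hd1 : d = 1 := by
        rcases hd with h | h
        · exact h
        · exfalso
          have h8 := hd3 h
          rw [hcv] at h8
          have := Nat.prime_three.dvd_of_dvd_pow h8
          norm_num at this
      rw [hd1, mul_one] at hm
      have hu0 : 0 < u := by
        rcases Nat.eq_zero_or_pos u with h | h
        · rw [h, mul_zero] at hu
          have : 0 < 2 ^ (2 * c + 1) := by positivity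
          omega
        · exact h
      rw [h7, hA] at hu
      have he : m * (j * u) + u = 2 * (s + 2) ^ 2 := by rw [hu]; ring
      have hju : u ≤ j * u := Nat.le_mul_of_pos_left u hj0
      rcases Nat.lt_or_ge (j * u) 3 with h | h
      · have h5 : m * (j * u) ≤ m * 2 := Nat.mul_le_mul_left m (by omega)
        nlinarith
      · have : m * 3 ≤ m * (j * u) := Nat.mul_le_mul_left m h
        nlinarith
    · have hv3 : 3 ≤ v := by
        obtain ⟨k, hk⟩ := hv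
        omega
      have h8 : 2 ^ a * 9 ≤ 2 * (s + 2) ^ 2 := by
        rw [← h7]
        calc 2 ^ a * 9 ≤ 2 ^ (2 * c + 1) * 9 := Nat.mul_le_mul_right 9 hle
          _ ≤ 2 ^ (2 * c + 1) * v ^ 2 := Nat.mul_le_mul_left _ (Nat.pow_le_pow_left hv3 2)
      have h9 : 11 * s ≤ s ^ 2 := by rw [pow_two]; exact Nat.mul_le_mul_right s hs
      have h10 : 2 * (s + 2) ^ 2 = 2 * s ^ 2 + 8 * s + 8 := by ring
      omega

theorem small_table : ∀ s ∈ Finset.Icc 2 10, ∀ A ∈ (s * (s + 2) ^ 2).divisors,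
    ((s ^ 2 + s + 1) / Nat.gcd 3 (s + 2)) ∣ A - 1 → A = 1 ∨ A = 36 ∨ (A = 8 ∧ (s = 2 ∨ s = 4)) := by
  decide +kernel

theorem gcd_cases (s : ℕ) : (Nat.gcd 3 (s + 2) = 1 ∨ Nat.gcd 3 (s + 2) = 3) ∧
    (Nat.gcd 3 (s + 2) = 3 → 3 ∣ s + 2) ∧ (s ^ 2 + s + 1) / Nat.gcd 3 (s + 2) * Nat.gcd 3 (s + 2) = s ^ 2 + s + 1 := by
  refine ⟨?_, fun h => h ▸ Nat.gcd_dvd_right 3 (s + 2), ?_⟩
  · exact (Nat.dvd_prime Nat.prime_three).1 (Nat.gcd_dvd_left 3 (s + 2))
  · apply Nat.div_mul_cancel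
    rcases (Nat.dvd_prime Nat.prime_three).1 (Nat.gcd_dvd_left 3 (s + 2)) with h | h
    · rw [h]; exact one_dvd _
    · have h3 : 3 ∣ s + 2 := h ▸ Nat.gcd_dvd_right 3 (s + 2)
      rw [h]
      obtain ⟨k, hk⟩ := h3
      obtain ⟨l, hl⟩ : ∃ l, s = 3 * l + 1 := ⟨k - 1, by omega⟩
      rw [hl]
      exact ⟨3 * l ^ 2 + 3 * l + 1, by ring⟩

theorem arith {s t a : ℕ} (hs : 2 ≤ s) (ht : t.Prime) (ha : 0 < a) (hN : t ^ a ∣ s * (s + 2) ^ 2)
    (h1 : ((s ^ 2 + s + 1) / Nat.gcd 3 (s + 2)) ∣ t ^ a - 1) : t = 2 ∧ a = 3 ∧ (s = 2 ∨ s = 4) := by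
  obtain ⟨hd, hd3, hm⟩ := gcd_cases s
  rcases Nat.lt_or_ge s 11 with h | h
  · have hA2 : 2 ≤ t ^ a := ht.two_le.trans (Nat.le_self_pow ha.ne' t)
    have h2 : t ∣ t ^ a := dvd_pow_self t ha.ne'
    rcases small_table s (Finset.mem_Icc.2 ⟨hs, by omega⟩) (t ^ a) (Nat.mem_divisors.2 ⟨hN, by positivity⟩) h1 with h3 | h3 | ⟨h3, h4⟩
    · omega
    · exfalso
      have h5 : 2 ∣ t := Nat.prime_two.dvd_of_dvd_pow (n := a) (h3 ▸ (by norm_num))
      have h6 : 3 ∣ t := Nat.prime_three.dvd_of_dvd_pow (n := a) (h3 ▸ (by norm_num))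
      have h7 := (Nat.prime_dvd_prime_iff_eq Nat.prime_two ht).1 h5
      have h8 := (Nat.prime_dvd_prime_iff_eq Nat.prime_three ht).1 h6
      omega
    · have h5 : 2 ∣ t := Nat.prime_two.dvd_of_dvd_pow (n := a) (h3 ▸ (by norm_num))
      have h7 := (Nat.prime_dvd_prime_iff_eq Nat.prime_two ht).1 h5
      subst h7
      have h8 : a = 3 := Nat.pow_right_injective (le_refl 2) (by simpa using h3)
      exact ⟨rfl, h8, h4⟩
  · exact (big h hd hd3 hm ht ha hN h1).elim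

end Cfsg.Agent.H364.ArithU3
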