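import Mathlib
import Cfsg.Agent.H364.DCross
import Cfsg.Agent.H364.SpFin

/-!
# `D_n`, `n ≥ 6` even: no simple groups of Lie type in cross characteristic, small `q` (helper364)
-/

set_option autoImplicit false

namespace Cfsg.Agent.H364.DEnum

open Finset Cfsg.Agent.H902.Lte Cfsg.Agent.H902.Art Cfsg.Agent.H364.SpVal Cfsg.Agent.H364.SpPrim
  Cfsg.Agent.H364.SpCross Cfsg.Agent.H364.SpSmall Cfsg.Agent.H364.SpEnum Cfsg.Agent.H364.DIneq Cfsg.Agent.H364.DCross

/-- the part with orders larger than `n / 2` -/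
def te (n q : ℕ) : ℕ := strip 40 (AA (n - 1) q) (AA (n / 2) q)

def good (n q t : ℕ) : Bool := (AA (n - 1) q % t == 0) && (Nat.gcd t (AA (n / 2) q) == 1)

theorem good_C {n q t : ℕ} (hn : 1 ≤ n) (h : good n q t = true) : SpSmall.good n q t = true := by
  simp only [good, SpSmall.good, Bool.and_eq_true, beq_iff_eq] at h ⊢
  refine ⟨?_, h.2⟩
  have h1 := Nat.dvd_of_mod_eq_zero h.1
  apply Nat.mod_eq_zero_of_dvd
  obtain ⟨m, rfl⟩ := Nat.exists_eq_add_of_le' hn
  rw [Nat.add_sub_cancel] at h1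
  rw [AA, Finset.prod_range_succ]
  exact h1.mul_right _

theorem FrD.good {n q I MS t : ℕ} (h : FrD n q I MS) (hn : 1 ≤ n) (hq : 2 ≤ q) (hg : good n q t = true) :
    t ∣ I * MS := by
  refine h t ?_ fun r hr hd => order_of_good hq hr (good_C hn hg) hd
  simp only [DEnum.good, Bool.and_eq_true, beq_iff_eq] at hg
  exact Nat.dvd_of_mod_eq_zero hg.1

section

variable {n p f q M : ℕ} {X : Sh} {v g MS I t : ℕ}

/-- `v` odd, not dividing `t`, of order `e` -/
theorem ck_false (hc : CrD n p f M X v g MS I) (hq : p ^ f = q) (hd : t ∣ I * MS)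
    (hv2 : v ≠ 2) (hvt : ¬ v ∣ t)
    (hck : ∀ e, 1 ≤ e → e ≤ n → e = orderOf ((q ^ 2 : ℕ) : ZMod v) → ck n q t e = true) : False := by
  obtain ⟨hY, hX, hX2, hvp, hMS, hI, hI0, -, -⟩ := hc
  have hv := hX.hp
  have hq2 := hY.q_ge
  have hvq := hY.not_dvd_q hv hvp
  have h1 := pow_le_P hX hY hMS
  have h2 : P v M ≤ P v (AA n (p ^ f)) := P_le_AA hY hv hvp
  rw [hq] at hq2 hvq h2
  have hN1 : 1 ≤ g * NN X := Nat.mul_pos hX.hf (NN_pos hX)
  have hv3 : 3 ≤ v := by have := hv.two_le; omega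
  have hcop : Nat.Coprime t v := (Nat.Coprime.symm ((Nat.Prime.coprime_iff_not_dvd hv).2 hvt))
  have h3 := cube_num hX hX2 hI hI0 hcop hd
  obtain ⟨he, h4 | ⟨h4, h5⟩⟩ := PC_odd' hv hv2 hq2 hvq n
  · rw [h4.2] at h2
    have h6 : v ^ 1 ≤ v ^ (g * NN X) := Nat.pow_le_pow_right (by omega) hN1
    rw [pow_one] at h6
    omega
  · have h6 := hck _ he h4 rfl
    have h7 : (v ^ (g * NN X)) ^ 2 ≤ Be n q (orderOf ((q ^ 2 : ℕ) : ZMod v)) :=
      (Nat.pow_le_pow_left (h1.trans h2) 2).trans h5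
    generalize orderOf ((q ^ 2 : ℕ) : ZMod v) = e at *
    generalize g * NN X = N at *
    rw [ck, Bool.and_eq_true, decide_eq_true_eq, List.all_eq_true] at h6
    obtain ⟨h8, h9⟩ := h6
    have h10 : 9 ^ N ≤ Be n q e := by
      calc 9 ^ N = (3 ^ N) ^ 2 := by rw [← pow_mul, mul_comm, pow_mul]; norm_num
        _ ≤ (v ^ N) ^ 2 := Nat.pow_le_pow_left (Nat.pow_le_pow_left hv3 N) 2
        _ ≤ _ := h7
    have h11 : N < 64 := by
      by_contra hcon
      have := Nat.pow_le_pow_right (show 0 < 9 by norm_num) (show 64 ≤ N by omega)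
      omega
    have h12 := h9 N (List.mem_range.2 h11)
    rw [Bool.or_eq_true, decide_eq_true_eq, decide_eq_true_eq] at h12
    rcases h12 with h12 | h12
    · omega
    · have h13 : t ^ 6 ≤ Be n q e ^ 5 * N ^ 6 := by
        calc t ^ 6 = (t ^ 3) ^ 2 := by rw [← pow_mul]
          _ ≤ ((v ^ N) ^ 5 * N ^ 3) ^ 2 := Nat.pow_le_pow_left h3 2
          _ = ((v ^ N) ^ 2) ^ 5 * N ^ 6 := by rw [mul_pow]; ring
          _ ≤ _ := Nat.mul_le_mul_right _ (Nat.pow_le_pow_left h7 5)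
      omega

/-- `v` divides `t` -/
theorem ck2_false {b : ℕ} (hc : CrD n p f M X v g MS I) (hd : t ∣ I * MS)
    (hv2 : v ≠ 2) (hb : P v M ≤ b) (hck : ck2 b t = true) : False := by
  obtain ⟨hY, hX, hX2, hvp, hMS, hI, hI0, -, -⟩ := hc
  have hv := hX.hp
  have h1 := (pow_le_P hX hY hMS).trans hb
  have hv3 : 3 ≤ v := by have := hv.two_le; omega
  have h3 := cube_all hX hX2 hI hI0 hd
  generalize g * NN X = N at *
  rw [ck2, Bool.and_eq_true, decide_eq_true_eq, List.all_eq_true] at hck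
  obtain ⟨h8, h9⟩ := hck
  have h10 : 3 ^ N ≤ b := (Nat.pow_le_pow_left hv3 N).trans h1
  have h11 : N < 64 := by
    by_contra hcon
    have := Nat.pow_le_pow_right (show 0 < 3 by norm_num) (show 64 ≤ N by omega)
    omega
  have h12 := h9 N (List.mem_range.2 h11)
  rw [Bool.or_eq_true, decide_eq_true_eq, decide_eq_true_eq] at h12
  rcases h12 with h12 | h12
  · omega
  · have h13 : (v ^ N) ^ 8 * N ^ 3 ≤ b ^ 8 * N ^ 3 := Nat.mul_le_mul_right _ (Nat.pow_le_pow_left h1 8)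
    omega

/-- `v = 2` -/
theorem ck3_false {b : ℕ} (hc : CrD n p f M X v g MS I) (hd : t ∣ I * MS)
    (hvt : ¬ v ∣ t) (hb : P v M ≤ b) (hck : ck3 b t = true) : False := by
  obtain ⟨hY, hX, hX2, hvp, hMS, hI, hI0, -, -⟩ := hc
  have hv := hX.hp
  have h1 := (pow_le_P hX hY hMS).trans hb
  have hcop : Nat.Coprime t v := (Nat.Coprime.symm ((Nat.Prime.coprime_iff_not_dvd hv).2 hvt))
  have h3 := cube_num hX hX2 hI hI0 hcop hd
  generalize g * NN X = N at *
  rw [ck3, Bool.and_eq_true, decide_eq_true_eq, List.all_eq_true] at hck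
  obtain ⟨h8, h9⟩ := hck
  have h10 : 2 ^ N ≤ b := (Nat.pow_le_pow_left hv.two_le N).trans h1
  have h11 : N < 150 := by
    by_contra hcon
    have := Nat.pow_le_pow_right (show 0 < 2 by norm_num) (show 150 ≤ N by omega)
    omega
  have h12 := h9 N (List.mem_range.2 h11)
  rw [Bool.or_eq_true, decide_eq_true_eq, decide_eq_true_eq] at h12
  rcases h12 with h12 | h12
  · omega
  · have h13 : (v ^ N) ^ 5 * N ^ 3 ≤ b ^ 5 * N ^ 3 := Nat.mul_le_mul_right _ (Nat.pow_le_pow_left h1 5)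
    omega

/-- the `2`-part of the order -/
theorem P_two_le (hY : Real (.D n) p f M) (hq : p ^ f = q) (hp2 : 2 ≠ p) (hev : n % 2 = 0) :
    P 2 M ≤ (4 * (q + 1)) ^ n / 16 := by
  have hn : 4 ≤ n := hY.ok
  have hq2 := hY.q_ge
  have hvq := hY.not_dvd_q Nat.prime_two hp2
  have h2 := hY.P_other Nat.prime_two hp2
  have hn0 := hY.num_ne
  rw [hq] at hq2 hvq h2 hn0
  have hodd : Odd q := Nat.not_even_iff_odd.1 fun h => hvq h.two_dvd
  have hq3 : 3 ≤ q := by
    rcases hodd with ⟨k, hk⟩; omega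
  have hdd : dd (.D n) q = 4 := by
    show Nat.gcd 4 (q ^ n - 1) = 4
    apply Nat.gcd_eq_left
    obtain ⟨m, rfl⟩ : ∃ m, n = 2 * m := ⟨n / 2, by omega⟩
    have h4 : 4 ∣ q ^ 2 - 1 := by
      obtain ⟨k, rfl⟩ := hodd
      have : (2 * k + 1) ^ 2 = 4 * (k ^ 2 + k) + 1 := by ring
      rw [this, Nat.add_sub_cancel]
      exact Dvd.intro _ rfl
    rw [pow_mul]
    exact h4.trans (Nat.sub_one_dvd_pow_sub_one _ _)
  have hP : ∀ k, P 2 (2 ^ k) = 2 ^ k := fun k => by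
    have := P_pow_self (r := 2) (k := k) (a := 1) Nat.prime_two (by norm_num)
    simpa using this
  have h4 : P 2 4 = 4 := hP 2
  rw [hdd, h4] at h2
  have h5 := PC_two hq3 hodd (show 1 ≤ n by omega)
  have h6 : AA n q = ∏ i ∈ range n, (q ^ (2 * (i + 1)) - 1) := rfl
  rw [← h6] at h5
  have h7 : P 2 (num (.D n) q) * P 2 (q ^ n + 1) = P 2 (AA n q) := by
    rw [← P_mul hn0 (by positivity), num_D_mul (by omega) (by omega)]
  have h8 : 2 ≤ P 2 (q ^ n + 1) := by
    have h9 : 2 ∣ q ^ n + 1 := by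
      have : Odd (q ^ n) := hodd.pow
      obtain ⟨k, hk⟩ := this
      exact ⟨k + 1, by omega⟩
    have h10 : P 2 2 ≤ P 2 (q ^ n + 1) := P_mono Nat.prime_two (by positivity) h9
    have h11 : P 2 2 = 2 := hP 1
    omega
  rw [Nat.le_div_iff_mul_le (by norm_num)]
  have h9 : P 2 M * 8 ≤ P 2 (AA n q) := by
    rw [← h7, ← h2]
    calc P 2 M * 8 = 4 * P 2 M * 2 := by ring
      _ ≤ _ := Nat.mul_le_mul_left _ h8
  omega

/-- the order -/
def cardD (n q : ℕ) : ℕ := q ^ (n * (n - 1)) * ((q ^ n - 1) * AA (n - 1) q) / Nat.gcd 4 (q ^ n - 1)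

theorem M_eq (hY : Real (.D n) p f M) (hq : p ^ f = q) : M = cardD n q := by
  subst hq
  have h1 := hY.eq
  have hd := hY.dd_ne
  have h2 : num (.D n) (p ^ f) = ((p ^ f) ^ n - 1) * AA (n - 1) (p ^ f) := rfl
  have h3 : dd (.D n) (p ^ f) = Nat.gcd 4 ((p ^ f) ^ n - 1) := rfl
  have h4 : NN (.D n) = n * (n - 1) := rfl
  rw [h2, h3, h4] at h1
  rw [cardD, ← h1]
  exact (Nat.mul_div_cancel_left _ (Nat.gcd_pos_of_pos_left _ (by norm_num))).symm

/-- the enumeration -/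
def en (n q D v a : ℕ) : Bool :=
  (cardD n q % v ^ (a + 1) != 0) && (List.range (a + 1)).all fun N => (ents v N).all fun x =>
    decide (x.1 = .L 2) || (cardD n q % val v x != 0) || ((24 * dd x.1 (v ^ x.2) * x.2 * val v x) % D != 0)

theorem en_false {a : ℕ} (hc : CrD n p f M X v g MS I) (hq : p ^ f = q) (hd : t ∣ I * MS)
    (hen : en n q t v a = true) : False := by
  obtain ⟨hY, hX, hX2, hvp, hMS, -, -, hI, -⟩ := hc
  have hM := M_eq hY hq
  have hM0 := hY.M_ne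
  have hv := hX.hp
  rw [en, Bool.and_eq_true, bne_iff_ne, List.all_eq_true] at hen
  obtain ⟨h1, h2⟩ := hen
  have hN : g * NN X ≤ a := by
    by_contra hcon
    apply h1
    apply Nat.mod_eq_zero_of_dvd
    rw [← hM]
    have h3 : v ^ (g * NN X) ∣ M := by
      have := P_dvd v MS
      rw [hX.P_self, ← pow_mul] at this
      exact this.trans hMS
    exact (pow_dvd_pow v (by omega)).trans h3
  have h3 := h2 _ (List.mem_range.2 (show g * NN X < a + 1 by omega))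
  rw [List.all_eq_true] at h3
  have h4 := h3 _ (mem_ents hX rfl)
  rw [val_eq hX] at h4
  simp only [Bool.or_eq_true, decide_eq_true_eq, bne_iff_ne, ne_eq] at h4
  rcases h4 with (h4 | h4) | h4
  · exact hX2 h4
  · exact h4 (Nat.mod_eq_zero_of_dvd (by rw [← hM]; exact hMS))
  · exact h4 (Nat.mod_eq_zero_of_dvd (hd.trans (Nat.mul_dvd_mul_right hI _)))

theorem cross_fin {b : ℕ} (hc : CrD n p f M X v g MS I) (hq : p ^ f = q) (hn : 2 ≤ n)
    (hg : good n q (te n q) = true)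
    (hb : ∀ v : ℕ, v.Prime → v ≠ p → v ∣ te n q → P v M ≤ b) (hck2 : ck2 b (te n q) = true)
    (hE : ∀ e, 1 ≤ e → e ≤ n → ck n q (te n q) e = true ∨
      ∀ v : ℕ, v.Prime → v ≠ 2 → v ∣ q ^ (2 * e) - 1 → ∃ a, en n q (te n q) v a = true)
    (h2 : p ≠ 2 → (∃ B, P 2 M ≤ B ∧ ck3 B (te n q) = true) ∨ ∃ a, en n q (te n q) 2 a = true) : False := by
  have hv := hc.hX.hp
  have hvp := hc.hvp
  have hq2 := hc.hY.q_ge
  have hvq := hc.hY.not_dvd_q hv hc.hvp
  have hd := hc.hd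
  rw [hq] at hq2 hvq hd
  have hd' := FrD.good hd (by omega) hq2 hg
  by_cases hvt : v ∣ te n q
  · have hv2 : v ≠ 2 := by
      rintro rfl
      have h1 := order_of_good hq2 Nat.prime_two (good_C (by omega) hg) hvt
      have h3 : orderOf ((q ^ 2 : ℕ) : ZMod 2) ≤ 1 := by
        have hodd : ¬ 2 ∣ q ^ 2 := fun h => hvq (Nat.prime_two.dvd_of_dvd_pow h)
        have h4 : ((q ^ 2 : ℕ) : ZMod 2) = 1 := by
          rw [← Nat.cast_one, ZMod.natCast_eq_natCast_iff]
          show q ^ 2 % 2 = 1 % 2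
          omega
        rw [h4, orderOf_one]
      omega
    exact ck2_false hc hd' hv2 (hb v hv hvp hvt) hck2
  · by_cases hv2 : v = 2
    · subst hv2
      rcases h2 (Ne.symm hvp) with ⟨B, h3, h4⟩ | ⟨a, h3⟩
      · exact ck3_false hc hd' hvt h3 h4
      · exact en_false hc hq hd' h3
    · by_cases hs : ∃ a, en n q (te n q) v a = true
      · obtain ⟨a, hs⟩ := hs
        exact en_false hc hq hd' hs
      · refine ck_false hc hq hd' hv2 hvt fun e he hen heo => ?_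
        rcases hE e he hen with h | h
        · exact h
        · exfalso
          apply hs
          apply h v hv hv2
          rw [pow_mul, heo, Cfsg.Agent.Lib.Zsigmondy.dvd_pow_sub_one_iff (Nat.one_le_pow _ _ (by omega))]

/-- the checks -/
def fl (n q b s : ℕ) : Bool :=
  good n q (te n q) && ck2 b (te n q) && ((List.range n).all fun e => decide (e + 1 ≤ s) || ck n q (te n q) (e + 1))

/-- the check for the prime `2` -/
def tw (n q a : ℕ) : Bool := ck3 ((4 * (q + 1)) ^ n / 16) (te n q) || en n q (te n q) 2 a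

theorem cross_fl {b s a : ℕ} (hc : CrD n p f M X v g MS I) (hq : p ^ f = q) (hn : 2 ≤ n) (hev : n % 2 = 0)
    (hb : ∀ v : ℕ, v.Prime → v ≠ p → v ∣ te n q → P v M ≤ b) (hfl : fl n q b s = true)
    (hs : ∀ e, 1 ≤ e → e ≤ s → ∀ v : ℕ, v.Prime → v ≠ 2 → v ∣ q ^ (2 * e) - 1 → ∃ a, en n q (te n q) v a = true)
    (h2 : p ≠ 2 → tw n q a = true) : False := by
  simp only [fl, Bool.and_eq_true] at hfl
  obtain ⟨⟨h3, h4⟩, h5⟩ := hfl
  refine cross_fin hc hq hn h3 hb h4 ?_ ?_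
  · intro e he hen
    rw [List.all_eq_true] at h5
    have h6 := h5 (e - 1) (List.mem_range.2 (by omega))
    rw [show e - 1 + 1 = e by omega, Bool.or_eq_true, decide_eq_true_eq] at h6
    rcases h6 with h6 | h6
    · exact Or.inr (hs e he h6)
    · exact Or.inl h6
  · intro hp2
    have h6 := h2 hp2
    rw [tw, Bool.or_eq_true] at h6
    rcases h6 with h6 | h6
    · exact Or.inl ⟨_, P_two_le hc.hY hq (Ne.symm hp2) hev, h6⟩
    · exact Or.inr ⟨a, h6⟩

/-- the primes of the top part -/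
theorem te_bound (hc : CrD n p f M X v g MS I) (hq : p ^ f = q) (hn : 2 ≤ n) (hg : good n q (te n q) = true) :
    ∀ v : ℕ, v.Prime → v ≠ p → v ∣ te n q → P v M ≤ q ^ (n - 1) + 1 := by
  intro w hw hwp hd
  have hq2 := hc.hY.q_ge
  have hvq := hc.hY.not_dvd_q hw hwp
  have h2 : P w M ≤ P w (AA n (p ^ f)) := P_le_AA hc.hY hw hwp
  rw [hq] at hq2 hvq h2
  have h1 := order_of_good hq2 hw (good_C (by omega) hg) hd
  have hw2 : w ≠ 2 := by
    rintro rfl
    have h3 : orderOf ((q ^ 2 : ℕ) : ZMod 2) ≤ 1 := by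
      have hodd : ¬ 2 ∣ q ^ 2 := fun h => hvq (Nat.prime_two.dvd_of_dvd_pow h)
      have h4 : ((q ^ 2 : ℕ) : ZMod 2) = 1 := by
        rw [← Nat.cast_one, ZMod.natCast_eq_natCast_iff]
        show q ^ 2 % 2 = 1 % 2
        omega
      rw [h4, orderOf_one]
    omega
  have h3 : w ∣ AA (n - 1) q := by
    simp only [good, Bool.and_eq_true, beq_iff_eq] at hg
    exact hd.trans (Nat.dvd_of_mod_eq_zero hg.1)
  obtain ⟨h4, h5 | ⟨h5, -⟩⟩ := PC_odd' hw hw2 hq2 hvq (n - 1)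
  · exfalso
    have h6 : P w (AA (n - 1) q) ≠ 1 := by
      rw [P, Ne, Nat.pow_eq_one]
      have := hw.factorization_pos_of_dvd (AA_ne hq2) h3
      have := hw.two_le
      omega
    exact h6 h5.2
  · have h6 := P_le_of_order hw hw2 hq2 hvq h1
    have h7 := Nat.pow_le_pow_right (show 0 < q by omega) h5
    omega

theorem good_of_fl {b s : ℕ} (h : fl n q b s = true) : good n q (te n q) = true := by
  simp only [fl, Bool.and_eq_true] at h
  exact h.1.1

end

theorem fl_list : ∀ a ∈ [(8, 2, 1), (8, 3, 1), (8, 4, 0), (8, 5, 0), (8, 7, 0), (8, 8, 0), (8, 9, 0), (8, 11, 0),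
    (8, 13, 0), (8, 16, 0), (10, 2, 1), (10, 3, 0), (10, 4, 0), (10, 5, 0), (10, 7, 0), (12, 2, 0), (12, 3, 0),
    (14, 2, 0), (16, 2, 0), (18, 2, 0), (20, 2, 0), (22, 2, 0)],
    fl a.1 a.2.1 (a.2.1 ^ (a.1 - 1) + 1) a.2.2 = true := by
  decide +kernel

theorem tw_list : ∀ a ∈ [(8, 3, 28), (8, 5, 28), (8, 7, 0), (8, 9, 0), (8, 11, 0), (8, 13, 0), (10, 3, 35),
    (10, 5, 0), (10, 7, 0), (12, 3, 0)], tw a.1 a.2.1 a.2.2 = true := by
  decide +kernel

theorem en_list : ∀ a ∈ [(8, 2, 3, 10), (10, 2, 3, 14)], en a.1 a.2.1 (te a.1 a.2.1) a.2.2.1 a.2.2.2 = true := by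
  decide +kernel

end Cfsg.Agent.H364.DEnum
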