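import Mathlib
import Cfsg.Agent.OrdDiv.Main
import Cfsg.Agent.H902.Facts

/-!
# The finitely many small unitary groups (helper364)
-/

set_option autoImplicit false

namespace Cfsg.Agent.H364.SpecialU

open Cfsg Cfsg.Agent.OrdDiv Cfsg.Agent.H902

universe u

/-- the check -/
def chk (l : List (ℕ × ℕ)) (N p k A B : ℕ) : Bool :=
  (cands l N).all fun g => (ordN g % p ^ k != 0) || ordN g == N || ordN g == A || ordN g == B

theorem of_chk (T : OrderTable.{u}) {S : Type u} [Group S] (h : IsKnownSimple' S)
    (hna : ¬ ∀ a b : S, a * b = b * a) {l : List (ℕ × ℕ)} {N p k A B : ℕ} (hv : valid l N = true)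
    (hd : Nat.card S ∣ N) (hk : p ^ k ∣ Nat.card S) (hc : chk l N p k A B = true) :
    Nat.card S = N ∨ Nat.card S = A ∨ Nat.card S = B := by
  obtain ⟨g, hg, -, ho⟩ := exists_good T h hna hv hd
  rw [chk, List.all_eq_true] at hc
  have h1 := hc g hg
  rw [← ho] at h1
  simp only [Bool.or_eq_true, bne_iff_ne, beq_iff_eq, ne_eq] at h1
  have h2 : Nat.card S % p ^ k = 0 := Nat.mod_eq_zero_of_dvd hk
  tauto

/-- the order of a unitary group -/
theorem real_card {m p f M N : ℕ} (h : Art.Real (.U m) p f M)
    (hN : Art.dd (.U m) (p ^ f) * N = (p ^ f) ^ Art.NN (.U m) * Art.num (.U m) (p ^ f)) : M = N := by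
  have h1 := h.eq
  rw [← hN] at h1
  exact Nat.eq_of_mul_eq_mul_left (Nat.pos_of_ne_zero h.dd_ne) h1

variable (T : OrderTable.{u}) {S : Type u} [Group S] (h : IsKnownSimple' S) (hna : ¬ ∀ a b : S, a * b = b * a) {M : ℕ}
include T h hna

theorem s422 (hM : Art.Real (.U 4) 2 2 M) (hd : Nat.card S ∣ M) (hk : 2 ^ 9 ∣ Nat.card S) : Nat.card S = M := by
  obtain rfl : M = 1018368000 := real_card hM (by decide +kernel)
  rcases of_chk T h hna (l := [(2, 12), (3, 2), (5, 3), (13, 1), (17, 1)]) (A := 1018368000) (B := 1018368000)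
    (by decide +kernel) hd hk (by decide +kernel) with h | h | h <;> exact h

theorem s423 (hM : Art.Real (.U 4) 2 3 M) (hd : Nat.card S ∣ M) (hk : 2 ^ 15 ∣ Nat.card S) : Nat.card S = M := by
  obtain rfl : M = 34693789777920 := real_card hM (by decide +kernel)
  rcases of_chk T h hna (l := [(2, 18), (3, 7), (5, 1), (7, 2), (13, 1), (19, 1)]) (A := 34693789777920)
    (B := 34693789777920) (by decide +kernel) hd hk (by decide +kernel) with h | h | h <;> exact h

theorem s424 (hM : Art.Real (.U 4) 2 4 M) (hd : Nat.card S ∣ M) (hk : 2 ^ 21 ∣ Nat.card S) : Nat.card S = M := by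
  obtain rfl : M = 1148680752699801600 := real_card hM (by decide +kernel)
  rcases of_chk T h hna (l := [(2, 24), (3, 2), (5, 2), (17, 3), (241, 1), (257, 1)]) (A := 1148680752699801600)
    (B := 1148680752699801600) (by decide +kernel) hd hk (by decide +kernel) with h | h | h <;> exact h

theorem s425 (hM : Art.Real (.U 4) 2 5 M) (hd : Nat.card S ∣ M) (hk : 2 ^ 27 ∣ Nat.card S) : Nat.card S = M := by
  obtain rfl : M = 37743154175703357849600 := real_card hM (by decide +kernel)
  rcases of_chk T h hna (l := [(2, 30), (3, 4), (5, 2), (11, 3), (31, 2), (41, 1), (331, 1)])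
    (A := 37743154175703357849600) (B := 37743154175703357849600) (by decide +kernel) hd hk
    (by decide +kernel) with h | h | h <;> exact h

theorem s521 (hM : Art.Real (.U 5) 2 1 M) (hd : Nat.card S ∣ M) (hk : 2 ^ 6 ∣ Nat.card S) :
    Nat.card S = M ∨ Nat.card S = 25920 ∨ Nat.card S = 95040 := by
  obtain rfl : M = 13685760 := real_card hM (by decide +kernel)
  exact of_chk T h hna (l := [(2, 10), (3, 5), (5, 1), (11, 1)]) (by decide +kernel) hd hk (by decide +kernel)

theorem s522 (hM : Art.Real (.U 5) 2 2 M) (hd : Nat.card S ∣ M) (hk : 2 ^ 16 ∣ Nat.card S) : Nat.card S = M := by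
  obtain rfl : M = 53443952640000 := real_card hM (by decide +kernel)
  rcases of_chk T h hna (l := [(2, 20), (3, 2), (5, 4), (13, 1), (17, 1), (41, 1)]) (A := 53443952640000)
    (B := 53443952640000) (by decide +kernel) hd hk (by decide +kernel) with h | h | h <;> exact h

theorem s523 (hM : Art.Real (.U 5) 2 3 M) (hd : Nat.card S ∣ M) (hk : 2 ^ 26 ∣ Nat.card S) : Nat.card S = M := by
  obtain rfl : M = 4656663745464977326080 := real_card hM (by decide +kernel)
  rcases of_chk T h hna (l := [(2, 30), (3, 9), (5, 1), (7, 2), (11, 1), (13, 1), (19, 1), (331, 1)])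
    (A := 4656663745464977326080) (B := 4656663745464977326080) (by decide +kernel) hd hk
    (by decide +kernel) with h | h | h <;> exact h

theorem s621 (hM : Art.Real (.U 6) 2 1 M) (hd : Nat.card S ∣ M) (hk : 2 ^ 11 ∣ Nat.card S) : Nat.card S = M := by
  obtain rfl : M = 9196830720 := real_card hM (by decide +kernel)
  rcases of_chk T h hna (l := [(2, 15), (3, 6), (5, 1), (7, 1), (11, 1)]) (A := 9196830720) (B := 9196830720)
    (by decide +kernel) hd hk (by decide +kernel) with h | h | h <;> exact h

theorem s721 (hM : Art.Real (.U 7) 2 1 M) (hd : Nat.card S ∣ M) (hk : 2 ^ 17 ∣ Nat.card S) : Nat.card S = M := by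
  obtain rfl : M = 227787103272960 := real_card hM (by decide +kernel)
  rcases of_chk T h hna (l := [(2, 21), (3, 8), (5, 1), (7, 1), (11, 1), (43, 1)]) (A := 227787103272960)
    (B := 227787103272960) (by decide +kernel) hd hk (by decide +kernel) with h | h | h <;> exact h

theorem s431 (hM : Art.Real (.U 4) 3 1 M) (hd : Nat.card S ∣ M) (hk : 3 ^ 4 ∣ Nat.card S) :
    Nat.card S = M ∨ Nat.card S = 25920 ∨ Nat.card S = 181440 := by
  obtain rfl : M = 3265920 := real_card hM (by decide +kernel)
  exact of_chk T h hna (l := [(2, 7), (3, 6), (5, 1), (7, 1)]) (by decide +kernel) hd hk (by decide +kernel)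

theorem s432 (hM : Art.Real (.U 4) 3 2 M) (hd : Nat.card S ∣ M) (hk : 3 ^ 10 ∣ Nat.card S) : Nat.card S = M := by
  obtain rfl : M = 101798586432000 := real_card hM (by decide +kernel)
  rcases of_chk T h hna (l := [(2, 9), (3, 12), (5, 3), (41, 1), (73, 1)]) (A := 101798586432000)
    (B := 101798586432000) (by decide +kernel) hd hk (by decide +kernel) with h | h | h <;> exact h

theorem s531 (hM : Art.Real (.U 5) 3 1 M) (hd : Nat.card S ∣ M) (hk : 3 ^ 8 ∣ Nat.card S) : Nat.card S = M := by
  obtain rfl : M = 258190571520 := real_card hM (by decide +kernel)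
  rcases of_chk T h hna (l := [(2, 11), (3, 10), (5, 1), (7, 1), (61, 1)]) (A := 258190571520) (B := 258190571520)
    (by decide +kernel) hd hk (by decide +kernel) with h | h | h <;> exact h

end Cfsg.Agent.H364.SpecialU
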