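import Mathlib
import Cfsg.Agent.H364.Reduce
import Cfsg.Agent.H364.ArithU
import Cfsg.Agent.H364.Slack
import Cfsg.Agent.H364.OutLie
import Cfsg.Agent.H364.SpecialU
import Cfsg.Agent.OrdDiv.Table
import Cfsg.Agent.S0000

/-!
# The groups with the order and the element orders of `PSU_m(q)`, `m ≥ 4` (helper364)
-/

set_option autoImplicit false

namespace Cfsg.Agent.H364.PSUFour

open Subgroup Cfsg Cfsg.Agent.OrdDiv
open Cfsg.Agent.H902 Cfsg.Agent.H364.ArithU Cfsg.Agent.H364.NuOrd Cfsg.Agent.H364.Slack Cfsg.Agent.H364.SpecialU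

universe u v

theorem card_le {m p f MY : ℕ} (hY : Art.Real (.U m) p f MY) : MY ≤ p ^ (f * ((m - 1) * (m + 1))) := by
  have hm : 3 ≤ m := hY.ok.1
  have hq := hY.q_ge
  have h1 := hY.M_le
  have h2 : (Art.num (.U m) (p ^ f)) ^ 2 ≤ (p ^ f) ^ ((m - 1) * (m - 1 + 3)) := Art.numU_sq_le hq (m - 1)
  have h3 : ((p ^ f) ^ Art.NN (.U m)) ^ 2 = (p ^ f) ^ (m * (m - 1)) := by
    rw [← pow_mul]
    congr 1
    exact Nat.div_mul_cancel (Nat.even_mul_pred_self m).two_dvd
  have h4 : MY ^ 2 ≤ (p ^ (f * ((m - 1) * (m + 1)))) ^ 2 := by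
    calc MY ^ 2 ≤ ((p ^ f) ^ Art.NN (.U m) * Art.num (.U m) (p ^ f)) ^ 2 := Nat.pow_le_pow_left h1 2
      _ = (p ^ f) ^ (m * (m - 1)) * (Art.num (.U m) (p ^ f)) ^ 2 := by rw [mul_pow, h3]
      _ ≤ (p ^ f) ^ (m * (m - 1)) * (p ^ f) ^ ((m - 1) * (m - 1 + 3)) := Nat.mul_le_mul_left _ h2
      _ = (p ^ (f * ((m - 1) * (m + 1)))) ^ 2 := by
        rw [← pow_add, ← pow_mul, ← pow_mul]
        congr 1
        obtain ⟨t, rfl⟩ : ∃ t, m = t + 1 := ⟨m - 1, by omega⟩
        rw [Nat.add_sub_cancel]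
        ring
  exact (Nat.pow_le_pow_iff_left (by norm_num)).1 h4

theorem not_slack {p N δ c A H : ℕ} (hp : 2 ≤ p) (h1 : (p ^ (N - δ)) ^ 3 < p ^ c * H) (h2 : H * p ^ δ ≤ p ^ A) :
    3 * (N - δ) + δ < c + A := by
  have h3 : p ^ (3 * (N - δ) + δ) < p ^ (c + A) := by
    calc p ^ (3 * (N - δ) + δ) = (p ^ (N - δ)) ^ 3 * p ^ δ := by rw [pow_add, ← pow_mul, mul_comm 3]
      _ < p ^ c * H * p ^ δ := Nat.mul_lt_mul_of_pos_right h1 (pow_pos (by omega) _)
      _ = p ^ c * (H * p ^ δ) := mul_assoc _ _ _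
      _ ≤ p ^ c * p ^ A := Nat.mul_le_mul_left _ h2
      _ = p ^ (c + A) := (pow_add _ _ _).symm
  exact (Nat.pow_lt_pow_iff_right (by omega)).1 h3

theorem clog_le {p m : ℕ} (hp : 2 ≤ p) (hm : 1 ≤ m) : Nat.clog p m ≤ m - 1 := by
  apply Nat.clog_le_of_le_pow
  have h1 : m - 1 < 2 ^ (m - 1) := Nat.lt_pow_self (by norm_num)
  have h2 : 2 ^ (m - 1) ≤ p ^ (m - 1) := Nat.pow_le_pow_left hp _
  omega

/-- the small cases -/
def Sp (p m f : ℕ) : Prop :=
  (p = 2 ∧ ((m = 4 ∧ f ≤ 5) ∨ (m = 5 ∧ f ≤ 3) ∨ (m = 6 ∧ f = 1) ∨ (m = 7 ∧ f = 1))) ∨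
    (p = 3 ∧ ((m = 4 ∧ f ≤ 2) ∨ (m = 5 ∧ f = 1)))

theorem bounds {p m f δ : ℕ} (hp : p.Prime) (hm : 4 ≤ m) (hf : 1 ≤ f) (h1 : δ ≤ Nat.clog p m + 1)
    (h2 : p ≠ 2 → δ ≤ Nat.clog p m) : 4 * δ + 2 * cc p ≤ f * ((m - 1) * (m - 2)) ∨ Sp p m f := by
  have hp2 := hp.two_le
  have hgen := clog_le hp2 (show 1 ≤ m by omega)
  have hcl : ∀ x, m ≤ p ^ x → Nat.clog p m ≤ x := fun x hx => Nat.clog_le_of_le_pow hx
  have hprod : ∀ c, c ≤ (m - 1) * (m - 2) → c ≤ f * ((m - 1) * (m - 2)) := fun c hc =>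
    hc.trans (Nat.le_mul_of_pos_left _ hf)
  by_cases h3 : p = 2
  · subst h3
    have hcc : cc 2 = 12 := rfl
    rw [hcc]
    by_cases h10 : 10 ≤ m
    · left
      apply hprod
      obtain ⟨t, rfl⟩ : ∃ t, m = t + 10 := ⟨m - 10, by omega⟩
      have e1 : t + 10 - 1 = t + 9 := by omega
      have e2 : t + 10 - 2 = t + 8 := by omega
      rw [e1, e2]
      nlinarith
    · have : m = 4 ∨ m = 5 ∨ m = 6 ∨ m = 7 ∨ m = 8 ∨ m = 9 := by omega
      rcases this with rfl | rfl | rfl | rfl | rfl | rfl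
      · have := hcl 2 (by norm_num)
        by_cases h : f ≤ 5
        · right; exact Or.inl ⟨rfl, Or.inl ⟨rfl, h⟩⟩
        · left; norm_num; omega
      · have := hcl 3 (by norm_num)
        by_cases h : f ≤ 3
        · right; exact Or.inl ⟨rfl, Or.inr (Or.inl ⟨rfl, h⟩)⟩
        · left; norm_num; omega
      · have := hcl 3 (by norm_num)
        by_cases h : f = 1
        · right; exact Or.inl ⟨rfl, Or.inr (Or.inr (Or.inl ⟨rfl, h⟩))⟩
        · left; norm_num; omega
      · have := hcl 3 (by norm_num)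
        by_cases h : f = 1
        · right; exact Or.inl ⟨rfl, Or.inr (Or.inr (Or.inr ⟨rfl, h⟩))⟩
        · left; norm_num; omega
      · have := hcl 3 (by norm_num)
        left; norm_num; omega
      · have := hcl 4 (by norm_num)
        left; norm_num; omega
  have h2' := h2 h3
  by_cases h4 : p = 3
  · subst h4
    have hcc : cc 3 = 3 := rfl
    rw [hcc]
    by_cases h10 : 7 ≤ m
    · left
      apply hprod
      obtain ⟨t, rfl⟩ : ∃ t, m = t + 7 := ⟨m - 7, by omega⟩
      have e1 : t + 7 - 1 = t + 6 := by omega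
      have e2 : t + 7 - 2 = t + 5 := by omega
      rw [e1, e2]
      nlinarith
    · have : m = 4 ∨ m = 5 ∨ m = 6 := by omega
      rcases this with rfl | rfl | rfl
      · have := hcl 2 (by norm_num)
        by_cases h : f ≤ 2
        · right; exact Or.inr ⟨rfl, Or.inl ⟨rfl, h⟩⟩
        · left; norm_num; omega
      · have := hcl 2 (by norm_num)
        by_cases h : f = 1
        · right; exact Or.inr ⟨rfl, Or.inr ⟨rfl, h⟩⟩
        · left; norm_num; omega
      · have := hcl 2 (by norm_num)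
        left; norm_num; omega
  · have hcc : cc p = 1 := by simp [cc, h3, h4]
    rw [hcc]
    have h5 : 5 ≤ p := by
      have : p ≠ 4 := by rintro rfl; norm_num at hp
      omega
    left
    apply hprod
    by_cases h10 : 7 ≤ m
    · obtain ⟨t, rfl⟩ : ∃ t, m = t + 7 := ⟨m - 7, by omega⟩
      have e1 : t + 7 - 1 = t + 6 := by omega
      have e2 : t + 7 - 2 = t + 5 := by omega
      rw [e1, e2]
      nlinarith
    · have : m = 4 ∨ m = 5 ∨ m = 6 := by omega
      rcases this with rfl | rfl | rfl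
      · have := hcl 1 (by rw [pow_one]; omega)
        norm_num; omega
      · have := hcl 1 (by rw [pow_one]; omega)
        norm_num; omega
      · have h25 : 5 ^ 2 ≤ p ^ 2 := Nat.pow_le_pow_left h5 2
        have := hcl 2 (by omega)
        norm_num; omega

theorem psu_real_univ {F : Type v} [Field F] [Fintype F] {m p f : ℕ} (hp : p.Prime) (hf : 1 ≤ f)
    (hF : Fintype.card F = (p ^ f) ^ 2) (hm : 4 ≤ m) : Art.Real (.U m) p f (Nat.card (PSU m F (p ^ f))) := by
  obtain ⟨K, _, _, hK, ⟨e⟩⟩ := PSUUnique.exists_type (n := m) hF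
  rw [Nat.card_congr e.toEquiv]
  exact Names.psu_real hp hf hK (by omega) (fun h => by omega)

/-- a simple section of full order is the whole group -/
theorem equiv_of_card {G : Type u} [Group G] [Finite G] (K : Subgroup G) [K.Normal] (H : Subgroup (G ⧸ K))
    (h : Nat.card H = Nat.card G) : Nonempty (G ≃* H) := by
  have h1 : Nat.card K * (H.index * Nat.card H) = Nat.card G := by
    rw [mul_comm H.index, Subgroup.card_mul_index, ← Subgroup.card_mul_index K, Subgroup.index_eq_card]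
  have hG : 0 < Nat.card G := Nat.card_pos
  have h2 : Nat.card K * H.index = 1 := by
    have h3 : Nat.card K * H.index * Nat.card G = 1 * Nat.card G := by
      rw [one_mul]
      conv_rhs => rw [← h1]
      rw [h, mul_assoc]
    exact Nat.eq_of_mul_eq_mul_right hG h3
  have hK : K = ⊥ := Subgroup.card_eq_one.1 (Nat.eq_one_of_mul_eq_one_right h2)
  have hH : H = ⊤ := Subgroup.index_eq_one.1 (Nat.eq_one_of_mul_eq_one_left h2)
  subst hK
  subst hH
  exact ⟨QuotientGroup.quotientBot.symm.trans Subgroup.topEquiv.symm⟩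

theorem fac_of {p A k : ℕ} (hp : p.Prime) (hA : A ≠ 0) (h1 : p ^ k ∣ A) (h2 : ¬ p ^ (k + 1) ∣ A) :
    A.factorization p = k := by
  have h3 := (hp.pow_dvd_iff_le_factorization hA).1 h1
  by_contra hcon
  exact h2 ((hp.pow_dvd_iff_le_factorization hA).2 (by omega))

/-- the prime `r` in `PSU_5(2)` -/
theorem r_eleven {r : ℕ} (hr : r.Prime) (h : ∀ n, r ∣ 2 ^ n - 1 ↔ 10 ∣ n) : r = 11 := by
  have h1 : r ∣ 3 * (11 * 31) := (h 10).2 dvd_rfl
  rcases hr.dvd_mul.1 h1 with h2 | h2
  · have h3 := (Nat.prime_dvd_prime_iff_eq hr (by norm_num)).1 h2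
    subst h3
    have := (h 2).1 (by norm_num)
    omega
  · rcases hr.dvd_mul.1 h2 with h3 | h3
    · exact (Nat.prime_dvd_prime_iff_eq hr (by norm_num)).1 h3
    · have h4 := (Nat.prime_dvd_prime_iff_eq hr (by norm_num)).1 h3
      subst h4
      have := (h 5).1 (by norm_num)
      omega

/-- the prime `r` in `PSU_4(3)` -/
theorem r_seven {r : ℕ} (hr : r.Prime) (h : ∀ n, r ∣ 3 ^ n - 1 ↔ 6 ∣ n) : r = 7 := by
  have h1 : r ∣ 2 ^ 3 * (7 * 13) := (h 6).2 dvd_rfl
  rcases hr.dvd_mul.1 h1 with h2 | h2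
  · have h3 := (Nat.prime_dvd_prime_iff_eq hr Nat.prime_two).1 (hr.dvd_of_dvd_pow h2)
    subst h3
    have := (h 1).1 (by norm_num)
    omega
  · rcases hr.dvd_mul.1 h2 with h3 | h3
    · exact (Nat.prime_dvd_prime_iff_eq hr (by norm_num)).1 h3
    · have h4 := (Nat.prime_dvd_prime_iff_eq hr (by norm_num)).1 h3
      subst h4
      have := (h 3).1 (by norm_num)
      omega

/-- **The structure of `G`.** -/
theorem core {G : Type u} [Group G] [Finite G] {F : Type v} [Field F] [Fintype F] {m p f : ℕ} (hp : p.Prime)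
    (hf : 1 ≤ f) (hF : Fintype.card F = (p ^ f) ^ 2) (hm : 4 ≤ m) (h42 : ¬ (m = 4 ∧ p = 2 ∧ f = 1))
    (hspec : ∀ x : G, ∃ y : PSU m F (p ^ f), orderOf y = orderOf x)
    (hcard : Nat.card G = Nat.card (PSU m F (p ^ f))) :
    ∃ (K : Subgroup G) (_ : K.Normal) (H : Subgroup (G ⧸ K)), IsSimpleGroup H ∧ (¬ ∀ x y : H, x * y = y * x) ∧
      Nat.card H = Nat.card G := by
  have hpF : Fact p.Prime := ⟨hp⟩
  have hchar : CharP F p := OutLie.charP_of_card hp (f := f * 2) (by omega) (by rw [hF, ← pow_mul])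
  have hY : Art.Real (.U m) p f (Nat.card G) := by rw [hcard]; exact psu_real_univ hp hf hF hm
  have hdat := dat m hm
  have hk4 := hdat.k4
  have hodd := hdat.odd
  have hko := hdat.ko
  have hov : oo m * kk m = m * (m - 1) := by
    rcases hko with ⟨h1, h2⟩ | ⟨h1, h2⟩
    · rw [← h1, show oo m = m - 1 by omega, mul_comm]
    · rw [show oo m = m by omega, show kk m = m - 1 by omega]
  obtain ⟨r, a, hr, hrp, hrm, hr1, ha3, hro, ha⟩ := exists_prime hp hf (v := oo m) (by omega) (fun h => h42 (by omega))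
  have ha' : a = f * (2 * oo m) := by
    rcases ha with h | ⟨-, -, h, -⟩
    · rw [h, al_odd hodd]
    · rw [h] at hodd; exact absurd hodd (by decide)
  obtain ⟨s, b, hs, hsp, hsm, hs1, hb3, hso, hb⟩ := exists_prime hp hf (v := kk m) (by omega) (fun h => by omega)
  have hrq : ¬ r ∣ p ^ f := fun h => hrp ((Nat.prime_dvd_prime_iff_eq hr hp).1 (hr.dvd_of_dvd_pow h))
  have hsq : ¬ s ∣ p ^ f := fun h => hsp ((Nat.prime_dvd_prime_iff_eq hs hp).1 (hs.dvd_of_dvd_pow h))
  have hEr : NoEdge G r p := fun x hx => by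
    obtain ⟨y, hy⟩ := hspec x
    exact psu_noEdge hF p hm hr hrq (by rw [hro]; omega) y (hy.trans hx)
  have hEs : NoEdge G s p := fun x hx => by
    obtain ⟨y, hy⟩ := hspec x
    exact psu_noEdge hF p hm hs hsq (by rw [hso]; omega) y (hy.trans hx)
  have hrG : r ∣ Nat.card G := by
    rw [hcard]; exact prime_dvd_psu hF (by omega) hr (by rw [hro]; omega) (by rw [hro]; omega)
  have hsG : s ∣ Nat.card G := by
    rw [hcard]; exact prime_dvd_psu hF (by omega) hs (by rw [hso]; omega) (by rw [hso]; omega)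
  have hN : (Nat.card G).factorization p = f * (m * (m - 1) / 2) := fac_self hY
  have hev : m * (m - 1) / 2 * 2 = m * (m - 1) := Nat.div_mul_cancel (Nat.even_mul_pred_self m).two_dvd
  have hN2 : 2 * (Nat.card G).factorization p = f * (m * (m - 1)) := by
    calc _ = f * (m * (m - 1) / 2 * 2) := by rw [hN]; ring
      _ = _ := by rw [hev]
  have hmm : 12 ≤ m * (m - 1) := by
    calc 12 = 4 * 3 := by norm_num
      _ ≤ m * (m - 1) := Nat.mul_le_mul hm (by omega)
  have hlcm : (Nat.card G).factorization p < Nat.lcm a b := by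
    rcases hb with hb | ⟨rfl, rfl, hk6, rfl, -⟩
    · have h1 := lt_lcm (o := oo m) (v := kk m) (f := f) hodd hdat.even (by
        rw [Nat.coprime_iff_gcd_eq_one, ← Nat.dvd_one]
        rcases hko with ⟨-, h1⟩ | ⟨-, h1⟩
        · exact ShapeU.gcd_dvd_of (x := 1) (y := 1) (Or.inr (by omega))
        · exact ShapeU.gcd_dvd_of (x := 1) (y := 1) (Or.inl (by omega))) (by omega) (by omega)
      rw [hov, al_odd hodd, ← ha', ← hb, ← hN2] at h1
      have : 12 ≤ f * (m * (m - 1)) := hmm.trans (Nat.le_mul_of_pos_left _ hf)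
      omega
    · have h1 : (m = 6 ∧ oo m = 5) ∨ (m = 7 ∧ oo m = 7) := by omega
      rcases h1 with ⟨h1, h2⟩ | ⟨h1, h2⟩
      · rw [hN, ha', h2, h1]; norm_num
      · rw [hN, ha', h2, h1]; norm_num
  set e := Nat.clog p m with he
  have hme : m ≤ p ^ e := Nat.le_pow_clog hp.one_lt m
  have hexp : ∀ x : G, ∀ j, orderOf x = p ^ j → j ≤ e := by
    intro x j hx
    obtain ⟨y, hy⟩ := hspec x
    have h1 := Unitary.psu_pow_eq_one hF (by omega) p hme (hy.trans hx)
    have h2 := orderOf_dvd_of_pow_eq_one h1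
    rw [hy, hx] at h2
    exact (Nat.pow_dvd_pow_iff_le_right hp.one_lt).1 h2
  have heN : e + 1 < (Nat.card G).factorization p := by
    have h1 := clog_le hp.two_le (show 1 ≤ m by omega)
    have h2 : m * 3 ≤ m * (m - 1) := Nat.mul_le_mul_left _ (by omega)
    have h3 : m * (m - 1) ≤ f * (m * (m - 1)) := Nat.le_mul_of_pos_left _ hf
    omega
  obtain ⟨K, hKn, hpK, hrK, hsK, H, hHn, hHs, hHna, hHG, hout, hEr', hEs', hrs, hi1, hi2, har, hbs, hfr, hfs⟩ :=
    reduce hp hr hs hrp.symm hsp.symm hrG hsG hEr hEs (fun n h => (hrm n).1 h) (fun n h => (hsm n).1 h) hlcm hexp heN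
  refine ⟨K, hKn, H, hHs, hHna, ?_⟩
  have hK0 : Nat.card K ≠ 0 := Nat.card_pos.ne'
  have hH0 : Nat.card H ≠ 0 := Nat.card_pos.ne'
  have hI0 : H.index ≠ 0 := Subgroup.index_ne_zero_of_finite
  set δ := H.index.factorization p with hδdef
  have hδ : (Nat.card H).factorization p + δ = (Nat.card G).factorization p := by
    rw [← hHG, Nat.factorization_mul hK0 (Nat.mul_ne_zero hI0 hH0), Finsupp.add_apply,
      Nat.factorization_eq_zero_of_not_dvd hpK, Nat.factorization_mul hI0 hH0, Finsupp.add_apply, hδdef]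
    omega
  have hpI : p ^ δ ∣ H.index := Nat.ordProj_dvd _ _
  have hHd : Nat.card H ∣ Nat.card G := by rw [← hHG]; exact (Dvd.intro_left _ rfl).trans (Dvd.intro_left _ rfl)
  have hpH : ∀ k, k + δ ≤ (Nat.card G).factorization p → p ^ k ∣ Nat.card H := fun k hk =>
    (pow_dvd_pow p (by omega)).trans (Nat.ordProj_dvd (Nat.card H) p)
  have hknown := Cfsg.Agent.S0000.result (G := H)
  rcases bounds hp hm hf hi1 hi2 with hbd | hsp'
  · -- the general case
    have hlie : IsLieTypeChar p H := by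
      rcases known_slack table hknown hHna hp with h | h
      · exact h
      exfalso
      have h1 : H365.PPart.pt p (Nat.card H) = p ^ ((Nat.card G).factorization p - δ) := by
        rw [H365.PPart.pt]; congr 1; omega
      rw [h1] at h
      have h2 : Nat.card H * p ^ δ ≤ p ^ (f * ((m - 1) * (m + 1))) := by
        have h3 : Nat.card H * p ^ δ ≤ Nat.card G := by
          calc Nat.card H * p ^ δ ≤ Nat.card H * H.index :=
                Nat.mul_le_mul_left _ (Nat.le_of_dvd (Nat.pos_of_ne_zero hI0) hpI)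
            _ = H.index * Nat.card H := mul_comm _ _
            _ ≤ Nat.card K * (H.index * Nat.card H) := Nat.le_mul_of_pos_left _ (Nat.pos_of_ne_zero hK0)
            _ = Nat.card G := hHG
        exact h3.trans (card_le hY)
      have h3 := not_slack hp.two_le h h2
      obtain ⟨t, rfl⟩ : ∃ t, m = t + 2 := ⟨m - 2, by omega⟩
      have e1 : t + 2 - 1 = t + 1 := by omega
      have e2 : t + 2 - 2 = t := by omega
      rw [e1] at hN2 h3
      rw [e1, e2] at hbd
      have h4 : 6 * (Nat.card G).factorization p = f * (3 * ((t + 2) * (t + 1))) := by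
        calc _ = 3 * (2 * (Nat.card G).factorization p) := by ring
          _ = _ := by rw [hN2]; ring
      have h5 : f * (3 * ((t + 2) * (t + 1))) = f * ((t + 1) * t) + 2 * (f * ((t + 1) * (t + 2 + 1))) := by ring
      omega
    obtain ⟨g, X, f', hg, hreal, hX⟩ := LieNam.lie_nam table hp hlie
    obtain ⟨c, hc1, hc2, hc3⟩ := OutLie.card_out hHna hg hreal hX
    have hI : OutDat X p f' H.index := ⟨c, by rw [← hc1]; exact hout, hc2, hc3⟩
    have hor : ∀ {t w : ℕ}, (∀ n, t ∣ p ^ n - 1 ↔ w ∣ n) → orderOf (p : ZMod t) = w := by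
      intro t w h
      apply Nat.dvd_antisymm
      · rw [← Cfsg.Agent.Lib.Zsigmondy.dvd_pow_sub_one_iff hp.one_le, h]
      · rw [← h, Cfsg.Agent.Lib.Zsigmondy.dvd_pow_sub_one_iff hp.one_le]
    have hsplit : ∀ {t : ℕ}, t.Prime → t ∣ Nat.card G → ¬ t ∣ Nat.card K → t ∣ Nat.card H ∨ t ∣ H.index := by
      intro t ht h1 h2
      rw [← hHG] at h1
      rcases ht.dvd_mul.1 h1 with h3 | h3
      · exact absurd h3 h2
      · exact (ht.dvd_mul.1 h3).symm
    obtain ⟨rfl, rfl⟩ := ArithU.main hY hm h42 hX hHd hδ hI hpI hr hrp (by rw [hor hrm, ha'])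
      (by rw [← ha']; exact hr1) (hsplit hr hrG hrK) hs hsp (hor hsm) hs1 (hsplit hs hsG hsK)
      (by rcases hb with h | ⟨h1, h2, h3, -⟩
          · exact Or.inl h
          · exact Or.inr ⟨h1, h2, h3⟩)
    have h1 := hX.eq
    rw [← hY.eq] at h1
    exact Nat.eq_of_mul_eq_mul_left (Nat.pos_of_ne_zero hY.dd_ne) h1
  · -- the small cases
    have hcl : ∀ x, m ≤ p ^ x → e ≤ x := fun x hx => Nat.clog_le_of_le_pow hx
    rcases hsp' with ⟨rfl, ⟨rfl, hf5⟩ | ⟨rfl, hf3⟩ | ⟨rfl, rfl⟩ | ⟨rfl, rfl⟩⟩ | ⟨rfl, ⟨rfl, hf2⟩ | ⟨rfl, rfl⟩⟩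
    · have he2 := hcl 2 (by norm_num)
      norm_num at hN
      have hf1 : f ≠ 1 := fun h => h42 ⟨rfl, rfl, h⟩
      have : f = 2 ∨ f = 3 ∨ f = 4 ∨ f = 5 := by omega
      rcases this with rfl | rfl | rfl | rfl
      · exact s422 table hknown hHna hY hHd (hpH 9 (by omega))
      · exact s423 table hknown hHna hY hHd (hpH 15 (by omega))
      · exact s424 table hknown hHna hY hHd (hpH 21 (by omega))
      · exact s425 table hknown hHna hY hHd (hpH 27 (by omega))
    · have he2 := hcl 3 (by norm_num)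
      norm_num at hN
      have : f = 1 ∨ f = 2 ∨ f = 3 := by omega
      rcases this with rfl | rfl | rfl
      · have hoo : oo 5 = 5 := by decide
        rw [hoo] at ha'
        norm_num at ha'
        have hr11 := r_eleven hr (by rw [← ha']; exact hrm)
        subst hr11
        rcases s521 table hknown hHna hY hHd (hpH 6 (by omega)) with h | h | h
        · exact h
        · exfalso
          rw [h] at har
          have h1 := har (by norm_num)
          rw [fac_of (k := 6) Nat.prime_two (by norm_num) (by norm_num) (by norm_num), ha'] at h1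
          omega
        · exfalso
          rw [h] at hfr hδ
          have h1 := hfr (by norm_num)
          rw [fac_of (k := 6) Nat.prime_two (by norm_num) (by norm_num) (by norm_num), hN] at hδ
          rw [fac_of (k := 1) (p := 11) (by norm_num) (by norm_num) (by norm_num) (by norm_num),
            show δ = 4 by omega] at h1
          norm_num at h1
      · exact s522 table hknown hHna hY hHd (hpH 16 (by omega))
      · exact s523 table hknown hHna hY hHd (hpH 26 (by omega))
    · have he2 := hcl 3 (by norm_num)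
      norm_num at hN
      exact s621 table hknown hHna hY hHd (hpH 11 (by omega))
    · have he2 := hcl 3 (by norm_num)
      norm_num at hN
      exact s721 table hknown hHna hY hHd (hpH 17 (by omega))
    · have he2 := hcl 2 (by norm_num)
      have hi2' := hi2 (by norm_num)
      norm_num at hN
      have : f = 1 ∨ f = 2 := by omega
      rcases this with rfl | rfl
      · have hoo : oo 4 = 3 := by decide
        rw [hoo] at ha'
        norm_num at ha'
        have hr7 := r_seven hr (by rw [← ha']; exact hrm)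
        subst hr7
        rcases s431 table hknown hHna hY hHd (hpH 4 (by omega)) with h | h | h
        · exact h
        · exfalso
          rw [h] at har
          have h1 := har (by norm_num)
          rw [fac_of (k := 4) Nat.prime_three (by norm_num) (by norm_num) (by norm_num), ha'] at h1
          omega
        · exfalso
          rw [h] at hfr hδ
          have h1 := hfr (by norm_num)
          rw [fac_of (k := 4) Nat.prime_three (by norm_num) (by norm_num) (by norm_num), hN] at hδ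
          rw [fac_of (k := 1) (p := 7) (by norm_num) (by norm_num) (by norm_num) (by norm_num),
            show δ = 2 by omega] at h1
          norm_num at h1
      · exact s432 table hknown hHna hY hHd (hpH 10 (by omega))
    · have he2 := hcl 2 (by norm_num)
      have hi2' := hi2 (by norm_num)
      norm_num at hN
      exact s531 table hknown hHna hY hHd (hpH 8 (by omega))

/-- **Recognition of `PSU_m(q)`, `m ≥ 4`, `(m, q) ≠ (4, 2)`.** -/
theorem recog {G : Type u} [Group G] [Finite G] {F : Type v} [Field F] [Fintype F] {m p f : ℕ} (hp : p.Prime)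
    (hf : 1 ≤ f) (hF : Fintype.card F = (p ^ f) ^ 2) (hm : 4 ≤ m) (h42 : ¬ (m = 4 ∧ p = 2 ∧ f = 1))
    (hspec : ∀ x : G, ∃ y : PSU m F (p ^ f), orderOf y = orderOf x)
    (hcard : Nat.card G = Nat.card (PSU m F (p ^ f))) : Nonempty (G ≃* PSU m F (p ^ f)) := by
  obtain ⟨K, hKn, H, hHs, hHna, hHG⟩ := core hp hf hF hm h42 hspec hcard
  obtain ⟨e⟩ := equiv_of_card K H hHG
  obtain ⟨e'⟩ := PSUUnique.psu_unique (G := H) hF (by omega) (fun h => by omega) (hHG.trans hcard)
  exact ⟨e.trans e'⟩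

end Cfsg.Agent.H364.PSUFour
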