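import Mathlib
import Cfsg.Agent.H72.AdjPSU
import Cfsg.Agent.H364.Iso3
import Cfsg.Agent.H364.PSUFour

/-!
# The groups with the order and the element orders of `PSU_4(2)` (helper364)
-/

set_option autoImplicit false

namespace Cfsg.Agent.H364.FourTwo

open Subgroup Cfsg Cfsg.Agent.OrdDiv Matrix
open Cfsg.Agent.H103.UniBlock Cfsg.Agent.H72.AdjPSU Cfsg.Agent.H186

universe u v

section nine

variable {F : Type*} [Field F] [Fintype F]

/-- an element of order `9` in `PSU_4(2)` -/
theorem exists_nine (hF : Fintype.card F = 2 ^ 2) : ∃ z : PSU 4 F 2, orderOf z = 9 := by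
  have hchar : CharP F 2 := OutLie.charP_of_card Nat.prime_two (f := 2) (by norm_num) hF
  have hp2 : Fact (Nat.Prime 2) := ⟨Nat.prime_two⟩
  obtain ⟨A, hA, ho⟩ := exists_singer_unitary (p := 2) (f := 1) (q := 2) (m := 3) (by norm_num) hF (by decide)
  norm_num at ho
  set M : Matrix (Fin 3) (Fin 3) F := (A : Matrix (Fin 3) (Fin 3) F) with hM
  have hdet : M.det ^ 3 = 1 := by simpa using det_pow hF hA
  have hd0 : M.det ≠ 0 := fun h => by rw [h] at hdet; norm_num at hdet
  set b : F := (M.det)⁻¹ with hb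
  have hb3 : b ^ 3 = 1 := by rw [hb, inv_pow, hdet, inv_one]
  have hB : Uni 2 (b • (1 : Matrix (Fin 1) (Fin 1) F)) := by
    refine ⟨1, isUnit_one, ?_⟩
    ext i j
    fin_cases i
    fin_cases j
    rw [mul_one, Matrix.mul_apply, Fin.sum_univ_one]
    simp only [st_apply, Matrix.smul_apply, Matrix.one_apply_eq, smul_eq_mul, mul_one, Fin.isValue,
      Fin.zero_eta]
    rw [← pow_succ, hb3]
  refine exists_order_of_index (n := 4) hF (by norm_num) (finSumFinEquiv (m := 3) (n := 1)).symm
    (A := fromBlocks M 0 0 (b • 1)) (uni_fromBlocks (by norm_num) hA hB) ?_ (N := 9) ?_ 9 dvd_rfl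
  · rw [Matrix.det_fromBlocks_zero₂₁, Matrix.det_smul, Matrix.det_one, hb]
    simp [hd0]
  · intro k c hk
    rw [fromBlocks_pow] at hk
    obtain ⟨h1, h2⟩ := fromBlocks_eq_smul hk
    have h3 : b ^ k = c := by
      have h4 := congrFun (congrFun h2 0) 0
      rw [smul_pow, one_pow] at h4
      simpa using h4
    have h4 : M.det ^ k = c ^ 3 := by
      have := congrArg Matrix.det h1
      rw [Matrix.det_pow, Matrix.det_smul, Matrix.det_one] at this
      simpa using this
    have hc0 : c ≠ 0 := by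
      rw [← h3]; exact pow_ne_zero _ (inv_ne_zero hd0)
    have h5 : c ^ 4 = 1 := by
      have h6 : c * M.det ^ k = 1 := by
        rw [← h3, ← mul_pow, hb, inv_mul_cancel₀ hd0, one_pow]
      rw [h4] at h6
      rw [← h6]; ring
    have h7 : c ^ 3 = 1 := by
      rw [← h3, ← pow_mul, mul_comm, pow_mul, hb3, one_pow]
    have hc1 : c = 1 := by
      have : c ^ 4 = c ^ 3 * c := by ring
      rw [this, h7, one_mul] at h5
      exact h5
    rw [hc1, one_smul] at h1
    rw [← ho]
    apply orderOf_dvd_of_pow_eq_one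
    exact Units.ext (by rw [Units.val_pow_eq_pow_val]; exact h1)

end nine

/-- A normal subgroup of order `81`, acted on without fixed points by an element of order `5`, has exponent `3`. -/
theorem exp_three {Γ : Type*} [Group Γ] [Finite Γ] (P : Subgroup Γ) [P.Normal] (hP : Nat.card P = 3 ^ 4)
    (h5 : 5 ∣ Nat.card Γ) (hE : NoEdge Γ 5 3) : ∀ x ∈ P, x ^ 3 = 1 := by
  have key : ∀ C : Subgroup Γ, C.Normal → C ≤ P → C = ⊥ ∨ C = P := by
    intro C hC hCP
    have h1 : Nat.card C ∣ 3 ^ 4 := hP ▸ Subgroup.card_dvd_of_le hCP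
    obtain ⟨j, hj, hj2⟩ := (Nat.dvd_prime_pow Nat.prime_three).1 h1
    have h2 : ¬ 5 ∣ Nat.card C := fun h => by
      rw [hj2] at h
      have := (Nat.prime_five).dvd_of_dvd_pow h
      norm_num at this
    have h3 := congr_one C Nat.prime_five Nat.prime_three (by norm_num) h2 hE
    have h4 : 5 ∣ 3 ^ (Nat.card C).factorization 3 - 1 :=
      (dvd_pow_self 5 (Nat.prime_five.factorization_pos_of_dvd Nat.card_pos.ne' h5).ne').trans h3
    rw [hj2, Nat.prime_three.factorization_pow, Finsupp.single_eq_same] at h4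
    have : j = 0 ∨ j = 4 := by
      interval_cases j <;> simp_all
    rcases this with rfl | rfl
    · left; exact Subgroup.card_eq_one.1 (by rw [hj2, pow_zero])
    · right; exact Subgroup.eq_of_le_of_card_ge hCP (by rw [hj2, hP])
  have hpg : IsPGroup 3 P := IsPGroup.of_card hP
  have hF3 : Fact (Nat.Prime 3) := ⟨Nat.prime_three⟩
  have hnt : Nontrivial P := by
    rw [← Finite.one_lt_card_iff_nontrivial, hP]; norm_num
  have hcomm : ∀ x ∈ P, ∀ y ∈ P, x * y = y * x := by
    have h1 : ⁅P, P⁆ = ⊥ := by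
      rcases key ⁅P, P⁆ inferInstance (Subgroup.commutator_le_right P P) with h | h
      · exact h
      · exfalso
        have hnil : Group.IsNilpotent P := hpg.isNilpotent
        have hsol : Group.IsSolvable P := inferInstance
        have h2 : commutator P < ⊤ := Group.IsSolvable.commutator_lt_top_of_nontrivial P
        apply h2.ne
        rw [eq_top_iff]
        intro x _
        have h3 : (x : Γ) ∈ ⁅P, P⁆ := by rw [h]; exact x.2
        rw [← Subgroup.map_subtype_commutator] at h3
        obtain ⟨y, hy, hyx⟩ := Subgroup.mem_map.1 h3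
        rwa [← Subtype.ext hyx]
    intro x hx y hy
    have h2 := Subgroup.commutator_eq_bot_iff_le_centralizer.1 h1 hx
    exact (Subgroup.mem_centralizer_iff.1 h2 y hy).symm
  let C : Subgroup Γ :=
    { carrier := {x | x ∈ P ∧ x ^ 3 = 1}
      one_mem' := ⟨P.one_mem, one_pow 3⟩
      mul_mem' := fun {x y} hx hy => ⟨P.mul_mem hx.1 hy.1, by
        have : Commute x y := hcomm x hx.1 y hy.1
        rw [this.mul_pow, hx.2, hy.2, one_mul]⟩
      inv_mem' := fun {x} hx => ⟨P.inv_mem hx.1, by rw [inv_pow, hx.2, inv_one]⟩ }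
  have hC : C.Normal := ⟨fun x hx g => ⟨(inferInstance : P.Normal).conj_mem x hx.1 g, by
    rw [conj_pow, hx.2]; group⟩⟩
  rcases key C hC (fun x hx => hx.1) with h | h
  · exfalso
    obtain ⟨x, hx⟩ := exists_prime_orderOf_dvd_card' 3 (show 3 ∣ Nat.card P by rw [hP]; norm_num)
    have h1 : (x : Γ) ∈ C := ⟨x.2, by
      have := pow_orderOf_eq_one (x : Γ)
      rwa [Subgroup.orderOf_coe, hx] at this⟩
    rw [h, Subgroup.mem_bot] at h1
    have h2 : x = 1 := Subtype.ext h1
    rw [h2, orderOf_one] at hx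
    omega
  · intro x hx
    rw [← h] at hx
    exact hx.2

theorem cands_25920 : (cands [(2,6),(3,4),(5,1)] 25920).all (fun g => (ordN g % 5 != 0) || (ordN g == 60) || (ordN g == 360) ||
    (ordN g == 25920)) = true := by decide +kernel

/-- A group of order `25920` with an element of order `9` and without elements of order `10`, `15`. -/
theorem main {G : Type u} [Group G] [Finite G] (hG : Nat.card G = 25920) (h9 : ∃ g : G, orderOf g = 9)
    (h52 : NoEdge G 5 2) (h53 : NoEdge G 5 3) :
    ∃ (K : Subgroup G) (_ : K.Normal) (H : Subgroup (G ⧸ K)), IsSimpleGroup H ∧ (¬ ∀ x y : H, x * y = y * x) ∧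
      Nat.card H = Nat.card G := by
  have hF5 : Fact (Nat.Prime 5) := ⟨Nat.prime_five⟩
  have hF3 : Fact (Nat.Prime 3) := ⟨Nat.prime_three⟩
  have h5G : 5 ∣ Nat.card G := by rw [hG]; norm_num
  have hEs : ∀ s : ℕ, s.Prime → ¬ s ∣ 5 → NoEdge G 5 s := by
    intro s hs hs5 x hx
    have h1 : 5 * s ∣ 25920 := by rw [← hG, ← hx]; exact orderOf_dvd_natCard x
    have h2 : s ∣ 2 ^ 6 * 3 ^ 4 := by
      have : 5 * s ∣ 5 * (2 ^ 6 * 3 ^ 4) := h1
      exact Nat.dvd_of_mul_dvd_mul_left (by norm_num) this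
    rcases hs.dvd_mul.1 h2 with h3 | h3
    · have := (Nat.prime_dvd_prime_iff_eq hs Nat.prime_two).1 (hs.dvd_of_dvd_pow h3)
      subst this
      exact h52 x hx
    · have := (Nat.prime_dvd_prime_iff_eq hs Nat.prime_three).1 (hs.dvd_of_dvd_pow h3)
      subst this
      exact h53 x hx
  obtain ⟨t, ht⟩ := exists_prime_orderOf_dvd_card' 5 h5G
  have hIso : Isol G (zpowers t) 5 := by
    refine ⟨inferInstance, by rw [Nat.card_zpowers, ht], by rw [hG]; norm_num, ?_⟩
    intro r s hr hs hr5 hs5
    have : r = 5 := (Nat.prime_dvd_prime_iff_eq hr Nat.prime_five).1 hr5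
    subst this
    exact hEs s hs hs5
  obtain ⟨K, hKn, n, hK5, hKt, hn, hcases⟩ := hIso.struct (by norm_num) (by norm_num)
  obtain ⟨hn1, hn2⟩ := hn 5 Nat.prime_five dvd_rfl
  have hn4 : n = 4 := by
    have h1 : n ≤ 4 := Nat.le_of_dvd (by norm_num) hn1
    rw [hG] at hn2
    interval_cases n <;> revert hn1 hn2 <;> decide
  subst hn4
  have hKG : Nat.card K * (Nat.card (G ⧸ K)) = 25920 := by
    rw [← hG, ← Subgroup.card_mul_index K, Subgroup.index_eq_card]
  have h5K : ¬ 5 ∣ Nat.card K := fun h => by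
    have := Nat.dvd_gcd h (dvd_refl 5)
    rw [hK5] at this
    norm_num at this
  have hv3 := hKt 3 Nat.prime_three
  rcases hcases with h | ⟨N, hNn, hNs, hNna, hNc, h5N, n', hn', hnn⟩
  · exfalso
    have hK : Nat.card K = 1296 := by omega
    have hQ : Nat.card (G ⧸ K) = 20 := by
      rw [hK] at hKG; omega
    obtain ⟨g, hg⟩ := h9
    have hgK : g ∈ K := by
      rw [← QuotientGroup.eq_one_iff]
      have h1 : orderOf (g : G ⧸ K) ∣ 9 := by
        rw [← hg]; exact orderOf_map_dvd (QuotientGroup.mk' K) g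
      have h2 : orderOf (g : G ⧸ K) ∣ 20 := by rw [← hQ]; exact orderOf_dvd_natCard _
      have h3 := Nat.dvd_gcd h1 h2
      norm_num at h3
      exact (QuotientGroup.eq_one_iff g).2 h3
    have hzp : IsPGroup 3 (zpowers (⟨g, hgK⟩ : K)) := by
      apply IsPGroup.of_card (n := 2)
      rw [Nat.card_zpowers, Subgroup.orderOf_mk, hg]; norm_num
    obtain ⟨Q, hQ'⟩ := hzp.exists_le_sylow
    set Q' : Subgroup G := (Q : Subgroup K).map K.subtype with hQdef
    have hcQ : Nat.card Q' = 3 ^ 4 := by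
      rw [hQdef, Subgroup.card_map_of_injective K.subtype_injective, Q.card_eq_multiplicity, hK]
      congr 1
      exact PSUFour.fac_of Nat.prime_three (by norm_num) (by norm_num) (by norm_num)
    set L : Subgroup G := normalizer (Q' : Set G) with hL
    have hQL : Q' ≤ L := Subgroup.le_normalizer
    have h5L : 5 ∣ Nat.card L := by
      have h1 := factorization_normalizer (K := K) Nat.prime_five h5K Q
      have h2 : 0 < (Nat.card G).factorization 5 := Nat.prime_five.factorization_pos_of_dvd Nat.card_pos.ne' h5G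
      rw [← h1] at h2
      exact Nat.dvd_of_factorization_pos h2.ne'
    have hnorm : (Q'.subgroupOf L).Normal := Subgroup.normal_in_normalizer
    have h1 := exp_three (Q'.subgroupOf L) (by
      rw [Nat.card_congr (Subgroup.subgroupOfEquivOfLe hQL).toEquiv, hcQ]) h5L (noEdge_subgroup L h53)
    have hgQ : g ∈ Q' := by
      rw [hQdef, Subgroup.mem_map]
      exact ⟨⟨g, hgK⟩, hQ' (mem_zpowers _), rfl⟩
    have h2 := h1 ⟨g, hQL hgQ⟩ (Subgroup.mem_subgroupOf.2 hgQ)
    have h3 : g ^ 3 = 1 := congrArg Subtype.val h2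
    have h4 := orderOf_dvd_of_pow_eq_one h3
    rw [hg] at h4
    norm_num at h4
  · have hN : Nat.card N * N.index = Nat.card (G ⧸ K) := Subgroup.card_mul_index N
    have hNd : Nat.card N ∣ 25920 := by
      rw [← hKG, ← hN]
      exact (Dvd.intro _ rfl).trans (Dvd.intro_left _ rfl)
    refine ⟨K, hKn, N, hNs, hNna, ?_⟩
    obtain ⟨g, hg, -, hord⟩ := exists_good table (Cfsg.Agent.S0000.result (G := N)) hNna
      (l := [(2,6),(3,4),(5,1)]) (by decide +kernel) hNd
    have hc := cands_25920
    rw [List.all_eq_true] at hc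
    have h1 := hc g hg
    rw [← hord] at h1
    simp only [Bool.or_eq_true, bne_iff_ne, beq_iff_eq, ne_eq] at h1
    have h2 : Nat.card N % 5 = 0 := Nat.mod_eq_zero_of_dvd h5N
    have hidx : N.index = 1 ∨ N.index = 2 := by
      have h3 : N.index ∣ 4 := Dvd.intro_left _ hnn
      have h4 := Nat.le_of_dvd (by norm_num) h3
      have h5 : N.index ≠ 0 := Subgroup.index_ne_zero_of_finite
      interval_cases N.index
      · exact absurd rfl h5
      · exact Or.inl rfl
      · exact Or.inr rfl
      · omega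
      · omega
    have hvK : ∀ c k : ℕ, Nat.card K = c → c ≠ 0 → 3 ^ k ∣ c → ¬ 3 ^ (k + 1) ∣ c → 5 ∣ 3 ^ k - 1 := by
      intro c k h3 h4 h5 h6
      rw [h3, PSUFour.fac_of Nat.prime_three h4 h5 h6] at hv3
      exact hv3
    rcases h1 with ((h1 | h1) | h1) | h1
    · exact absurd h2 h1
    · exfalso
      rw [← hN, h1] at hKG
      rcases hidx with h3 | h3
      · rw [h3] at hKG
        have := hvK 432 3 (by omega) (by norm_num) (by norm_num) (by norm_num)
        norm_num at this
      · rw [h3] at hKG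
        have := hvK 216 3 (by omega) (by norm_num) (by norm_num) (by norm_num)
        norm_num at this
    · exfalso
      rw [← hN, h1] at hKG
      rcases hidx with h3 | h3
      · rw [h3] at hKG
        have := hvK 72 2 (by omega) (by norm_num) (by norm_num) (by norm_num)
        norm_num at this
      · rw [h3] at hKG
        have := hvK 36 2 (by omega) (by norm_num) (by norm_num) (by norm_num)
        norm_num at this
    · rw [h1, hG]

/-- **Recognition of `PSU_4(2)`.** -/
theorem recog {G : Type u} [Group G] [Finite G] {F : Type v} [Field F] [Fintype F] (hF : Fintype.card F = 2 ^ 2)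
    (hspec : ∀ x : G, ∃ y : PSU 4 F 2, orderOf y = orderOf x) (hspec' : ∀ y : PSU 4 F 2, ∃ x : G, orderOf x = orderOf y)
    (hcard : Nat.card G = Nat.card (PSU 4 F 2)) : Nonempty (G ≃* PSU 4 F 2) := by
  have hchar : CharP F 2 := OutLie.charP_of_card Nat.prime_two (f := 2) (by norm_num) hF
  have hp2 : Fact (Nat.Prime 2) := ⟨Nat.prime_two⟩
  have hY := PSUFour.psu_real_univ (F := F) (m := 4) (p := 2) (f := 1) Nat.prime_two le_rfl (by rw [hF]; norm_num) le_rfl
  have hc2 : Nat.card (PSU 4 F (2 ^ 1)) = 25920 := SpecialU.real_card hY (by decide +kernel)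
  have hc3 : Nat.card (PSU 4 F 2) = 25920 := by rw [← hc2, pow_one]
  have ho : orderOf (-((2 : ℕ) : ZMod 5)) = 4 := by
    rw [orderOf_eq_iff (by norm_num)]
    exact ⟨by decide, by decide⟩
  have h5F : ((5 : ℕ) : F) ≠ 0 := by
    rw [Ne, CharP.cast_eq_zero_iff F 2]
    norm_num
  have hE : ∀ k : ℕ, 2 ≤ k → NoEdge G 5 k := by
    intro k hk x hx
    obtain ⟨y, hy⟩ := hspec x
    have h1 := Unitary.psu_orderOf_dvd hF (r := 5) (by norm_num) h5F (by norm_num) (by norm_num) ho
      (x := y) (by rw [hy, hx]; exact dvd_mul_right 5 k)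
    have h2 : (Unitary.sg 2 4).natAbs / Nat.gcd 4 (2 + 1) = 5 := by decide
    rw [h2, hy, hx] at h1
    have := Nat.le_of_dvd (by norm_num) h1
    omega
  obtain ⟨z, hz⟩ := exists_nine hF
  obtain ⟨g, hg⟩ := hspec' z
  obtain ⟨K, hKn, H, hHs, hHna, hHG⟩ := main (hcard.trans hc3) ⟨g, hg.trans hz⟩ (hE 2 le_rfl) (hE 3 (by norm_num))
  obtain ⟨e⟩ := PSUFour.equiv_of_card K H hHG
  obtain ⟨e'⟩ := PSUUnique.psu_unique (G := H) hF (by norm_num) (by norm_num) (hHG.trans hcard)
  exact ⟨e.trans e'⟩

end Cfsg.Agent.H364.FourTwo
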