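import Mathlib
import Cfsg.Agent.H364.GTwoA
import Cfsg.Agent.S1059
import Cfsg.Agent.S1057
import Cfsg.Agent.ChevalleyStructure.G2Two.GSide

/-!
# The group `G₂(2)` has no elements of order 9, 14, 21 (helper364)
-/

set_option autoImplicit false

namespace Cfsg.Agent.H364.GTwo

open Subgroup Cfsg Cfsg.Agent.H364 Cfsg.Agent.H364.Unitary Cfsg.Agent.OrdDiv
open Cfsg.Agent.ChevalleyStructure.G2Two.GSide Cfsg.Agent.ChevalleyStructure.G2Two.GTables
  Cfsg.Agent.ChevalleyStructure.G2Two.Bits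

/-- `G₂(2)` -/
abbrev MM : Type := ↥(Lie.chevG2.group (ZMod 2))

theorem card_MM : Nat.card MM = 12096 := by
  have := Cfsg.Agent.S1059.result (F := ZMod 2) (q := 2) (ZMod.card 2)
  rw [this]
  norm_num

/-- two involutions -/
def ia : MM := ⟨X 2, X_mem 2⟩

def ib : MM := ⟨X 8 * (X 7 * X 8), mul_mem (X_mem 8) (mul_mem (X_mem 7) (X_mem 8))⟩

theorem ia_sq : ia * ia = 1 := Subtype.ext (X_mul_self 2)

theorem ib_sq : ib * ib = 1 := by
  apply Subtype.ext
  change X 8 * (X 7 * X 8) * (X 8 * (X 7 * X 8)) = 1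
  have h1 := X_mul_self 8
  have h2 := X_mul_self 7
  calc X 8 * (X 7 * X 8) * (X 8 * (X 7 * X 8)) = X 8 * (X 7 * (X 8 * X 8) * X 7) * X 8 := by
        simp only [mul_assoc]
    _ = 1 := by rw [h1, mul_one, h2, mul_one, h1]

theorem y_pow : (ia * ib) ^ 7 = 1 := by
  apply Subtype.ext
  change (X 2 * (X 8 * (X 7 * X 8))) ^ 7 = 1
  have hr : Rep (X 2 * (X 8 * (X 7 * X 8))) (mulB (XB 2) (mulB (XB 8) (mulB (XB 7) (XB 8)))) :=
    (X_rep 2).mul ((X_rep 8).mul ((X_rep 7).mul (X_rep 8)))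
  set W := mulB (XB 2) (mulB (XB 8) (mulB (XB 7) (XB 8))) with hW
  have h7 := hr.mul (hr.mul (hr.mul (hr.mul (hr.mul (hr.mul hr)))))
  have h8 : mulB W (mulB W (mulB W (mulB W (mulB W (mulB W W))))) = oneB := by decide +kernel
  rw [h8] at h7
  have h9 := h7.eq Rep.one
  rw [← h9]
  simp only [pow_succ, pow_zero, one_mul, mul_assoc]

theorem y_ne : ia * ib ≠ 1 := by
  intro h
  have h1 := congrArg Subtype.val h
  change X 2 * (X 8 * (X 7 * X 8)) = 1 at h1
  have hr : Rep (X 2 * (X 8 * (X 7 * X 8))) (mulB (XB 2) (mulB (XB 8) (mulB (XB 7) (XB 8)))) :=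
    (X_rep 2).mul ((X_rep 8).mul ((X_rep 7).mul (X_rep 8)))
  have h2 : toMat (mulB (XB 2) (mulB (XB 8) (mulB (XB 7) (XB 8)))) = 1 := by
    rw [← hr.2, h1]; rfl
  have h3 : toMat (mulB (XB 2) (mulB (XB 8) (mulB (XB 7) (XB 8)))) ≠ 1 := by decide +kernel
  exact h3 h2

theorem exists_psu : Nonempty (↥(commutator MM) ≃* PSU 3 F9 3) :=
  Cfsg.Agent.S1057.result (F := ZMod 2) (K := F9) (ZMod.card 2)
    (Cfsg.Agent.ChevalleyStructure.NineField.F9.card_F9)

theorem card_comm : Nat.card ↥(commutator MM) = 6048 := by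
  obtain ⟨e⟩ := exists_psu
  have h := Cfsg.Agent.S0280.result (F := F9) (q := 3) Cfsg.Agent.ChevalleyStructure.NineField.F9.card_F9 3 (by norm_num)
  rw [Nat.card_congr e.toEquiv]
  rw [Finset.prod_range_succ, Finset.prod_range_succ, Finset.prod_range_succ, Finset.prod_range_zero] at h
  norm_num at h
  omega

theorem index_comm : (commutator MM).index = 2 := by
  have h := Subgroup.card_mul_index (commutator MM)
  rw [card_MM, card_comm] at h
  omega

/-- elements of odd order lie in the derived subgroup -/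
theorem mem_of_odd {x : MM} (hx : Odd (orderOf x)) : x ∈ commutator MM := by
  have h1 : x ^ 2 ∈ commutator MM := by
    rw [← QuotientGroup.eq_one_iff, QuotientGroup.mk_pow]
    have h2 : Nat.card (MM ⧸ commutator MM) = 2 := by rw [← Subgroup.index_eq_card, index_comm]
    have h3 := pow_card_eq_one' (G := MM ⧸ commutator MM) (x := (x : MM ⧸ commutator MM))
    rwa [h2] at h3
  obtain ⟨k, hk⟩ := hx
  have h2 : x = (x ^ 2) ^ (k + 1) := by
    rw [← pow_mul, show 2 * (k + 1) = (2 * k + 1) + 1 by ring, pow_succ, ← hk, pow_orderOf_eq_one, one_mul]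
  rw [h2]
  exact pow_mem h1 _

theorem orderOf_comm (x : MM) (hx : x ∈ commutator MM) : (7 ∣ orderOf x → orderOf x ∣ 7) ∧ orderOf x ≠ 9 := by
  obtain ⟨e⟩ := exists_psu
  have h1 : orderOf (e ⟨x, hx⟩) = orderOf x := by
    rw [MulEquiv.orderOf_eq, Subgroup.orderOf_mk]
  rw [← h1]
  exact ⟨psu33_seven Cfsg.Agent.ChevalleyStructure.NineField.F9.card_F9 _,
    psu33_nine Cfsg.Agent.ChevalleyStructure.NineField.F9.card_F9 _⟩

theorem no_nine (x : MM) : orderOf x ≠ 9 := by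
  intro h
  exact (orderOf_comm x (mem_of_odd (by rw [h]; decide))).2 h

theorem no_twentyone : NoEdge MM 7 3 := by
  intro x h
  have := (orderOf_comm x (mem_of_odd (by rw [h]; decide))).1 (by rw [h]; norm_num)
  rw [h] at this
  norm_num at this

theorem not_invert_aux {C : Type*} [Group C] [Finite C] (hC : Nat.card C = 6048)
    (h7C : ∀ x : C, 7 ∣ orderOf x → orderOf x ∣ 7) {y t : C} (hy : orderOf y = 7) (hty : t * y * t⁻¹ = y⁻¹) :
    False := by
  have hp7 : Nat.Prime 7 := by norm_num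
  have hI : Isol C (zpowers y) 7 := by
    refine ⟨inferInstance, by rw [Nat.card_zpowers, hy], by rw [hC]; norm_num, ?_⟩
    intro r s hr hs hr7 hs7
    have hr' : r = 7 := (Nat.prime_dvd_prime_iff_eq hr hp7).1 hr7
    subst hr'
    intro x hx
    have h1 := h7C x (by rw [hx]; exact Dvd.intro _ rfl)
    rw [hx] at h1
    exact hs7 ((Dvd.intro_left _ rfl).trans h1)
  obtain ⟨n, hn, hnr⟩ := hI.exists_n
  have h2 := hI.modEq hn hp7 dvd_rfl
  have h3 := hnr 7 hp7 dvd_rfl
  rw [hC] at h2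
  have h4 : n ≤ 6 := Nat.le_of_dvd (by norm_num) h3
  have h5 : n = 3 := by
    have : (6048 / 7) % 7 = n % 7 := h2
    norm_num at this
    omega
  subst h5
  have h6 : t ∈ normalizer (zpowers y : Set C) := by
    have key : ∀ k : ℤ, t * y ^ k * t⁻¹ = y ^ (-k) := fun k => by
      rw [← conj_zpow, hty, inv_zpow, zpow_neg]
    rw [Subgroup.mem_normalizer_iff]
    intro x
    constructor
    · rintro ⟨k, rfl⟩
      exact ⟨-k, (key k).symm⟩
    · rintro ⟨k, hk⟩
      refine ⟨-k, ?_⟩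
      have h7 := key (-k)
      rw [neg_neg] at h7
      change y ^ k = t * x * t⁻¹ at hk
      rw [hk] at h7
      exact mul_left_cancel (mul_right_cancel h7)
  have h7 : t ^ 21 = 1 := by
    have h8 := pow_card_eq_one' (G := normalizer (zpowers y : Set C)) (x := ⟨t, h6⟩)
    rw [hn] at h8
    have h9 := congrArg Subtype.val h8
    rw [Subgroup.coe_pow] at h9
    exact h9
  have h8 : Commute (t ^ 2) y := by
    have h9 : t ^ 2 * y * (t ^ 2)⁻¹ = y := by
      have h10 : t ^ 2 * y * (t ^ 2)⁻¹ = t * (t * y * t⁻¹) * t⁻¹ := by rw [pow_two]; group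
      have h11 : t * y⁻¹ * t⁻¹ = (t * y * t⁻¹)⁻¹ := by group
      rw [h10, hty, h11, hty, inv_inv]
    exact mul_inv_eq_iff_eq_mul.1 h9
  have h9 : Commute t y := by
    have h10 : t = (t ^ 2) ^ 11 := by
      rw [← pow_mul, show 2 * 11 = 21 + 1 by norm_num, pow_succ, h7, one_mul]
    rw [h10]
    exact h8.pow_left 11
  have h10 : y = y⁻¹ := by
    rw [← hty, h9.eq, mul_inv_cancel_right]
  have h11 : y ^ 2 = 1 := by
    rw [pow_two]
    nth_rewrite 1 [h10]
    exact inv_mul_cancel y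
  have h12 := orderOf_dvd_of_pow_eq_one h11
  rw [hy] at h12
  norm_num at h12

/-- abstract form of the statement that `G₂(2)` has no elements of order 14 -/
theorem no_fourteen_aux {G : Type*} [Group G] [Finite G] (hG : Nat.card G = 12096) (C : Subgroup G)
    (hCi : C.index = 2) (hCc : Nat.card C = 6048) (hodd : ∀ x : G, Odd (orderOf x) → x ∈ C)
    (h7C : ∀ x ∈ C, 7 ∣ orderOf x → orderOf x ∣ 7) (a b : G) (ha : a * a = 1) (hb : b * b = 1)
    (hab : (a * b) ^ 7 = 1) (hab1 : a * b ≠ 1) : NoEdge G 7 2 := by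
  intro x hx
  have hp7 : Nat.Prime 7 := by norm_num
  have := Fact.mk hp7
  have not_invert : ∀ {y t : G}, orderOf y = 7 → t ∈ C → t * y * t⁻¹ = y⁻¹ → False := by
    intro y t hy ht hty
    have hyc : y ∈ C := hodd y (by rw [hy]; decide)
    refine not_invert_aux (C := C) hCc (fun x h => ?_) (y := ⟨y, hyc⟩) (t := ⟨t, ht⟩)
      (by rw [Subgroup.orderOf_mk, hy]) (Subtype.ext hty)
    rw [← Subgroup.orderOf_coe] at h ⊢
    exact h7C (x : G) x.2 h
  -- the element `y₀ = a * b` of order 7 is inverted by `a`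
  set y₀ : G := a * b with hy₀
  have hy₀o : orderOf y₀ = 7 := orderOf_eq_prime hab hab1
  have hinv : a * y₀ * a⁻¹ = y₀⁻¹ := by
    have h1 : a⁻¹ = a := inv_eq_of_mul_eq_one_right ha
    have h2 : b⁻¹ = b := inv_eq_of_mul_eq_one_right hb
    rw [hy₀, mul_inv_rev, h1, h2, ← mul_assoc, ha, one_mul]
  -- `y = x ^ 2` has order 7, `z = x ^ 7` is an involution commuting with `y`
  have hy : orderOf (x ^ 2) = 7 := by rw [orderOf_pow, hx]; norm_num
  have hz : orderOf (x ^ 7) = 2 := by rw [orderOf_pow, hx]; norm_num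
  -- conjugate `⟨y⟩` into `⟨y₀⟩`
  have hcard : ∀ w : G, orderOf w = 7 → Nat.card (zpowers w) = 7 ^ (Nat.card G).factorization 7 := by
    intro w hw
    rw [Nat.card_zpowers, hw, hG]
    have : Nat.factorization 12096 7 = 1 := by
      have h1 : 7 ^ 1 ∣ 12096 := by norm_num
      have h2 : ¬ 7 ^ (1 + 1) ∣ 12096 := by norm_num
      have h3 := (hp7.pow_dvd_iff_le_factorization (n := 12096) (by norm_num)).1 h1
      have h4 : ¬ (1 + 1 ≤ Nat.factorization 12096 7) :=
        fun h => h2 ((hp7.pow_dvd_iff_le_factorization (by norm_num)).2 h)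
      omega
    rw [this]; norm_num
  obtain ⟨g, hg⟩ := MulAction.exists_smul_eq G (Sylow.ofCard (zpowers y₀) (hcard _ hy₀o))
    (Sylow.ofCard (zpowers (x ^ 2)) (hcard _ hy))
  have hmem : g * y₀ * g⁻¹ ∈ zpowers (x ^ 2) := by
    have h1 : ((g • Sylow.ofCard (zpowers y₀) (hcard _ hy₀o) : Sylow 7 G) : Subgroup G) = zpowers (x ^ 2) := by
      rw [hg]; rfl
    rw [← h1]
    exact ⟨y₀, mem_zpowers y₀, rfl⟩
  set y₁ : G := g * y₀ * g⁻¹ with hy₁
  set t : G := g * a * g⁻¹ with ht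
  have hy₁o : orderOf y₁ = 7 := by
    rw [hy₁, ← hy₀o]
    exact orderOf_injective (MulAut.conj g).toMonoidHom (MulAut.conj g).injective y₀
  have htinv : t * y₁ * t⁻¹ = y₁⁻¹ := by
    rw [ht, hy₁]
    calc g * a * g⁻¹ * (g * y₀ * g⁻¹) * (g * a * g⁻¹)⁻¹ = g * (a * y₀ * a⁻¹) * g⁻¹ := by group
      _ = (g * y₀ * g⁻¹)⁻¹ := by rw [hinv]; group
  have hzy : Commute (x ^ 7) y₁ := by
    obtain ⟨k, hk⟩ := hmem
    rw [← hk]
    exact ((Commute.refl x).pow_pow 7 2).zpow_right k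
  have hzn : x ^ 7 ∉ C := by
    intro hzc
    have hxc : x ∈ C := by
      have hx2 : x ^ 2 ∈ C := hodd _ (by rw [hy]; decide)
      have : x = x ^ 7 * ((x ^ 2) ^ 3)⁻¹ := by group
      rw [this]
      exact mul_mem hzc (inv_mem (pow_mem hx2 3))
    have h1 := h7C x hxc (by rw [hx]; norm_num)
    rw [hx] at h1
    norm_num at h1
  by_cases htc : t ∈ C
  · exact not_invert hy₁o htc htinv
  · have h1 : x ^ 7 * t ∈ C := by
      exact (Subgroup.mul_mem_iff_of_index_two hCi).2 (by tauto)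
    refine not_invert hy₁o h1 ?_
    calc x ^ 7 * t * y₁ * (x ^ 7 * t)⁻¹ = x ^ 7 * (t * y₁ * t⁻¹) * (x ^ 7)⁻¹ := by group
      _ = x ^ 7 * y₁⁻¹ * (x ^ 7)⁻¹ := by rw [htinv]
      _ = y₁⁻¹ := by rw [hzy.inv_right.eq, mul_inv_cancel_right]

theorem no_fourteen : NoEdge MM 7 2 :=
  no_fourteen_aux card_MM (commutator MM) index_comm card_comm (fun _ h => mem_of_odd h)
    (fun x hx => (orderOf_comm x hx).1) ia ib ia_sq ib_sq y_pow y_ne

/-- `G₂(2) ≅ Aut(PSU₃(3))`. -/
theorem exists_equiv : Nonempty (MM ≃* MulAut (PSU 3 F9 3)) :=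
  main card_MM no_fourteen no_twentyone no_nine

end Cfsg.Agent.H364.GTwo
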