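import Mathlib
import Cfsg.Agent.H364.Iso3
import Cfsg.Agent.H364.UTorus
import Cfsg.Agent.H364.ArithU3
import Cfsg.Agent.Lib.Zsigmondy
import Cfsg.Agent.S0280

/-!
# Groups with the order and the element orders of `PSU₃(q)`, `q ≥ 3` (helper364)
-/

set_option autoImplicit false

namespace Cfsg.Agent.H364.PSUThree

open Subgroup Cfsg Cfsg.Agent.H364 Cfsg.Agent.H364.Unitary Cfsg.Agent.H364.ArithU3

/-- the order of the Hall subgroup, `q = s + 1` -/
def mm (s : ℕ) : ℕ := (s ^ 2 + s + 1) / Nat.gcd 3 (s + 2)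

theorem mm_mul (s : ℕ) : mm s * Nat.gcd 3 (s + 2) = s ^ 2 + s + 1 := (gcd_cases s).2.2

theorem mm_cop_three (s : ℕ) : ¬ 3 ∣ mm s := by
  intro h
  obtain ⟨hd, hd3, hm⟩ := gcd_cases s
  rw [← mm] at hm
  rcases hd with h1 | h1
  · rw [h1, mul_one] at hm
    rw [hm] at h
    -- `s ^ 2 + s + 1 ≡ 0 mod 3` forces `s ≡ 1`
    have h2 : ¬ 3 ∣ s + 2 := by
      intro h3
      have := Nat.dvd_gcd (dvd_refl 3) h3
      rw [h1] at this
      norm_num at this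
    have h3 : s % 3 = 0 ∨ s % 3 = 2 := by omega
    have h4 : (s ^ 2 + s + 1) % 3 = 0 := Nat.mod_eq_zero_of_dvd h
    rcases h3 with h3 | h3 <;> · simp [Nat.add_mod, Nat.pow_mod, h3] at h4
  · rw [h1] at hm
    have h3 := hd3 h1
    obtain ⟨l, hl⟩ : ∃ l, s = 3 * l + 1 := by
      obtain ⟨k, hk⟩ := h3
      exact ⟨k - 1, by omega⟩
    obtain ⟨c, hc⟩ := h
    rw [hc, hl] at hm
    have h5 : 3 * c = 3 * l ^ 2 + 3 * l + 1 := by
      have : 3 * (3 * c) = 3 * (3 * l ^ 2 + 3 * l + 1) := by nlinarith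
      omega
    omega

theorem mm_odd (s : ℕ) : ¬ 2 ∣ mm s := by
  intro h
  have h1 : 2 ∣ s ^ 2 + s + 1 := by
    rw [← mm_mul]
    exact h.mul_right _
  rcases Nat.even_or_odd s with ⟨k, hk⟩ | ⟨k, hk⟩
  · rw [hk] at h1
    have : (k + k) ^ 2 + (k + k) + 1 = 2 * (2 * k ^ 2 + k) + 1 := by ring
    omega
  · rw [hk] at h1
    have : (2 * k + 1) ^ 2 + (2 * k + 1) + 1 = 2 * (2 * k ^ 2 + 3 * k + 1) + 1 := by ring
    omega

theorem one_lt_mm {s : ℕ} (hs : 2 ≤ s) : 1 < mm s := by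
  have h1 := mm_mul s
  have h2 : Nat.gcd 3 (s + 2) ≤ 3 := Nat.gcd_le_left _ (by norm_num)
  by_contra h
  have h3 : mm s * Nat.gcd 3 (s + 2) ≤ 1 * 3 := Nat.mul_le_mul (by omega) h2
  nlinarith

/-- primes dividing `mm s` -/
theorem ord_eq {s r : ℕ} (hr : r.Prime) (h : r ∣ mm s) : orderOf (-((s + 1 : ℕ) : ZMod r)) = 3 := by
  have := Fact.mk hr
  have h3 : Fact (Nat.Prime 3) := ⟨Nat.prime_three⟩
  have h1 : r ∣ s ^ 2 + s + 1 := by
    rw [← mm_mul]
    exact h.mul_right _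
  have h2 : ((s : ZMod r)) ^ 2 + s + 1 = 0 := by
    have := (ZMod.natCast_eq_zero_iff (s ^ 2 + s + 1) r).2 h1
    push_cast at this
    exact this
  apply orderOf_eq_prime
  · push_cast
    linear_combination (-(s : ZMod r) - 2) * h2
  · intro h4
    push_cast at h4
    have h5 : (s : ZMod r) = -2 := by linear_combination -h4
    rw [h5] at h2
    have h6 : ((3 : ℕ) : ZMod r) = 0 := by push_cast; linear_combination h2
    have h7 := (ZMod.natCast_eq_zero_iff 3 r).1 h6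
    have h8 := (Nat.prime_dvd_prime_iff_eq hr Nat.prime_three).1 h7
    subst h8
    exact mm_cop_three s h

theorem sg_three (s : ℕ) : (sg (s + 1) 3).natAbs = s ^ 2 + s + 1 := by
  have h : sg (s + 1) 3 = ((s ^ 2 + s + 1 : ℕ) : ℤ) := by
    rw [sg, Finset.sum_range_succ, Finset.sum_range_succ, Finset.sum_range_succ, Finset.sum_range_zero]
    push_cast
    ring
  rw [h, Int.natAbs_natCast]

theorem torus_eq (s : ℕ) : ((s + 1) ^ 3 + 1) / (s + 1 + 1) = s ^ 2 + s + 1 := by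
  have : (s + 1) ^ 3 + 1 = (s ^ 2 + s + 1) * (s + 1 + 1) := by ring
  rw [this, Nat.mul_div_cancel _ (by omega)]

variable {F : Type*} [Field F] [Fintype F] {s : ℕ}

theorem ne_zero_of_dvd_mm (hF : Fintype.card F = (s + 1) ^ 2) {r : ℕ} (hr : r.Prime) (h : r ∣ mm s) :
    (r : F) ≠ 0 := by
  obtain ⟨p, k, hp, hchar, hq, hk⟩ := Cfsg.Agent.LieClassical.HermBasic.exists_prime_pow hF
  rw [Ne, CharP.cast_eq_zero_iff F p]
  intro h1
  have h2 := (Nat.prime_dvd_prime_iff_eq hp hr).1 h1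
  subst h2
  have h3 : p ∣ s + 1 := by rw [hq]; exact dvd_pow_self p hk.ne'
  have h4 : p ∣ s ^ 2 + s + 1 := by
    rw [← mm_mul]
    exact h.mul_right _
  have h5 : s ^ 2 + s + 1 = s * (s + 1) + 1 := by ring
  rw [h5] at h4
  have h6 : p ∣ 1 := (Nat.dvd_add_right (h3.mul_left s)).1 h4
  exact hp.one_lt.ne' (Nat.dvd_one.1 h6)

/-- the order of elements of `PSU₃` -/
theorem orderOf_dvd_mm (hF : Fintype.card F = (s + 1) ^ 2) {r : ℕ} (hr : r.Prime) (h : r ∣ mm s)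
    {x : PSU 3 F (s + 1)} (hx : r ∣ orderOf x) : orderOf x ∣ mm s := by
  have h1 := psu_orderOf_dvd hF hr (ne_zero_of_dvd_mm hF hr h) (by norm_num) le_rfl (ord_eq hr h) hx
  rwa [sg_three] at h1

theorem exists_orderOf_mm (hF : Fintype.card F = (s + 1) ^ 2) (hs : 2 ≤ s) :
    ∃ x : PSU 3 F (s + 1), orderOf x = mm s := by
  obtain ⟨x, hx⟩ := UTorus.exists_psu_orderOf hF (n := 3) (by decide) le_rfl
  rw [torus_eq, ← mm_mul] at hx
  have hd : 0 < Nat.gcd 3 (s + 1 + 1) := Nat.gcd_pos_of_pos_left _ (by norm_num)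
  have h1 : mm s ∣ orderOf x := Nat.dvd_of_mul_dvd_mul_right hd hx
  obtain ⟨r, hr, hrm⟩ := Nat.exists_prime_and_dvd (one_lt_mm hs).ne'
  exact ⟨x, Nat.dvd_antisymm (orderOf_dvd_mm hF hr hrm (hrm.trans h1)) h1⟩

theorem card_psu (hF : Fintype.card F = (s + 1) ^ 2) :
    Nat.card (PSU 3 F (s + 1)) = (s + 1) ^ 3 * (s * (s + 2) ^ 2) * mm s := by
  have h := Cfsg.Agent.S0280.result hF 3 (by norm_num)
  rw [Finset.prod_range_succ, Finset.prod_range_succ, Finset.prod_range_succ, Finset.prod_range_zero] at h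
  have h1 : Even 0 := by decide
  have h2 : ¬ Even 1 := by decide
  have h3 : Even 2 := by decide
  rw [if_pos h1, if_neg h2, if_pos h3] at h
  have h4 : (s + 1) ^ (1 + 1) - 1 = s * (s + 2) := by
    have : (s + 1) ^ (1 + 1) = s * (s + 2) + 1 := by ring
    omega
  rw [h4] at h
  have hd : 0 < Nat.gcd 3 (s + 1 + 1) * (s + 1 + 1) :=
    Nat.mul_pos (Nat.gcd_pos_of_pos_left _ (by norm_num)) (by omega)
  apply Nat.eq_of_mul_eq_mul_left hd
  have h5 := mm_mul s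
  calc Nat.gcd 3 (s + 1 + 1) * (s + 1 + 1) * Nat.card (PSU 3 F (s + 1))
      = Nat.gcd 3 (s + 1 + 1) * ((s + 1 + 1) * Nat.card (PSU 3 F (s + 1))) := by ring
    _ = (s + 1) ^ (3 * (3 - 1) / 2) * (1 * ((s + 1) ^ (0 + 1) + 1) * (s * (s + 2)) * ((s + 1) ^ (2 + 1) + 1)) := h
    _ = (s + 1) ^ 3 * ((s + 2) ^ 2 * (s * (s + 2))) * (s ^ 2 + s + 1) := by norm_num; ring
    _ = Nat.gcd 3 (s + 1 + 1) * (s + 1 + 1) * ((s + 1) ^ 3 * (s * (s + 2) ^ 2) * mm s) := by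
      rw [← h5, show s + 1 + 1 = s + 2 by ring]; ring

end Cfsg.Agent.H364.PSUThree
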