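import Mathlib
import Cfsg.Agent.H364.MinusEight

/-!
# Order and spectrum: the rows `PΩ⁻(2n, q)`, `n ≥ 4`, and `PΩ⁺(2n, q)`, `n ≥ 5` odd (helper364)
-/

set_option autoImplicit false

namespace Cfsg.Agent.H364.RowsOrth

open Cfsg

universe u v

variable {F : Type v} [Field F] [Fintype F]

/-- **The row `PΩ⁻(2n, q)`.** -/
theorem row_minus {G : Type u} [Group G] [Finite G] {n : ℕ} (hn : 4 ≤ n) {a b : F}
    (hab : ∀ z₁ z₂ : F, z₁ ^ 2 + a * z₁ * z₂ + b * z₂ ^ 2 = 0 → z₁ = 0 ∧ z₂ = 0)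
    (hspec : ∀ x : G, ∃ y : POmega F (quadFormMinus (n - 1) F a b), orderOf y = orderOf x)
    (hcard : Nat.card G = Nat.card (POmega F (quadFormMinus (n - 1) F a b))) : IsSimpleGroup G := by
  obtain ⟨p, f, hp, hf, hF⟩ := (isPrimePow_nat_iff _).1 (Fintype.isPrimePow_card_of_field (α := F))
  apply OrthRow.isSimple_of
  by_cases h42 : n = 4 ∧ p = 2 ∧ f = 1
  · obtain ⟨rfl, rfl, rfl⟩ := h42
    exact MinusEight.core (by rw [← hF, pow_one]) hab hspec hcard
  · exact OrthRow.minus_core hp hf hF.symm hn h42 hab hspec hcard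

/-- **The row `PΩ⁺(2n, q)`, `n` odd.** -/
theorem row_plus_odd {G : Type u} [Group G] [Finite G] {n : ℕ} (hn : 5 ≤ n) (hodd : Odd n)
    (hspec : ∀ x : G, ∃ y : POmega F (quadFormPlus n F), orderOf y = orderOf x)
    (hcard : Nat.card G = Nat.card (POmega F (quadFormPlus n F))) : IsSimpleGroup G := by
  obtain ⟨p, f, hp, hf, hF⟩ := (isPrimePow_nat_iff _).1 (Fintype.isPrimePow_card_of_field (α := F))
  exact OrthRow.isSimple_of (OrthRow.plus_core hp hf hF.symm hn hodd hspec hcard)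

end Cfsg.Agent.H364.RowsOrth
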