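import Mathlib
import Cfsg.Agent.H364.SpElim
import Cfsg.Agent.H364.SpHyp
import Cfsg.Agent.S3534
import Cfsg.Agent.S3535

/-!
# The rows `PSp(2n, q)` and `PΩ(2n + 1, q)` (helper364)
-/

set_option autoImplicit false

namespace Cfsg.Agent.H364.SpRows

open Subgroup Cfsg Cfsg.Agent.OrdDiv Cfsg.Agent.H364 Cfsg.Agent.H902 Cfsg.Agent.H364.SpFrame Cfsg.Agent.H420.QR

universe u v

set_option maxHeartbeats 1000000 in
/-- no alternating, sporadic or Tits simple factors -/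
theorem no_alt_spor {L : Type v} [Group L] [Finite L]
    (hL : (Cfsg.IsPSp L ∧ ∀ (F : Type) [Field F] [Fintype F], Fintype.card F = 3 → ¬ Nonempty (L ≃* Cfsg.PSp 2 F)) ∨
      Cfsg.IsPOmegaOdd L ∨ Cfsg.IsPOmegaPlus L ∨ Cfsg.IsPOmegaMinus L) {G : Type u} [Group G] [Finite G]
    (h : Set.range (orderOf : G → ℕ) = Set.range (orderOf : L → ℕ)) {K : Subgroup G} [K.Normal]
    {S : Subgroup (G ⧸ K)} [S.Normal] (hR : Red G K S) :
    (∀ k, ¬ Nonempty (S ≃* ↥(alternatingGroup (Fin k)))) ∧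
      ∀ x ∈ spor, OrdDiv.Real x.1 S → Nat.card S = x.2 → False := by
  obtain ⟨K', H, hK', hH, hle, -, -, ⟨e⟩⟩ := hR.quasi (L := ↥S) ⟨MulEquiv.refl _⟩
  have hsS := hR.simple
  have hs : IsSimpleGroup (↥H ⧸ K'.subgroupOf H) := (e.isSimpleGroup_congr).2 hsS
  have hna : ¬ IsMulCommutative (↥H ⧸ K'.subgroupOf H) := fun hc => hR.nonab ⟨⟨fun a b =>
    e.symm.injective (by rw [map_mul, map_mul]; exact hc.is_comm.comm _ _)⟩⟩
  constructor
  · rintro k ⟨e'⟩
    exact S3534.result hL h H hH.isSubnormal (K'.subgroupOf H) hs hna k ⟨e.trans e'⟩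
  · intro x hx hx1 hx2
    obtain ⟨h1, h2⟩ := S3535.result hL h H hH.isSubnormal (K'.subgroupOf H) hs hna
    have hc : Nat.card (↥H ⧸ K'.subgroupOf H) = x.2 := by rw [Nat.card_congr e.toEquiv, hx2]
    unfold spor at hx
    simp only [List.mem_cons, List.not_mem_nil, or_false] at hx
    simp only [IsSporadic, IsM11, IsM12, IsM22, IsM23, IsM24, IsJ1, IsJ2, IsJ3, IsJ4, IsCo1, IsCo2, IsCo3, IsFi22,
      IsFi23, IsFi24', IsHS, IsMcL, IsHe, IsRu, IsSuz, IsON, IsHN, IsLy, IsTh, IsB, IsM, hs, true_and] at h1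
    rcases hx with rfl | hx
    · obtain ⟨e'⟩ := hx1
      exact h2 ⟨e.trans e'⟩
    · apply h1
      rw [hc]
      rcases hx with rfl | rfl | rfl | rfl | rfl | rfl | rfl | rfl | rfl | rfl | rfl | rfl | rfl | rfl | rfl | rfl |
        rfl | rfl | rfl | rfl | rfl | rfl | rfl | rfl | rfl | rfl <;> simp

end Cfsg.Agent.H364.SpRows
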